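import Cfsg.Agent.Lib.PushingUp.Layer

/-!
Distance two, common facts.

* `coprime_stab`: the coprime stabiliser trick.
* `Side.moduleLayer`: the layer `Y / Z_G`.
* `Pair.not_commute`: for `t ∈ T' \ T` some `[t, l]` does not centralise `W = U^g`.
* `Pair.mem_centralizer_of_test`: the test `[l, [t, l]] ∈ Z_{G'}`.
-/

set_option autoImplicit false

open Subgroup Cfsg.Agent.CentrallyLarge
open scoped Pointwise

namespace Cfsg.Agent.PushingUp

open Real

/-- An element of coprime order stabilising a two step series moves nothing. -/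
theorem coprime_stab {H : Type*} [Group H] {p : ℕ} {c x y : H} {n : ℕ} (hn : n.Coprime p)
    (hc : c ^ n = 1) (hy : c * y * c⁻¹ = y) (hx : c * x * c⁻¹ = x * y) {a : ℕ} (hyp : y ^ p ^ a = 1) :
    y = 1 := by
  have hpow : ∀ j : ℕ, c ^ j * x * (c ^ j)⁻¹ = x * y ^ j := by
    intro j
    induction j with
    | zero => simp
    | succ j ih =>
      calc c ^ (j + 1) * x * (c ^ (j + 1))⁻¹ = c * (c ^ j * x * (c ^ j)⁻¹) * c⁻¹ := by rw [pow_succ']; group
        _ = c * (x * y ^ j) * c⁻¹ := by rw [ih]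
        _ = c * x * c⁻¹ * (c * y * c⁻¹) ^ j := by rw [conj_pow]; group
        _ = x * y ^ (j + 1) := by rw [hy, hx, pow_succ']; group
  have h1 := hpow n
  rw [hc, one_mul, inv_one, mul_one] at h1
  have h2 : y ^ n = 1 := by simpa using h1.symm
  exact orderOf_eq_one_iff.mp (Nat.eq_one_of_dvd_coprimes (hn.pow_right a)
    (orderOf_dvd_of_pow_eq_one h2) (orderOf_dvd_of_pow_eq_one hyp))

variable {P : Type*} [Group P] [Finite P] {G : Type*} [Group G] [Finite G] {G' : Type*} [Group G']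
  [Finite G'] {p : ℕ} [Fact p.Prime] {τ : P →* G} {τ' : P →* G'}

omit [Finite P] [Finite G] [Fact p.Prime] in
theorem Zg_normal (τ : P →* G) : ((Zg τ).map τ).Normal := by
  refine ⟨fun a ha k => ?_⟩
  obtain ⟨z, hz, rfl⟩ := ha
  rw [mem_Zg.mp hz k, mul_inv_cancel_right]
  exact mem_map_of_mem τ hz

namespace Side

theorem moduleLayer (h : Side p τ) :
    Layer p τ (Y p τ) (Zg τ) (center P) ∧
      Nat.card ↥(center P) * Nat.card ↥(T p τ) = Nat.card ↥(Zg τ) * Nat.card P := by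
  refine ⟨⟨h.Zg_le_center, Side.center_le_Y, h.centralizer_T_le, h.core.2.1, Zg_normal τ,
    fun v a ha => ?_, fun v x hx => h.quad hx v, fun t ht x hx => ?_, fun x hx => ?_,
    fun g hg => (h.center_inf_cj hg).le, fun g hg x hx => ?_⟩, ?_⟩
  · rw [mem_center_iff.mp ha v, mul_inv_cancel_right, mul_inv_cancel]
    exact one_mem _
  · rw [hx t ht, mul_inv_cancel_right, mul_inv_cancel]
    exact one_mem _
  · rw [h.pow_eq_one hx]
    exact one_mem _
  · rw [← h.center_sup_cj hg] at hx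
    exact mem_sup_of_normal_left.mp hx
  · obtain ⟨g, hg⟩ := PushingUp.exists_Gen h.sit
    have hZT : center P ≤ T p τ := Side.center_le_Y.trans h.centralizer_T_le
    have h1 := card_prod_mul (center P) (cj τ g (center P))
    rw [← Subgroup.coe_mul_of_left_le_normalizer_right _ _ (by
      intro z hz
      refine mem_normalizer_fintype fun b hb => ?_
      show z * b * z⁻¹ ∈ cj τ g (center P)
      rw [show z * b = b * z from (mem_center_iff.mp hz b).symm, mul_inv_cancel_right]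
      exact hb), h.center_sup_cj hg, h.center_inf_cj hg, card_cj h.inj h.core_le hZT] at h1
    have h2 : Nat.card ↥(Y p τ) * Nat.card ↥(T p τ) = Nat.card P * Nat.card ↥(center P) := by
      rw [mul_comm]; exact h.measure h.large_T
    refine Nat.eq_of_mul_eq_mul_left (Nat.card_pos (α := ↥(center P))) ?_
    calc Nat.card ↥(center P) * (Nat.card ↥(center P) * Nat.card ↥(T p τ))
        = Nat.card ↥(Y p τ) * Nat.card ↥(Zg τ) * Nat.card ↥(T p τ) := by rw [← mul_assoc]; exact congrArg (· * _) h1.symm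
      _ = Nat.card ↥(Zg τ) * (Nat.card ↥(Y p τ) * Nat.card ↥(T p τ)) := by ring
      _ = _ := by rw [h2]; ring

theorem center_not_le_Zg (h : Side p τ) : ¬ center P ≤ Zg τ :=
  fun hle => h.Zg_ne (le_antisymm h.Zg_le_center hle)

end Side

namespace Pair

variable {g : G}

theorem exists_W (h : Pair p τ τ') (hW : ¬ cj τ g (Y p τ ⊔ Y p τ') ≤ T p τ') :
    ∃ l ∈ cj τ g (Y p τ ⊔ Y p τ'), l ∉ T p τ' := SetLike.not_le_iff_exists.mp hW

theorem U_pow (h : Pair p τ τ') {w : P} (hw : w ∈ Y p τ ⊔ Y p τ') : w ^ p = 1 := by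
  obtain ⟨y, hy, y', hy', rfl⟩ := h.mul_mem_U hw
  rw [(show Commute y y' from (hy y' (h.nc hy')).symm).mul_pow, h.left.pow_eq_one hy, h.right.pow_eq_one hy',
    mul_one]

theorem W_pow (h : Pair p τ τ') {l : P} (hl : l ∈ cj τ g (Y p τ ⊔ Y p τ')) : l ^ p = 1 := by
  obtain ⟨u, hu, he⟩ := mem_cj.mp hl
  exact h.left.inj (by rw [map_pow, ← he, conj_pow, ← map_pow, h.U_pow hu, map_one, mul_one, mul_inv_cancel])

theorem W_comm (h : Pair p τ τ') {l l' : P} (hl : l ∈ cj τ g (Y p τ ⊔ Y p τ'))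
    (hl' : l' ∈ cj τ g (Y p τ ⊔ Y p τ')) : l * l' = l' * l := by
  obtain ⟨u, hu, he⟩ := mem_cj.mp hl
  obtain ⟨u', hu', he'⟩ := mem_cj.mp hl'
  have hc : u * u' = u' * u := by
    have h1 : u' ∈ centralizer ((Y p τ ⊔ Y p τ' : Subgroup P) : Set P) := h.centralizer_U.ge (h.U_le hu')
    exact h1 u hu
  apply h.left.inj
  rw [map_mul, map_mul, ← he, ← he']
  calc g * τ u * g⁻¹ * (g * τ u' * g⁻¹) = g * (τ u * τ u') * g⁻¹ := by group
    _ = g * (τ u' * τ u) * g⁻¹ := by rw [← map_mul, ← map_mul, hc]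
    _ = _ := by group

theorem W_value (h : Pair p τ τ') (hn : ¬ ((Y p τ ⊔ Y p τ').map τ).Normal) {l t : P}
    (hl : l ∈ cj τ g (Y p τ ⊔ Y p τ')) (ht : t ∈ T p τ) : l * t * l⁻¹ * t⁻¹ ∈ Zg τ := by
  obtain ⟨u, hu, he⟩ := mem_cj.mp hl
  obtain ⟨t₀, ht₀, he'⟩ := Real.exists_conj h.left.core_le g⁻¹ ht
  rw [inv_inv] at he'
  have h1 := h.value hn hu ht₀
  have e : τ (l * t * l⁻¹ * t⁻¹) = g * τ (u * t₀ * u⁻¹ * t₀⁻¹) * g⁻¹ := by
    simp only [map_mul, map_inv, ← he, ← he']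
    group
  rw [Side.mem_cj_Zg g h1] at e
  exact h.left.inj e ▸ h1

theorem W_quad (h : Pair p τ τ') (hn : ¬ ((Y p τ ⊔ Y p τ').map τ).Normal) {l t : P}
    (hl : l ∈ cj τ g (Y p τ ⊔ Y p τ')) (ht : t ∈ T p τ) : t * l * t⁻¹ * l⁻¹ ∈ Zg τ := by
  have h1 := inv_mem (h.W_value hn hl ht)
  rwa [show (l * t * l⁻¹ * t⁻¹)⁻¹ = t * l * t⁻¹ * l⁻¹ by group] at h1

theorem mem_X_of_comm (h : Pair p τ τ') {t l : P} (ht : t ∈ T p τ') (hl : l ∈ T p τ) :
    t * l * t⁻¹ * l⁻¹ ∈ T p τ ⊓ T p τ' := by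
  refine ⟨(T p τ).mul_mem ((normal_T p τ).conj_mem l hl t) ((T p τ).inv_mem hl), ?_⟩
  have h1 := (T p τ').mul_mem ht ((normal_T p τ').conj_mem _ ((T p τ').inv_mem ht) l)
  have e : t * l * t⁻¹ * l⁻¹ = t * (l * t⁻¹ * l⁻¹) := by group
  show t * l * t⁻¹ * l⁻¹ ∈ T p τ'
  rw [e]
  exact h1

/-- For `t ∈ T' \ T` the conjugate `t U^g t⁻¹` does not commute with `U^g`. -/
theorem not_commute (h : Pair p τ τ') (hn : ¬ ((Y p τ ⊔ Y p τ').map τ).Normal) (hg : Gen p τ.range g)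
    {t : P} (ht : t ∉ T p τ)
    (hc : ∀ l ∈ cj τ g (Y p τ ⊔ Y p τ'),
      t * l * t⁻¹ * l⁻¹ ∈ centralizer (cj τ g (Y p τ ⊔ Y p τ') : Set P)) : False := by
  have hl := h.left
  have hg₂ := PushingUp.gen_conj hl.sit hg ⟨t, rfl⟩ (fun hm => ht (mem_T.mpr hm))
  refine h.moved hn hg₂ fun x hx => ?_
  obtain ⟨u, hu, hux⟩ := mem_cj.mp hx
  obtain ⟨l, -, hul⟩ := Real.exists_conj hl.core_le g (h.U_le_T hu)
  have hlW : l ∈ cj τ g (Y p τ ⊔ Y p τ') := mem_cj.mpr ⟨u, hu, hul⟩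
  refine (h.centralizer_U.le (fun w hw => ?_)).2
  obtain ⟨l', -, hwl⟩ := Real.exists_conj hl.core_le g (h.U_le_T hw)
  have hl'W : l' ∈ cj τ g (Y p τ ⊔ Y p τ') := mem_cj.mpr ⟨w, hw, hwl⟩
  have h1 : l' * (t * l * t⁻¹) = t * l * t⁻¹ * l' := by
    have h2 := hc l hlW l' hl'W
    calc l' * (t * l * t⁻¹) = l' * (t * l * t⁻¹ * l⁻¹) * l := by group
      _ = t * l * t⁻¹ * l⁻¹ * (l' * l) := by rw [h2]; group
      _ = _ := by rw [h.W_comm hl'W hlW]; group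
  apply hl.inj
  have e : τ x = g⁻¹ * τ (t * l * t⁻¹) * g := by
    rw [← hux, map_mul, map_mul, map_inv, ← hul]; group
  have e' : τ w = g⁻¹ * τ l' * g := by rw [← hwl]; group
  rw [map_mul, map_mul, e, e']
  calc g⁻¹ * τ l' * g * (g⁻¹ * τ (t * l * t⁻¹) * g) = g⁻¹ * (τ l' * τ (t * l * t⁻¹)) * g := by group
    _ = g⁻¹ * (τ (t * l * t⁻¹) * τ l') * g := by rw [← map_mul, ← map_mul, h1]
    _ = _ := by group

/-- `[t, l]` centralises `U^g` as soon as `[l, [t, l]]` is central in `G'`. -/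
theorem mem_centralizer_of_test (h : Pair p τ τ') (hW : ¬ cj τ g (Y p τ ⊔ Y p τ') ≤ T p τ') {t l : P}
    (ht : t ∈ T p τ') (hl : l ∈ cj τ g (Y p τ ⊔ Y p τ'))
    (htest : l * (t * l * t⁻¹ * l⁻¹) * l⁻¹ * (t * l * t⁻¹ * l⁻¹)⁻¹ ∈ Zg τ') :
    t * l * t⁻¹ * l⁻¹ ∈ centralizer (cj τ g (Y p τ ⊔ Y p τ') : Set P) := by
  obtain ⟨-, -, hYW, hWT⟩ := h.cj_U g
  by_cases hlT : l ∈ T p τ'
  · have hlY : l ∈ Y p τ := (h.moved_inf hW).le ⟨hl, hlT⟩
    exact fun a _ => mem_center_iff.mp (h.left.quad hlY t) a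
  obtain ⟨y', hy', k, hkX, hk, hwk⟩ := h.moved_X hW (h.mem_X_of_comm ht (hWT hl))
  rw [← hwk] at htest ⊢
  have hcl : l * k = k * l := hk l hl
  have e : l * (y' * k) * l⁻¹ * (y' * k)⁻¹ = l * y' * l⁻¹ * y'⁻¹ := by
    calc l * (y' * k) * l⁻¹ * (y' * k)⁻¹ = l * y' * (k * l⁻¹) * k⁻¹ * y'⁻¹ := by group
      _ = l * y' * (l⁻¹ * k) * k⁻¹ * y'⁻¹ := by rw [(show Commute l k from hcl).inv_left.eq]
      _ = _ := by group
  rw [e] at htest
  have hy'c := h.right.mem_center_of_mod hlT hy' htest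
  exact mul_mem (fun a _ => mem_center_iff.mp hy'c a) hk

end Pair

end Cfsg.Agent.PushingUp
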