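import Cfsg.Agent.Lib.PushingUp.Main
import Cfsg.Agent.Lib.PLocal.Thompson

/-!
The invariants of a group carried along an isomorphism.

* `maxCentralProduct_congr`, `map_minimalJoin`, `map_frattiniJoin`, `map_thompson`.
* `characteristic_of_map`: an invariant subgroup is characteristic.
-/

set_option autoImplicit false

open Subgroup Cfsg.Agent.CentrallyLarge
open scoped Pointwise

namespace Cfsg.Agent.PushingUp

section

variable {P Q : Type*} [Group P] [Group Q]

theorem map_centralizer_equiv (e : P ≃* Q) (X : Subgroup P) :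
    (centralizer (X : Set P)).map e.toMonoidHom =
      centralizer ((X.map e.toMonoidHom : Subgroup Q) : Set Q) := by
  ext x
  constructor
  · rintro ⟨y, hy, rfl⟩ _ ⟨z, hz, rfl⟩
    rw [← map_mul, ← map_mul, hy z hz]
  · intro hx
    refine ⟨e.symm x, fun z hz => e.injective ?_, e.apply_symm_apply x⟩
    rw [map_mul, map_mul, e.apply_symm_apply]
    exact hx _ (mem_map_of_mem _ hz)

theorem map_symm_map (e : P ≃* Q) (Y : Subgroup Q) : (Y.map e.symm.toMonoidHom).map e.toMonoidHom = Y := by
  ext x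
  constructor
  · rintro ⟨_, ⟨y, hy, rfl⟩, rfl⟩
    show e (e.symm y) ∈ Y
    rwa [e.apply_symm_apply]
  · exact fun hx => ⟨e.symm x, mem_map_of_mem _ hx, e.apply_symm_apply x⟩

theorem map_map_symm (e : P ≃* Q) (X : Subgroup P) : (X.map e.toMonoidHom).map e.symm.toMonoidHom = X :=
  map_symm_map e.symm X

theorem le_map_equiv (e : P ≃* Q) {X : Subgroup P} {Y : Subgroup Q} (h : Y.map e.symm.toMonoidHom ≤ X) :
    Y ≤ X.map e.toMonoidHom := (map_symm_map e Y).ge.trans (Subgroup.map_mono h)

theorem characteristic_of_map {X : Subgroup P} (h : ∀ e : P ≃* P, X.map e.toMonoidHom ≤ X) :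
    X.Characteristic := characteristic_iff_map_le.mpr h

variable [Finite P] [Finite Q]

theorem card_center_map (e : P ≃* Q) (X : Subgroup P) :
    Nat.card ↥(X.map e.toMonoidHom) * Nat.card ↥(center ↥(X.map e.toMonoidHom)) =
      Nat.card ↥X * Nat.card ↥(center ↥X) := by
  rw [card_center, card_center, ← map_centralizer_equiv, ← Subgroup.map_inf _ _ _ e.injective,
    card_map_of_injective e.injective, card_map_of_injective e.injective]

theorem maxCentralProduct_congr (e : P ≃* Q) : Cfsg.maxCentralProduct P = Cfsg.maxCentralProduct Q := by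
  unfold Cfsg.maxCentralProduct
  congr 1
  ext k
  constructor
  · rintro ⟨R, rfl⟩; exact ⟨_, card_center_map e R⟩
  · rintro ⟨R, rfl⟩; exact ⟨_, card_center_map e.symm R⟩

theorem centrallyLarge_map (e : P ≃* Q) {R : Subgroup P} (h : Cfsg.IsCentrallyLarge R) :
    Cfsg.IsCentrallyLarge (R.map e.toMonoidHom) := by
  unfold Cfsg.IsCentrallyLarge
  rw [card_center_map, ← maxCentralProduct_congr e]
  exact h

theorem minimal_map (e : P ≃* Q) {R : Subgroup P} (h : Cfsg.IsMinimalCentrallyLarge R) :
    Cfsg.IsMinimalCentrallyLarge (R.map e.toMonoidHom) := by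
  refine ⟨centrallyLarge_map e h.1, fun R' hR' hR'c => ?_⟩
  have h1 := h.2 _ ((Subgroup.map_mono hR').trans (map_map_symm e R).le) (centrallyLarge_map e.symm hR'c)
  rw [← h1, map_symm_map]

theorem map_minimalJoin_le (e : P ≃* Q) :
    (Cfsg.minimalCentrallyLargeJoin P).map e.toMonoidHom ≤ Cfsg.minimalCentrallyLargeJoin Q := by
  rw [Subgroup.map_le_iff_le_comap]
  exact sSup_le fun R hR => Subgroup.map_le_iff_le_comap.mp (le_sSup (minimal_map e hR))

theorem map_minimalJoin (e : P ≃* Q) :
    (Cfsg.minimalCentrallyLargeJoin P).map e.toMonoidHom = Cfsg.minimalCentrallyLargeJoin Q :=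
  le_antisymm (map_minimalJoin_le e) (le_map_equiv e (map_minimalJoin_le e.symm))

theorem minimalJoin_char : (Cfsg.minimalCentrallyLargeJoin P).Characteristic :=
  characteristic_of_map map_minimalJoin_le

theorem map_omegaCenter (e : P ≃* Q) (p : ℕ) (R : Subgroup P) :
    (Cfsg.omegaOneCenter p R).map e.toMonoidHom = Cfsg.omegaOneCenter p (R.map e.toMonoidHom) := by
  unfold Cfsg.omegaOneCenter
  rw [map_omegaOne e.injective, Subgroup.map_inf _ _ _ e.injective, map_centralizer_equiv]

theorem maxOmega_congr (e : P ≃* Q) (p : ℕ) :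
    Cfsg.maxOmegaCenterOfMinimalCL p P = Cfsg.maxOmegaCenterOfMinimalCL p Q := by
  unfold Cfsg.maxOmegaCenterOfMinimalCL
  congr 1
  ext k
  constructor
  · rintro ⟨R, hR, rfl⟩
    exact ⟨_, minimal_map e hR, by rw [← map_omegaCenter, card_map_of_injective e.injective]⟩
  · rintro ⟨R, hR, rfl⟩
    exact ⟨_, minimal_map e.symm hR, by rw [← map_omegaCenter, card_map_of_injective e.symm.injective]⟩

theorem map_frattiniJoin_le (e : P ≃* Q) {p : ℕ} [Fact p.Prime] (hP : IsPGroup p P) :
    (Cfsg.frattiniOfMinimalCLJoin p P).map e.toMonoidHom ≤ Cfsg.frattiniOfMinimalCLJoin p Q := by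
  unfold Cfsg.frattiniOfMinimalCLJoin
  rw [Subgroup.map_iSup]
  refine iSup_le fun R => ?_
  rw [phi_eq_frattini (hP.to_subgroup _), map_phi,
    ← phi_eq_frattini ((hP.of_equiv e).to_subgroup (R.1.map e.toMonoidHom))]
  exact le_iSup (fun X : {X : Subgroup Q // Cfsg.IsMinimalCentrallyLarge X ∧
    Nat.card ↥(Cfsg.omegaOneCenter p X) = Cfsg.maxOmegaCenterOfMinimalCL p Q} =>
      (frattini ↥(X : Subgroup Q)).map (X : Subgroup Q).subtype)
    ⟨_, minimal_map e R.2.1, by
      rw [← map_omegaCenter, card_map_of_injective e.injective, R.2.2, maxOmega_congr e p]⟩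

theorem map_frattiniJoin (e : P ≃* Q) {p : ℕ} [Fact p.Prime] (hP : IsPGroup p P) :
    (Cfsg.frattiniOfMinimalCLJoin p P).map e.toMonoidHom = Cfsg.frattiniOfMinimalCLJoin p Q :=
  le_antisymm (map_frattiniJoin_le e hP) (le_map_equiv e (map_frattiniJoin_le e.symm (hP.of_equiv e)))

theorem maxAbelian_map' (e : P ≃* Q) {A : Subgroup P} (hA : A ∈ Cfsg.maxAbelianSubgroups P) :
    A.map e.toMonoidHom ∈ Cfsg.maxAbelianSubgroups Q := by
  refine ⟨(abelian_iff _).mpr ?_, fun B hB => ?_⟩
  · rw [← map_centralizer_equiv]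
    exact Subgroup.map_mono ((abelian_iff A).mp hA.1)
  · have h := hA.2 (B.map e.symm.toMonoidHom) ((abelian_iff _).mpr (by
      rw [← map_centralizer_equiv]
      exact Subgroup.map_mono ((abelian_iff B).mp hB)))
    rwa [card_map_of_injective e.symm.injective, ← card_map_of_injective (K := A) (f := e.toMonoidHom)
      e.injective] at h

theorem map_thompson_le (e : P ≃* Q) :
    (Cfsg.thompsonSubgroupA P).map e.toMonoidHom ≤ Cfsg.thompsonSubgroupA Q := by
  rw [Subgroup.map_le_iff_le_comap]
  exact sSup_le fun A hA => Subgroup.map_le_iff_le_comap.mp (le_sSup (maxAbelian_map' e hA))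

theorem map_thompson (e : P ≃* Q) :
    (Cfsg.thompsonSubgroupA P).map e.toMonoidHom = Cfsg.thompsonSubgroupA Q :=
  le_antisymm (map_thompson_le e) (le_map_equiv e (map_thompson_le e.symm))

end

end Cfsg.Agent.PushingUp
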