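import Cfsg.Agent.Lib.PushingUp.Real

/-!
One realisation of `P` in which `Z(P)` is not normal, `P` being centrally large with `J(P) = P`.

* `large_T`, `large_Y`, `centralizer_Y`: `T` and `Y = C_P(T)` are large and centralise each other.
* `mem_center_of_commute`: `C_Y(u) = Z` for `u ∉ T`.
* `center_inf_cj`, `center_sup_cj`: `Z ∩ Z^g = Z_G`, `Z Z^g = Y`.
* `mem_center_of_mod`: `C_Y(u)` modulo `Z_G` is `Z`.
* `quad`: `[Y, P] ≤ Z`.
-/

set_option autoImplicit false

open Subgroup Cfsg.Agent.CentrallyLarge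
open scoped Pointwise

namespace Cfsg.Agent.PushingUp

open Real

variable {P : Type*} [Group P] [Finite P] {G : Type*} [Group G] [Finite G] {p : ℕ} [Fact p.Prime]

/-- The hypotheses on one realisation. -/
structure Side (p : ℕ) (τ : P →* G) : Prop where
  inj : Function.Injective τ
  sit : Cfsg.IsPushingUpSituation p τ.range
  jtop : Cfsg.thompsonSubgroupA P = ⊤
  large : Cfsg.IsCentrallyLarge (⊤ : Subgroup P)
  zel : ∀ z ∈ center P, z ^ p = 1
  bad : ¬ ((center P).map τ).Normal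

variable {τ : P →* G}

omit [Finite P] [Finite G] [Fact p.Prime] in
theorem map_center (hτ : Function.Injective τ) :
    (center P).map τ = τ.range ⊓ centralizer (τ.range : Set G) := by
  ext a
  constructor
  · rintro ⟨z, hz, rfl⟩
    refine ⟨⟨z, rfl⟩, ?_⟩
    rintro _ ⟨x, rfl⟩
    rw [← map_mul, ← map_mul, mem_center_iff.mp hz x]
  · rintro ⟨⟨z, rfl⟩, hz⟩
    exact mem_map_of_mem τ (mem_center_iff.mpr fun x => hτ (by rw [map_mul, map_mul]; exact hz _ ⟨x, rfl⟩))

namespace Side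

omit [Finite P] [Finite G] [Fact p.Prime] in
theorem card_center_top : Nat.card ↥(centralizer ((⊤ : Subgroup P) : Set P)) = Nat.card ↥(center P) := by
  rw [coe_top, centralizer_univ]

theorem core_le (h : Side p τ) : Cfsg.pCore p G ≤ τ.range := PushingUp.pCore_le h.sit

theorem isP (h : Side p τ) : IsPGroup p P :=
  (PushingUp.isPGroup h.sit).of_equiv (MonoidHom.ofInjective h.inj).symm

theorem large_top (h : Side p τ) : Cfsg.IsCentralizerLarge (⊤ : Subgroup P) := CL.large h.large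

theorem measure (h : Side p τ) {X : Subgroup P} (hX : Cfsg.IsCentralizerLarge X) :
    Nat.card X * Nat.card ↥(centralizer (X : Set P)) = Nat.card P * Nat.card ↥(center P) := by
  rw [← card_center_top, ← card_top (G := P)]
  exact hX.trans h.large_top.symm

theorem large_of_ge (h : Side p τ) {X : Subgroup P}
    (hX : Nat.card P * Nat.card ↥(center P) ≤ Nat.card X * Nat.card ↥(centralizer (X : Set P))) :
    Cfsg.IsCentralizerLarge X :=
  centralizerLarge_of_le (by rw [← card_center_top, ← card_top (G := P), h.large_top] at hX; exact hX)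

theorem T_ne_top (h : Side p τ) : T p τ ≠ ⊤ := by
  intro hT
  refine h.bad ?_
  have h1 : τ.range = Cfsg.pCore p G := le_antisymm (by
    rintro _ ⟨x, rfl⟩
    exact mem_T.mp (hT ▸ mem_top x)) h.core_le
  rw [map_center h.inj, h1]
  haveI := Cores.pCore_normal p G
  infer_instance

theorem exists_not_mem (h : Side p τ) : ∃ u, u ∉ T p τ := by
  obtain ⟨u, -, hu⟩ := SetLike.exists_of_lt h.T_ne_top.lt_top
  exact ⟨u, hu⟩

theorem centralizer_T_le (h : Side p τ) : Y p τ ≤ T p τ := by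
  intro y hy
  refine mem_T.mpr (PushingUp.centralizer_pCore_le h.sit fun a ha => ?_)
  obtain ⟨x, rfl⟩ := h.core_le ha
  rw [← map_mul, ← map_mul, hy x (mem_T.mpr ha)]

/-- The normal closure of the centre. -/
theorem core (h : Side p τ) :
    Cfsg.IsCentralizerLarge (T p τ) ∧ ((Y p τ).map τ).Normal ∧
      centralizer (((Y p τ).map τ : Subgroup G) : Set G) ⊔ τ.range ≠ ⊤ ∧
      (∀ y ∈ Y p τ, y ^ p = 1) := by
  set Z₀ := (center P).map τ with hZ₀
  have hZS : Z₀ ≤ τ.range ⊓ centralizer (τ.range : Set G) := (map_center h.inj).le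
  obtain ⟨hVle, hVC⟩ := PushingUp.closure_normal h.sit hZS h.bad
  set V := normalClosure (Z₀ : Set G) with hV
  have hVab : IsMulCommutative V := (abelian_iff V).mpr ((hVle.trans inf_le_right).trans
    (centralizer_le (SetLike.coe_subset_coe.mpr (hVle.trans inf_le_left))))
  have hVp : IsPGroup p V := (Cores.isPGroup_pCore p G).to_le (hVle.trans inf_le_left)
  have hVY : V ≤ (Y p τ).map τ := by
    intro v hv
    obtain ⟨hvQ, hvC⟩ := hVle hv
    obtain ⟨y, rfl⟩ := h.core_le hvQ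
    refine mem_map_of_mem τ fun t ht => h.inj ?_
    rw [map_mul, map_mul]
    exact hvC _ (mem_T.mp ht)
  have hb := PushingUp.card_bound h.sit V hVab hVp hVC (U := τ.range) le_rfl
  have e1 : Nat.card ↥(τ.range ⊓ Cfsg.pCore p G) = Nat.card ↥(T p τ) := by
    rw [inf_eq_right.mpr h.core_le, ← card_map_of_injective (K := T p τ) h.inj, T,
      map_comap_eq_self h.core_le]
  have e2 : Nat.card ↥(center P) ≤ Nat.card ↥(V ⊓ centralizer (τ.range : Set G)) := by
    rw [← card_map_of_injective (K := center P) h.inj]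
    exact card_le_of_le (le_inf subset_normalClosure (hZS.trans inf_le_right))
  have e3 : Nat.card ↥τ.range = Nat.card P := (Nat.card_congr (MonoidHom.ofInjective h.inj).toEquiv).symm
  rw [e1, e3] at hb
  have hb' : Nat.card P * Nat.card ↥(center P) ≤ Nat.card ↥(T p τ) * Nat.card V :=
    (Nat.mul_le_mul_left _ e2).trans hb
  have hVle' : Nat.card V ≤ Nat.card ↥(Y p τ) := by
    rw [← card_map_of_injective (K := Y p τ) h.inj]
    exact card_le_of_le hVY
  have hL : Cfsg.IsCentralizerLarge (T p τ) :=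
    h.large_of_ge (hb'.trans (Nat.mul_le_mul_left _ hVle'))
  have heq : V = (Y p τ).map τ := by
    refine eq_of_card V _ hVY ?_
    rw [card_map_of_injective h.inj]
    refine Nat.le_of_mul_le_mul_left ?_ (show 0 < Nat.card ↥(T p τ) from Nat.card_pos)
    exact (h.measure hL).le.trans hb'
  refine ⟨hL, heq ▸ (by rw [hV]; infer_instance), heq ▸ hVC, fun y hy => h.inj ?_⟩
  have hy' : τ y ∈ V := heq ▸ mem_map_of_mem τ hy
  rw [map_pow, map_one]
  have hab := (abelian_iff V).mp hVab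
  let W : Subgroup G :=
    { carrier := {a | a ∈ V ∧ a ^ p = 1}
      one_mem' := ⟨one_mem V, one_pow p⟩
      mul_mem' := fun {a b} ha hb =>
        ⟨mul_mem ha.1 hb.1, by rw [(show Commute a b from (hab ha.1 b hb.1).symm).mul_pow, ha.2, hb.2, one_mul]⟩
      inv_mem' := fun {a} ha => ⟨inv_mem ha.1, by rw [inv_pow, ha.2, inv_one]⟩ }
  haveI hWn : W.Normal := ⟨fun a ha k =>
    ⟨(normalClosure_normal).conj_mem a ha.1 k, by rw [conj_pow, ha.2, mul_one, mul_inv_cancel]⟩⟩
  have hW : V ≤ W := normalClosure_le_normal (by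
    rintro _ ⟨z, hz, rfl⟩
    exact ⟨subset_normalClosure (mem_map_of_mem τ hz), by rw [← map_pow, h.zel z hz, map_one]⟩)
  exact (hW hy').2

theorem large_T (h : Side p τ) : Cfsg.IsCentralizerLarge (T p τ) := h.core.1

theorem large_Y (h : Side p τ) : Cfsg.IsCentralizerLarge (Y p τ) := centralizerLarge_centralizer h.large_T

theorem centralizer_Y (h : Side p τ) : centralizer (Y p τ : Set P) = T p τ :=
  centralizer_centralizer_eq h.large_T

theorem pow_eq_one (h : Side p τ) {y : P} (hy : y ∈ Y p τ) : y ^ p = 1 := h.core.2.2.2 y hy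

omit [Finite P] [Finite G] [Fact p.Prime] in
theorem center_le_Y : center P ≤ Y p τ := fun z hz t _ => mem_center_iff.mp hz t

theorem Y_comm (h : Side p τ) {a b : P} (ha : a ∈ Y p τ) (hb : b ∈ Y p τ) : a * b = b * a :=
  (ha b (h.centralizer_T_le hb)).symm

theorem cj_Y (h : Side p τ) (g : G) : cj τ g (Y p τ) = Y p τ := by
  apply Subgroup.map_injective h.inj
  rw [map_cj h.core_le h.centralizer_T_le g]
  haveI := h.core.2.1
  refine le_antisymm ?_ fun a ha => ?_
  · rintro _ ⟨a, ha, rfl⟩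
    exact h.core.2.1.conj_mem a ha g
  · refine ⟨g⁻¹ * a * g, by simpa using h.core.2.1.conj_mem a ha g⁻¹, ?_⟩
    show g * (g⁻¹ * a * g) * g⁻¹ = a
    group

theorem card_quot (h : Side p τ) :
    Nat.card ↥(T p τ) * (Cfsg.pCore p G).relIndex τ.range = Nat.card P := by
  have h1 : Nat.card ↥(T p τ) = Nat.card ↥(Cfsg.pCore p G) := by
    rw [← card_map_of_injective (K := T p τ) h.inj, T, map_comap_eq_self h.core_le]
  rw [h1, PushUp.card_mul_relIndex' h.core_le]
  exact (Nat.card_congr (MonoidHom.ofInjective h.inj).toEquiv).symm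

theorem card_Y (h : Side p τ) :
    Nat.card ↥(Y p τ) = Nat.card ↥(center P) * (Cfsg.pCore p G).relIndex τ.range := by
  refine Nat.eq_of_mul_eq_mul_left (show 0 < Nat.card ↥(T p τ) from Nat.card_pos) ?_
  rw [show Nat.card ↥(T p τ) * Nat.card ↥(Y p τ) = _ from h.measure h.large_T, ← h.card_quot]
  ring

theorem mem_center_of_commute (h : Side p τ) {u y : P} (hu : u ∉ T p τ) (hy : y ∈ Y p τ)
    (hc : u * y = y * u) : y ∈ center P := by
  obtain ⟨-, hn, hVC, -⟩ := h.core
  haveI := hn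
  set V := (Y p τ).map τ
  set W := V ⊓ centralizer ({τ u} : Set G)
  have hZW : (center P).map τ ≤ W := le_inf (Subgroup.map_mono center_le_Y) (by
    rintro _ ⟨z, hz, rfl⟩
    rw [mem_centralizer_singleton_iff, ← map_mul, ← map_mul, mem_center_iff.mp hz u])
  have hb := PushingUp.index_centralizer_ge h.sit V ((h.isP.to_subgroup _).map τ) hVC ⟨u, rfl⟩
    (fun hm => hu (mem_T.mpr hm))
  have h1 : Nat.card W * W.relIndex V = Nat.card V := PushUp.card_mul_relIndex' inf_le_left
  have h2 : Nat.card V = Nat.card ↥(center P) * (Cfsg.pCore p G).relIndex τ.range := by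
    rw [← h.card_Y]; exact card_map_of_injective h.inj
  have h3 : Nat.card W ≤ Nat.card ↥((center P).map τ) := by
    rw [card_map_of_injective h.inj]
    refine Nat.le_of_mul_le_mul_right ?_ (Nat.pos_of_ne_zero
      (Subgroup.index_ne_zero_of_finite (H := (Cfsg.pCore p G).subgroupOf τ.range)))
    exact ((Nat.mul_le_mul_left _ hb).trans h1.le).trans h2.le
  have h4 := eq_of_card _ _ hZW h3
  obtain ⟨z, hz, he⟩ := h4.ge (show τ y ∈ W from ⟨mem_map_of_mem τ hy,
    mem_centralizer_singleton_iff.mpr (by rw [← map_mul, ← map_mul, hc])⟩)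
  exact h.inj he ▸ hz

theorem gen_top (h : Side p τ) {g : G} (hg : Gen p τ.range g) {u : P} (hu : u ∉ T p τ) :
    zpowers (g * τ u * g⁻¹) ⊔ τ.range = ⊤ := by
  have h1 := (hg (τ u) ⟨u, rfl⟩ (fun hm => hu (mem_T.mpr hm))).2
  refine top_le_iff.mp fun x _ => ?_
  have hle : zpowers (τ u) ⊔ MulAut.conj g⁻¹ • τ.range ≤
      MulAut.conj g⁻¹ • (zpowers (g * τ u * g⁻¹) ⊔ τ.range) := by
    rw [Subgroup.smul_sup]
    refine sup_le ((zpowers_le.mpr ?_).trans le_sup_left) le_sup_right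
    rw [Subgroup.mem_pointwise_smul_iff_inv_smul_mem, ← map_inv, inv_inv]
    exact mem_zpowers _
  rw [h1] at hle
  exact (Subgroup.smul_mem_pointwise_smul_iff (a := MulAut.conj g⁻¹)).mp (hle (mem_top _))

theorem mem_Zg_of_fix (h : Side p τ) {g : G} (hg : Gen p τ.range g) {u z : P} (hu : u ∉ T p τ)
    (hz : z ∈ center P) (hc : τ u * (g⁻¹ * τ z * g) = g⁻¹ * τ z * g * τ u) : z ∈ Zg τ := by
  have h1 : zpowers (g * τ u * g⁻¹) ⊔ τ.range ≤ centralizer ({τ z} : Set G) := by
    refine sup_le (zpowers_le.mpr ?_) ?_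
    · rw [mem_centralizer_singleton_iff]
      calc g * τ u * g⁻¹ * τ z = g * (τ u * (g⁻¹ * τ z * g)) * g⁻¹ := by group
        _ = g * (g⁻¹ * τ z * g * τ u) * g⁻¹ := by rw [hc]
        _ = τ z * (g * τ u * g⁻¹) := by group
    · rintro _ ⟨x, rfl⟩
      rw [mem_centralizer_singleton_iff, ← map_mul, ← map_mul, mem_center_iff.mp hz x]
  rw [h.gen_top hg hu] at h1
  exact mem_Zg.mpr fun k => mem_centralizer_singleton_iff.mp (h1 (mem_top k))

theorem Zg_le_center (h : Side p τ) : Zg τ ≤ center P := fun z hz =>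
  mem_center_iff.mpr fun x => h.inj (by rw [map_mul, map_mul]; exact mem_Zg.mp hz (τ x))

omit [Finite P] [Finite G] [Fact p.Prime] in
theorem mem_cj_Zg (g : G) {z : P} (hz : z ∈ Zg τ) : g * τ z * g⁻¹ = τ z := by
  rw [mem_Zg.mp hz g, mul_inv_cancel_right]

theorem center_inf_cj (h : Side p τ) {g : G} (hg : Gen p τ.range g) :
    center P ⊓ cj τ g (center P) = Zg τ := by
  refine le_antisymm ?_ fun z hz => ⟨h.Zg_le_center hz, mem_cj.mpr ⟨z, h.Zg_le_center hz, mem_cj_Zg g hz⟩⟩
  rintro z ⟨hz, hz'⟩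
  obtain ⟨w, hw, hwz⟩ := mem_cj.mp hz'
  obtain ⟨u, hu⟩ := h.exists_not_mem
  refine h.mem_Zg_of_fix hg hu hz ?_
  rw [← hwz, show g⁻¹ * (g * τ w * g⁻¹) * g = τ w by group, ← map_mul, ← map_mul,
    mem_center_iff.mp hw u]

theorem Zg_ne (h : Side p τ) : Zg τ ≠ center P := by
  intro he
  refine h.bad ⟨fun a ha k => ?_⟩
  obtain ⟨z, hz, rfl⟩ := ha
  rw [mem_cj_Zg k (he ▸ hz)]
  exact mem_map_of_mem τ hz

theorem center_sup_cj (h : Side p τ) {g : G} (hg : Gen p τ.range g) :
    center P ⊔ cj τ g (center P) = Y p τ := by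
  have hZT : center P ≤ T p τ := center_le_Y.trans h.centralizer_T_le
  have hle : center P ⊔ cj τ g (center P) ≤ Y p τ :=
    sup_le center_le_Y ((cj_mono center_le_Y).trans (h.cj_Y g).le)
  refine eq_of_card _ _ hle ?_
  refine Nat.le_of_mul_le_mul_right ?_ (show 0 < Nat.card ↥(Zg τ) from Nat.card_pos)
  have h1 := card_mul_card_le (center P) (cj τ g (center P))
  rw [h.center_inf_cj hg, card_cj h.inj h.core_le hZT] at h1
  refine le_trans ?_ h1
  set q := (Cfsg.pCore p G).relIndex τ.range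
  have hq : Nat.card ↥(Zg τ) * q ≤ Nat.card ↥(center P) := by
    obtain ⟨u, hu⟩ := h.exists_not_mem
    obtain ⟨-, hn, hVC, -⟩ := h.core
    haveI := hn
    have hrel : Nat.card ↥(Zg τ) * (Zg τ).relIndex (center P) = Nat.card ↥(center P) :=
      PushUp.card_mul_relIndex' h.Zg_le_center
    rcases PushingUp.sq_or h.sit ((Y p τ).map τ) ((h.isP.to_subgroup _).map τ) hVC
      (Z₀ := (Zg τ).map τ) (Subgroup.map_mono (h.Zg_le_center.trans center_le_Y))
      (by rintro _ ⟨z, hz, rfl⟩ k; exact mem_Zg.mp hz k) ⟨u, rfl⟩ (fun hm => hu (mem_T.mpr hm)) with h2 | h2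
    · rw [← hrel]
      refine Nat.mul_le_mul_left _ (h2.trans ?_)
      obtain ⟨k, hk⟩ := (h.isP.to_subgroup (center P)).index ((Zg τ).subgroupOf (center P))
      change (Zg τ).relIndex (center P) = _ at hk
      rw [hk]
      refine Nat.le_self_pow ?_ p
      rintro rfl
      exact h.Zg_ne (le_antisymm h.Zg_le_center (relIndex_eq_one.mp (by simpa using hk)))
    · rw [Subgroup.relIndex_map_map_of_injective _ _ h.inj] at h2
      refine Nat.le_of_mul_le_mul_right ?_ (Nat.pos_of_ne_zero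
        (Subgroup.index_ne_zero_of_finite (H := (Cfsg.pCore p G).subgroupOf τ.range)))
      show Nat.card ↥(Zg τ) * q * q ≤ Nat.card ↥(center P) * q
      rw [mul_assoc, ← sq, ← h.card_Y, ← PushUp.card_mul_relIndex' (h.Zg_le_center.trans center_le_Y)]
      exact Nat.mul_le_mul_left _ h2
  rw [h.card_Y, mul_assoc, mul_comm q]
  exact Nat.mul_le_mul_left _ hq

/-- A conjugate of a central element fixed modulo `Z_G` is in `Z_G`. -/
theorem mem_Zg_of_mod (h : Side p τ) {g : G} (hg : Gen p τ.range g) {u z : P} (hu : u ∉ T p τ)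
    (hz : z ∈ cj τ g (center P)) (hc : u * z * u⁻¹ * z⁻¹ ∈ Zg τ) : z ∈ Zg τ := by
  obtain ⟨w, hw, hwz⟩ := mem_cj.mp hz
  let f := QuotientGroup.mk' (center G)
  let N := (centralizer ({f (τ z)} : Set (G ⧸ center G))).comap f
  have htop : zpowers (τ u) ⊔ MulAut.conj g • τ.range ≤ N := by
    refine sup_le (zpowers_le.mpr ?_) fun x hx => ?_
    · show f (τ u) ∈ centralizer ({f (τ z)} : Set _)
      have h1 : f (τ (u * z * u⁻¹ * z⁻¹)) = 1 := (QuotientGroup.eq_one_iff (N := center G) _).mpr hc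
      simp only [map_mul, map_inv] at h1
      rw [mul_inv_eq_one, mul_inv_eq_iff_eq_mul] at h1
      rw [mem_centralizer_singleton_iff]
      exact h1
    · show f x ∈ centralizer ({f (τ z)} : Set _)
      rw [Subgroup.mem_pointwise_smul_iff_inv_smul_mem, ← map_inv] at hx
      obtain ⟨a, ha⟩ := hx
      have ha' : x = g * τ a * g⁻¹ := by
        rw [ha, MulAut.smul_def, MulAut.conj_apply]
        group
      rw [mem_centralizer_singleton_iff, ← map_mul, ← map_mul, ha', ← hwz]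
      congr 1
      rw [show g * τ a * g⁻¹ * (g * τ w * g⁻¹) = g * (τ a * τ w) * g⁻¹ by group,
        show g * τ w * g⁻¹ * (g * τ a * g⁻¹) = g * (τ w * τ a) * g⁻¹ by group, ← map_mul, ← map_mul,
        mem_center_iff.mp hw a]
  rw [(hg (τ u) ⟨u, rfl⟩ (fun hm => hu (mem_T.mpr hm))).1] at htop
  obtain ⟨-, hn, -, -⟩ := h.core
  haveI := hn
  have hzV : τ z ∈ (Y p τ).map τ := mem_map_of_mem τ ((h.cj_Y g).le (cj_mono center_le_Y hz))
  have hfix : ∀ x : G, (orderOf x).Coprime p → x * τ z * x⁻¹ = τ z := by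
    intro x hx
    have h1 : f x ∈ centralizer ({f (τ z)} : Set _) := htop (mem_top x)
    rw [mem_centralizer_singleton_iff] at h1
    have h2 : x * τ z * x⁻¹ * (τ z)⁻¹ ∈ center G := by
      refine (QuotientGroup.eq_one_iff (N := center G) _).mp ?_
      show f (x * τ z * x⁻¹ * (τ z)⁻¹) = 1
      rw [map_mul, map_mul, map_mul, map_inv, map_inv, h1, mul_inv_cancel_right, mul_inv_cancel]
    set d := x * τ z * x⁻¹ * (τ z)⁻¹ with hd
    have hdV : d ∈ (Y p τ).map τ := mul_mem (hn.conj_mem _ hzV x) (inv_mem hzV)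
    have h3 : d⁻¹ = 1 := PushingUp.eq_one_of_fix ((h.isP.to_subgroup _).map τ) (inv_mem hdV) hx
      (v := τ z) (by rw [mem_center_iff.mp (inv_mem h2) x, mul_inv_cancel_right])
      (by rw [inv_inv, hd]; group)
    exact mul_inv_eq_one.mp (inv_eq_one.mp h3)
  have hX : centralizer ({τ w} : Set G) = ⊤ := by
    refine PushingUp.eq_top_of_coprime_mem h.sit ?_ fun x hx => ?_
    · rintro _ ⟨a, rfl⟩
      rw [mem_centralizer_singleton_iff, ← map_mul, ← map_mul, mem_center_iff.mp hw a]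
    · have h1 := hfix (g * x * g⁻¹) (by
        rw [show g * x * g⁻¹ = MulAut.conj g x from rfl, (MulAut.conj g).orderOf_eq]; exact hx)
      rw [← hwz, show g * x * g⁻¹ * (g * τ w * g⁻¹) * (g * x * g⁻¹)⁻¹ = g * (x * τ w * x⁻¹) * g⁻¹ by group] at h1
      rw [mem_centralizer_singleton_iff, ← mul_inv_eq_iff_eq_mul]
      exact mul_left_cancel (mul_right_cancel h1)
  have hwc : ∀ k : G, k * τ w = τ w * k := fun k =>
    mem_centralizer_singleton_iff.mp (hX ▸ mem_top k)
  have : z = w := h.inj (by rw [← hwz, hwc g, mul_inv_cancel_right])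
  exact mem_Zg.mpr (this ▸ hwc)

/-- `C_Y(u)` modulo `Z_G` is `Z`. -/
theorem mem_center_of_mod (h : Side p τ) {u y : P} (hu : u ∉ T p τ) (hy : y ∈ Y p τ)
    (hc : u * y * u⁻¹ * y⁻¹ ∈ Zg τ) : y ∈ center P := by
  obtain ⟨g, hg⟩ := PushingUp.exists_Gen h.sit
  rw [← h.center_sup_cj hg, mem_sup_of_normal_left] at hy
  obtain ⟨a, ha, b, hb, rfl⟩ := hy
  refine mul_mem ha (h.Zg_le_center (h.mem_Zg_of_mod hg hu hb ?_))
  have : u * (a * b) * u⁻¹ * (a * b)⁻¹ = u * b * u⁻¹ * b⁻¹ := by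
    rw [← mul_assoc u a b, mem_center_iff.mp ha u]
    have := mem_center_iff.mp ha (u * b * u⁻¹ * b⁻¹)
    calc a * u * b * u⁻¹ * (a * b)⁻¹ = a * (u * b * u⁻¹ * b⁻¹) * a⁻¹ := by group
      _ = _ := by rw [← this, mul_inv_cancel_right]
  rwa [this] at hc

theorem conj_mem_Y (h : Side p τ) {y : P} (hy : y ∈ Y p τ) (u : P) : u * y * u⁻¹ ∈ Y p τ := by
  intro t ht
  have h1 := hy (u⁻¹ * t * u) (by simpa using (normal_T p τ).conj_mem t ht u⁻¹)
  calc t * (u * y * u⁻¹) = u * (u⁻¹ * t * u * y) * u⁻¹ := by group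
    _ = u * (y * (u⁻¹ * t * u)) * u⁻¹ := by rw [h1]
    _ = u * y * u⁻¹ * t := by group

theorem commutator_mem_T (h : Side p τ) (a b : P) : a * b * a⁻¹ * b⁻¹ ∈ T p τ := by
  rw [mem_T, map_mul, map_mul, map_mul, map_inv, map_inv]
  exact PushingUp.commutator_mem h.sit ⟨a, rfl⟩ ⟨b, rfl⟩

/-- The action of `P` on `Y` is quadratic. -/
theorem quad (h : Side p τ) {y : P} (hy : y ∈ Y p τ) (b : P) : b * y * b⁻¹ * y⁻¹ ∈ center P := by
  by_cases hyZ : y ∈ center P
  · rw [mem_center_iff.mp hyZ b, mul_inv_cancel_right, mul_inv_cancel]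
    exact one_mem _
  by_cases hex : ∃ d, d ∉ T p τ ∧ d * y * d⁻¹ * y⁻¹ ∈ center P
  · obtain ⟨d, hd, hdy⟩ := hex
    refine h.mem_center_of_commute hd (mul_mem (h.conj_mem_Y hy b) (inv_mem hy)) ?_
    set z := d * y * d⁻¹ * y⁻¹
    have e1 : d * y * d⁻¹ = z * y := by simp [z, mul_assoc]
    have e2 : d * (b * y * b⁻¹) * d⁻¹ = z * (b * y * b⁻¹) := by
      set t := d * b * d⁻¹ * b⁻¹
      have ht : t ∈ T p τ := h.commutator_mem_T d b
      calc d * (b * y * b⁻¹) * d⁻¹ = t * (b * (d * y * d⁻¹) * b⁻¹) * t⁻¹ := by simp only [t]; group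
        _ = t * (b * (z * y) * b⁻¹) * t⁻¹ := by rw [e1]
        _ = b * (z * y) * b⁻¹ := by
          have hm : b * (z * y) * b⁻¹ ∈ Y p τ := h.conj_mem_Y (mul_mem (center_le_Y hdy) hy) b
          rw [hm t ht, mul_inv_cancel_right]
        _ = z * (b * y * b⁻¹) := by rw [← mul_assoc b z y, mem_center_iff.mp hdy b]; group
    have e3 : d * (b * y * b⁻¹ * y⁻¹) * d⁻¹ = b * y * b⁻¹ * y⁻¹ := by
      calc d * (b * y * b⁻¹ * y⁻¹) * d⁻¹ = (d * (b * y * b⁻¹) * d⁻¹) * (d * y * d⁻¹)⁻¹ := by group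
        _ = z * (b * y * b⁻¹) * (z * y)⁻¹ := by rw [e1, e2]
        _ = (z * (b * y * b⁻¹ * y⁻¹)) * z⁻¹ := by group
        _ = _ := by rw [← mem_center_iff.mp hdy, mul_inv_cancel_right]
    exact mul_inv_eq_iff_eq_mul.mp e3
  exfalso
  haveI : ((center P).subgroupOf (Y p τ)).Normal := inferInstance
  let f : P → ↥(Y p τ) ⧸ (center P).subgroupOf (Y p τ) :=
    fun a => QuotientGroup.mk ⟨a * y * a⁻¹, h.conj_mem_Y hy a⟩
  let φ : P ⧸ T p τ → ↥(Y p τ) ⧸ (center P).subgroupOf (Y p τ) := fun a => f a.out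
  have hφ : Function.Injective φ := by
    intro a a' he
    by_contra hne
    apply hex
    refine ⟨a'.out⁻¹ * a.out, fun hm => hne ?_, ?_⟩
    · have := (QuotientGroup.eq (s := T p τ)).mpr hm
      rw [QuotientGroup.out_eq', QuotientGroup.out_eq'] at this
      exact this.symm
    · have h1 := QuotientGroup.eq.mp he
      have hm : (a.out * y * a.out⁻¹)⁻¹ * (a'.out * y * a'.out⁻¹) ∈ center P := h1
      have h2 : a'.out⁻¹ * ((a.out * y * a.out⁻¹)⁻¹ * (a'.out * y * a'.out⁻¹))⁻¹ * a'.out ∈ center P := by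
        rw [mem_center_iff.mp (inv_mem hm) _, mul_assoc, inv_mul_cancel, mul_one]
        exact inv_mem hm
      convert (Subgroup.center P).mul_mem (Subgroup.center P).one_mem h2 using 1
      have hc : a'.out⁻¹ * a.out * y * (a'.out⁻¹ * a.out)⁻¹ * y⁻¹ =
          y⁻¹ * (a'.out⁻¹ * a.out * y * (a'.out⁻¹ * a.out)⁻¹) := by
        have := h.Y_comm (inv_mem hy) (h.conj_mem_Y hy (a'.out⁻¹ * a.out))
        rw [this]
      rw [hc]
      group
  have hne : ∀ a, φ a ≠ 1 := by
    intro a he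
    apply hyZ
    have h1 : a.out * y * a.out⁻¹ ∈ center P := (QuotientGroup.eq_one_iff (N := (center P).subgroupOf (Y p τ))
      ⟨a.out * y * a.out⁻¹, h.conj_mem_Y hy _⟩).mp he
    have h2 : a.out * y * a.out⁻¹ = y := by
      have := mem_center_iff.mp h1 a.out
      calc a.out * y * a.out⁻¹ = a.out⁻¹ * (a.out * (a.out * y * a.out⁻¹)) := by group
        _ = a.out⁻¹ * (a.out * y * a.out⁻¹ * a.out) := by rw [this]
        _ = y := by group
    rwa [h2] at h1
  have hcard : Nat.card (↥(Y p τ) ⧸ (center P).subgroupOf (Y p τ)) = Nat.card (P ⧸ T p τ) := by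
    refine Nat.eq_of_mul_eq_mul_left (show 0 < Nat.card ↥(center P) * Nat.card ↥(T p τ) from
      Nat.mul_pos Nat.card_pos Nat.card_pos) ?_
    have h1 : Nat.card ↥(center P) * (center P).relIndex (Y p τ) = Nat.card ↥(Y p τ) :=
      PushUp.card_mul_relIndex' center_le_Y
    have h2 : Nat.card ↥(T p τ) * (T p τ).index = Nat.card P := (T p τ).card_mul_index
    calc _ = Nat.card ↥(T p τ) * (Nat.card ↥(center P) * (center P).relIndex (Y p τ)) := by
          rw [Subgroup.relIndex, Subgroup.index]; ring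
      _ = Nat.card P * Nat.card ↥(center P) := by
          rw [h1]; exact h.measure h.large_T
      _ = _ := by rw [← h2, Subgroup.index]; ring
  obtain ⟨a, ha⟩ := (hφ.bijective_of_nat_card_le hcard.le).2 1
  exact hne a ha

end Side

end Cfsg.Agent.PushingUp
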