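import Cfsg.Agent.Lib.PushingUp.Transport
import Cfsg.Agent.Lib.PushingUp.Side

/-!
Pairs of characteristic subgroups, the cases that need one group only.

* `Pushes`: one of the two is normal in every realisation.
* `thompson_pair`: `(Z ∩ [Z(J), S], C_S(Z(J)))`.
* `mcl_pair`: `(Z ∩ [Q,Q], S_MCL)`.
* `power_pair`: `(℧¹(Z), S)` when `S` is centrally large.
* `frattini_pair`: `(Z, S_Φ)`.
-/

set_option autoImplicit false

open Subgroup Cfsg.Agent.CentrallyLarge
open scoped Pointwise commutatorElement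

universe u

namespace Cfsg.Agent.PushingUp

/-- One of `S₁`, `S₂` is normal in every realisation. -/
def Pushes (p : ℕ) (P : Type u) [Group P] (S₁ S₂ : Subgroup P) : Prop :=
  ∀ (G : Type u) [Group G] [Finite G] (τ : P →* G), Function.Injective τ →
    Cfsg.IsPushingUpSituation p τ.range → (S₁.map τ).Normal ∨ (S₂.map τ).Normal

/-- `Z(J(P))`. -/
def zj (P : Type*) [Group P] : Subgroup P :=
  Cfsg.thompsonSubgroupA P ⊓ centralizer (Cfsg.thompsonSubgroupA P : Set P)

/-- `C_P(Z(J(P)))`. -/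
def jt (P : Type*) [Group P] : Subgroup P := centralizer (zj P : Set P)

theorem center_le_jt (P : Type*) [Group P] : center P ≤ jt P :=
  fun _ hz x _ => mem_center_iff.mp hz x

section Embedded

variable {P G : Type*} [Group P] [Group G] {τ : P →* G}

theorem map_inf_centralizer (hτ : Function.Injective τ) (X X' : Subgroup P) :
    X.map τ ⊓ centralizer ((X'.map τ : Subgroup G) : Set G) = (X ⊓ centralizer (X' : Set P)).map τ := by
  ext a
  constructor
  · rintro ⟨⟨x, hx, rfl⟩, ha⟩
    refine mem_map_of_mem τ ⟨hx, fun y hy => hτ ?_⟩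
    rw [map_mul, map_mul]
    exact ha _ (mem_map_of_mem τ hy)
  · rintro ⟨x, ⟨hx, hc⟩, rfl⟩
    refine ⟨mem_map_of_mem τ hx, ?_⟩
    rintro _ ⟨y, hy, rfl⟩
    rw [← map_mul, ← map_mul, hc y hy]

theorem normal_of_central {X : Subgroup P} (h : ∀ x ∈ X, ∀ g : G, g * τ x = τ x * g) :
    (X.map τ).Normal := PushUp.normal_of_le_center (by
  rintro _ ⟨x, hx, rfl⟩ g
  exact h x hx g)

theorem normal_map_char (hτ : Function.Injective τ) {X : Subgroup P} (hX : X.Characteristic)
    (hR : τ.range.Normal) : (X.map τ).Normal := by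
  refine ⟨fun a ha k => ?_⟩
  obtain ⟨x, hx, rfl⟩ := ha
  haveI := hR
  let e := MonoidHom.ofInjective hτ
  let φ : P ≃* P := e.trans ((MulAut.conjNormal k).trans e.symm)
  refine ⟨φ x, (characteristic_iff_map_eq.mp hX φ).le (mem_map_of_mem _ hx), ?_⟩
  have h1 : e (φ x) = MulAut.conjNormal k (e x) := e.apply_symm_apply _
  have h2 : ((e (φ x) : ↥τ.range) : G) = k * τ x * k⁻¹ := by
    rw [h1, MulAut.conjNormal_apply]
    rfl
  rw [← h2]
  rfl

theorem range_eq_subtype_comp (hτ : Function.Injective τ) :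
    τ = τ.range.subtype.comp (MonoidHom.ofInjective hτ).toMonoidHom := MonoidHom.ext fun _ => rfl

theorem map_map_range (hτ : Function.Injective τ) (X : Subgroup P) :
    (X.map (MonoidHom.ofInjective hτ).toMonoidHom).map τ.range.subtype = X.map τ := by
  rw [Subgroup.map_map, ← range_eq_subtype_comp hτ]

theorem centerThompsonAOf_range [Finite P] [Finite G] (hτ : Function.Injective τ) :
    Cfsg.centerThompsonAOf τ.range = (zj P).map τ := by
  rw [Cfsg.centerThompsonAOf, Cfsg.thompsonSubgroupAOf, ← map_thompson (MonoidHom.ofInjective hτ),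
    map_map_range hτ, map_inf_centralizer hτ, zj]

variable [Finite G] {p : ℕ} [Fact p.Prime]

/-- If `Z(P)` is normal, so is every characteristic subgroup of it. -/
theorem normal_of_center_normal (hτ : Function.Injective τ) (hE : Cfsg.IsPushingUpSituation p τ.range)
    {X : Subgroup P} (hX : X.Characteristic) (hXZ : X ≤ center P) (hZ : ((center P).map τ).Normal) :
    (X.map τ).Normal := by
  have hle : τ.range ≤ centralizer (((center P).map τ : Subgroup G) : Set G) := by
    rintro _ ⟨s, rfl⟩ _ ⟨z, hz, rfl⟩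
    rw [← map_mul, ← map_mul, mem_center_iff.mp hz s]
  haveI := hZ
  by_cases htop : centralizer (((center P).map τ : Subgroup G) : Set G) ⊔ τ.range = ⊤
  · rw [sup_eq_left.mpr hle] at htop
    refine normal_of_central fun x hx g => ?_
    exact ((htop.ge (mem_top g)) _ (mem_map_of_mem τ (hXZ hx))).symm
  · have h1 : τ.range = Cfsg.pCore p G := le_antisymm
      ((le_inf hle le_rfl).trans (PushingUp.inf_le_pCore hE _ htop)) (PushingUp.pCore_le hE)
    exact normal_map_char hτ hX (h1 ▸ Cores.pCore_normal p G)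

end Embedded

variable {p : ℕ} [Fact p.Prime] {P : Type u} [Group P] [Finite P]

theorem thompson_pair : Pushes p P (center P ⊓ ⁅zj P, (⊤ : Subgroup P)⁆) (jt P) := by
  intro G _ _ τ hτ hE
  obtain ⟨-, ⟨Q, hQ⟩, hcore, huniq, K, hKn, F, _, _, n, hF, ⟨e⟩⟩ := id hE
  let π := e.toMonoidHom.comp (QuotientGroup.mk' K)
  have hπ : Function.Surjective π := e.surjective.comp (QuotientGroup.mk'_surjective K)
  have hn : 1 ≤ n := by
    rcases Nat.eq_zero_or_pos n with rfl | h
    · exact absurd Fintype.one_lt_card (by rw [hF, pow_zero]; exact lt_irrefl 1)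
    · exact h
  refine or_iff_not_imp_right.mpr fun hnJ => ?_
  have hzr : τ.range ⊓ centralizer (τ.range : Set G) = (center P).map τ := (map_center hτ).symm
  by_cases hres : Cfsg.pResidual p G ≤ centralizer (((center P).map τ : Subgroup G) : Set G)
  · refine normal_of_central fun x hx g => ?_
    have h1 : Cfsg.pResidual p G ⊔ τ.range ≤ centralizer (((center P).map τ : Subgroup G) : Set G) :=
      sup_le hres (by
        rintro _ ⟨s, rfl⟩ _ ⟨z, hz, rfl⟩
        rw [← map_mul, ← map_mul, mem_center_iff.mp hz s])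
    rw [← hQ, PReduced.pResidual_sup_sylow Q] at h1
    exact ((h1 (mem_top g)) _ (mem_map_of_mem τ hx.1)).symm
  have hJt : τ.range ⊓ centralizer (Cfsg.centerThompsonAOf τ.range : Set G) = (jt P).map τ := by
    rw [centerThompsonAOf_range hτ, MonoidHom.range_eq_map, map_inf_centralizer hτ, top_inf_eq, jt]
  rcases PushUp.baumann Q (by exact hcore) (hQ.symm ▸ huniq) π hπ hn hF (by rw [hQ, hzr]; exact hres)
    with h | h
  · rw [hQ, hJt] at h
    exact absurd h hnJ
  obtain ⟨hres', hz⟩ := h _ rfl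
  set L := normalClosure (((Q : Subgroup G) ⊓ centralizer
    (Cfsg.centerThompsonAOf (Q : Subgroup G) : Set G) : Subgroup G) : Set G)
  haveI : L.Normal := normalClosure_normal
  have hcomm : ⁅zj P, (⊤ : Subgroup P)⁆ ≤ (centralizer (L : Set G)).comap τ := by
    refine commutator_le.mpr fun z hzj s _ => ?_
    obtain ⟨u, hu, d, hd, hud⟩ := hz (τ z) (by rw [hQ, centerThompsonAOf_range hτ]; exact mem_map_of_mem τ hzj)
    rw [hQ, hzr] at hu
    obtain ⟨w, hw, rfl⟩ := hu
    have e1 : ⁅z, s⁆ = ⁅w⁻¹ * z, s⁆ := by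
      rw [commutatorElement_def, commutatorElement_def]
      calc z * s * z⁻¹ * s⁻¹ = w⁻¹ * (z * s * z⁻¹ * s⁻¹) * w := by
            rw [mul_assoc w⁻¹, mem_center_iff.mp hw (z * s * z⁻¹ * s⁻¹), inv_mul_cancel_left]
        _ = w⁻¹ * z * s * z⁻¹ * (s⁻¹ * w) := by group
        _ = w⁻¹ * z * s * z⁻¹ * (w * s⁻¹) := by rw [mem_center_iff.mp hw s⁻¹]
        _ = _ := by group
    show τ ⁅z, s⁆ ∈ centralizer (L : Set G)
    rw [e1, map_commutatorElement, map_mul, map_inv, hud, inv_mul_cancel_left, commutatorElement_def,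
      show d * τ s * d⁻¹ * (τ s)⁻¹ = d * (τ s * d⁻¹ * (τ s)⁻¹) by group]
    exact mul_mem hd ((inferInstance : (centralizer (L : Set G)).Normal).conj_mem _ (inv_mem hd) _)
  refine normal_of_central fun x hx g => ?_
  have h1 : Cfsg.pResidual p G ⊔ τ.range ≤ centralizer ({τ x} : Set G) := by
    refine sup_le (fun a ha => mem_centralizer_singleton_iff.mpr ?_) ?_
    · exact (hcomm hx.2) a (hres' ha)
    · rintro _ ⟨s, rfl⟩
      rw [mem_centralizer_singleton_iff, ← map_mul, ← map_mul, mem_center_iff.mp hx.1 s]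
  rw [← hQ, PReduced.pResidual_sup_sylow Q] at h1
  exact mem_centralizer_singleton_iff.mp (h1 (mem_top g))

theorem derived_char (hP : IsPGroup p P) {Q : Subgroup P} (hQ : Cfsg.IsMinimalCentrallyLarge Q) :
    (⁅Q, Q⁆).Characteristic := by
  refine characteristic_of_map fun e => ?_
  rw [map_commutator]
  exact (S3007.result P hP _ Q (minimal_map e hQ) hQ).2.1.le

theorem mcl_pair {Q : Subgroup P} (hQ : Cfsg.IsMinimalCentrallyLarge Q) :
    Pushes p P (center P ⊓ ⁅Q, Q⁆) (Cfsg.minimalCentrallyLargeJoin P) := by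
  intro G _ _ τ hτ hE
  set e := MonoidHom.ofInjective hτ
  have h := centerDerived_or_join_normal hE (minimal_map e hQ)
  rwa [← map_center hτ, ← map_commutator, map_map_range hτ, ← Subgroup.map_inf _ _ _ hτ,
    ← map_minimalJoin e, map_map_range hτ] at h

theorem frattini_pair (hP : IsPGroup p P) :
    Pushes p P (center P) (Cfsg.frattiniOfMinimalCLJoin p P) := by
  intro G _ _ τ hτ hE
  have h := center_or_frattiniJoin_normal hE
  rwa [← map_center hτ, ← map_frattiniJoin (MonoidHom.ofInjective hτ) hP, map_map_range hτ] at h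

theorem powerClosure_map_le {Q : Type*} [Group Q] (f : P →* Q) (n : ℕ) (X : Subgroup P) :
    (Cfsg.powerClosure p n X).map f ≤ Cfsg.powerClosure p n (X.map f) := by
  rw [Subgroup.map_le_iff_le_comap, Cfsg.powerClosure, closure_le]
  rintro _ ⟨x, hx, rfl⟩
  show f (x ^ p ^ n) ∈ Cfsg.powerClosure p n (X.map f)
  rw [map_pow]
  exact subset_closure ⟨f x, mem_map_of_mem f hx, rfl⟩

theorem power_le_center : Cfsg.powerClosure p 1 (center P) ≤ center P := by
  rw [Cfsg.powerClosure, closure_le]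
  rintro _ ⟨x, hx, rfl⟩
  exact pow_mem hx _

theorem power_char : (Cfsg.powerClosure p 1 (center P)).Characteristic :=
  characteristic_of_map fun e => (powerClosure_map_le e.toMonoidHom 1 (center P)).trans (le_of_eq (by
    rw [characteristic_iff_map_eq.mp inferInstance e]))

theorem power_pair (hL : Cfsg.IsCentrallyLarge (⊤ : Subgroup P)) :
    Pushes p P (Cfsg.powerClosure p 1 (center P)) ⊤ := by
  intro G _ _ τ hτ hE
  by_contra hno
  obtain ⟨h1, h2⟩ := not_or.mp hno
  rw [← MonoidHom.range_eq_map] at h2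
  have hbad : ¬ ((center P).map τ).Normal := fun h =>
    h1 (normal_of_center_normal hτ hE power_char power_le_center h)
  obtain ⟨u, hu, huT⟩ : ∃ u ∈ τ.range, u ∉ Cfsg.pCore p G := SetLike.not_le_iff_exists.mp fun h =>
    h2 (le_antisymm h (PushingUp.pCore_le hE) ▸ Cores.pCore_normal p G)
  set Z₀ := (center P).map τ with hZ₀
  obtain ⟨hVle, hVC⟩ := PushingUp.closure_normal hE (Z₀ := Z₀) (map_center hτ).le hbad
  set V := normalClosure (Z₀ : Set G) with hV
  haveI hVn : V.Normal := normalClosure_normal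
  have hVS : V ≤ τ.range := (hVle.trans inf_le_left).trans (PushingUp.pCore_le hE)
  have hVab : IsMulCommutative V := (abelian_iff V).mpr ((hVle.trans inf_le_right).trans
    (centralizer_le (SetLike.coe_subset_coe.mpr (hVle.trans inf_le_left))))
  have hVp : IsPGroup p V := (Cores.isPGroup_pCore p G).to_le (hVle.trans inf_le_left)
  set q := (Cfsg.pCore p G).relIndex τ.range
  have hTq : Nat.card ↥(Cfsg.pCore p G) * q = Nat.card ↥τ.range :=
    PushUp.card_mul_relIndex' (PushingUp.pCore_le hE)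
  have hP : Nat.card ↥τ.range = Nat.card P := (Nat.card_congr (MonoidHom.ofInjective hτ).toEquiv).symm
  have hZV : Z₀ ≤ V := subset_normalClosure
  -- `|V| ≤ |S : T| |Z|`
  have hVcard : Nat.card V ≤ q * Nat.card Z₀ := by
    refine Nat.le_of_mul_le_mul_left ?_ (show 0 < Nat.card ↥(Cfsg.pCore p G) from Nat.card_pos)
    have hVY : V ≤ (centralizer ((Real.T p τ : Subgroup P) : Set P)).map τ := by
      intro v hv
      obtain ⟨y, rfl⟩ := hVS hv
      refine mem_map_of_mem τ fun t ht => hτ ?_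
      rw [map_mul, map_mul]
      exact (hVle hv).2 _ ht
    have e1 : Nat.card ↥(Real.T p τ) = Nat.card ↥(Cfsg.pCore p G) := by
      rw [← card_map_of_injective (K := Real.T p τ) hτ, Real.T, map_comap_eq_self (PushingUp.pCore_le hE)]
    calc Nat.card ↥(Cfsg.pCore p G) * Nat.card V
        ≤ Nat.card ↥(Real.T p τ) * Nat.card ↥(centralizer ((Real.T p τ : Subgroup P) : Set P)) := by
          rw [e1, ← card_map_of_injective (K := centralizer ((Real.T p τ : Subgroup P) : Set P)) hτ]
          exact Nat.mul_le_mul_left _ (card_le_of_le hVY)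
      _ ≤ Nat.card P * Nat.card ↥(center P) := by
          refine (measure_le _).trans (le_of_eq ?_)
          rw [← show Nat.card ↥(⊤ : Subgroup P) * _ = _ from CL.large hL, card_top, coe_top, centralizer_univ]
      _ = Nat.card ↥(Cfsg.pCore p G) * (q * Nat.card Z₀) := by
          rw [← mul_assoc, hTq, hP, card_map_of_injective hτ]
  -- `C_V(u) = Z`
  have hcent : ∀ W : Subgroup G, W ≤ V ⊓ centralizer ({u} : Set G) → W ≤ Z₀ := by
    intro W hW
    refine hW.trans (eq_of_card Z₀ _ (le_inf hZV ?_) ?_).ge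
    · rintro _ ⟨z, hz, rfl⟩
      obtain ⟨s, rfl⟩ := hu
      rw [mem_centralizer_singleton_iff, ← map_mul, ← map_mul, mem_center_iff.mp hz s]
    · refine Nat.le_of_mul_le_mul_left ?_ (Nat.pos_of_ne_zero
        (Subgroup.index_ne_zero_of_finite (H := (Cfsg.pCore p G).subgroupOf τ.range)))
      show q * _ ≤ q * _
      refine le_trans ?_ hVcard
      rw [mul_comm, ← PushUp.card_mul_relIndex' (inf_le_left : V ⊓ centralizer ({u} : Set G) ≤ V)]
      exact Nat.mul_le_mul_left _ (PushingUp.index_centralizer_ge hE V hVp hVC hu huT)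
  have hge : ∀ W : Subgroup G, W.Normal → W ≤ V → centralizer (W : Set G) ⊔ τ.range ≠ ⊤ →
      Nat.card ↥(W ⊓ Z₀) * q ≤ Nat.card W := by
    intro W hWn hWV hWC
    haveI := hWn
    have h3 : W ⊓ centralizer ({u} : Set G) ≤ W ⊓ Z₀ :=
      le_inf inf_le_left (hcent _ (inf_le_inf_right _ hWV))
    rw [← PushUp.card_mul_relIndex' (inf_le_left : W ⊓ Z₀ ≤ W)]
    refine Nat.mul_le_mul_left _ ((PushingUp.index_centralizer_ge hE W (hVp.to_le hWV) hWC hu huT).trans ?_)
    refine Subgroup.relIndex_le_of_le_left ?_ Subgroup.index_ne_zero_of_finite |>.trans le_rfl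
    exact le_inf inf_le_left (by
      rintro a ⟨ha, z, hz, rfl⟩
      obtain ⟨s, rfl⟩ := hu
      rw [mem_centralizer_singleton_iff, ← map_mul, ← map_mul, mem_center_iff.mp hz s])
  -- the power map
  have hab := (abelian_iff V).mp hVab
  let f : ↥V →* ↥V := MonoidHom.mk' (fun a => a ^ p) fun a b =>
    (show Commute a b from Subtype.ext (hab b.2 a a.2)).mul_pow p
  set Ω := f.ker.map V.subtype with hΩ
  set P₁ := f.range.map V.subtype with hP₁
  have hΩe : Ω = Cfsg.omegaOne p V := by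
    ext a
    rw [mem_omegaOne hab]
    constructor
    · rintro ⟨b, hb, rfl⟩
      exact ⟨b.2, congrArg Subtype.val (show b ^ p = 1 from hb)⟩
    · rintro ⟨ha, hap⟩
      exact ⟨⟨a, ha⟩, Subtype.ext hap, rfl⟩
  have hΩn : Ω.Normal := hΩe ▸ normal_omegaOne V
  have hΩC : centralizer (Ω : Set G) ⊔ τ.range ≠ ⊤ :=
    hΩe ▸ centralizer_omega_sup_ne_top hE V hVab hVp hVC
  haveI hP₁n : P₁.Normal := by
    refine ⟨fun a ha k => ?_⟩
    obtain ⟨_, ⟨b, rfl⟩, rfl⟩ := ha
    refine ⟨f ⟨k * b * k⁻¹, hVn.conj_mem b b.2 k⟩, ⟨_, rfl⟩, ?_⟩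
    show (k * (b : G) * k⁻¹) ^ p = k * (b : G) ^ p * k⁻¹
    rw [conj_pow]
  have hS₁P : (Cfsg.powerClosure p 1 (center P)).map τ ≤ P₁ := by
    rw [Subgroup.map_le_iff_le_comap, Cfsg.powerClosure, closure_le]
    rintro _ ⟨z, hz, rfl⟩
    refine ⟨f ⟨τ z, hZV (mem_map_of_mem τ hz)⟩, ⟨_, rfl⟩, ?_⟩
    show τ z ^ p = τ (z ^ p ^ 1)
    rw [pow_one, map_pow]
  have hP₁C : centralizer (P₁ : Set G) ⊔ τ.range ≠ ⊤ := by
    intro htop
    refine h1 (normal_of_central fun x hx g => ?_)
    have hall : centralizer ({τ x} : Set G) = ⊤ := by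
      refine PushingUp.eq_top_of_coprime_mem hE ?_ fun a ha => ?_
      · rintro _ ⟨s, rfl⟩
        rw [mem_centralizer_singleton_iff, ← map_mul, ← map_mul, mem_center_iff.mp (power_le_center hx) s]
      · exact mem_centralizer_singleton_iff.mpr
          ((PushingUp.mem_of_sup_eq_top hE _ htop ha) _ (hS₁P (mem_map_of_mem τ hx))).symm
    exact mem_centralizer_singleton_iff.mp (hall.ge (mem_top g))
  have hVsplit : Nat.card Ω * Nat.card P₁ = Nat.card V := by
    rw [hΩ, hP₁, Subgroup.card_subtype, Subgroup.card_subtype, ← Subgroup.index_ker]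
    exact f.ker.card_mul_index
  have hZsplit : Nat.card Z₀ ≤ Nat.card ↥(Ω ⊓ Z₀) * Nat.card ↥(P₁ ⊓ Z₀) := by
    let g := f.comp (Subgroup.inclusion hZV)
    have e1 : Nat.card ↥g.ker * Nat.card ↥g.range = Nat.card Z₀ := by
      rw [← Subgroup.index_ker]
      exact g.ker.card_mul_index
    rw [← e1]
    refine Nat.mul_le_mul ?_ ?_
    · rw [← Subgroup.card_subtype Z₀ g.ker]
      refine card_le_of_le (le_inf ?_ (map_subtype_le _))
      rintro _ ⟨b, hb, rfl⟩
      exact ⟨Subgroup.inclusion hZV b, hb, rfl⟩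
    · rw [← Subgroup.card_subtype V g.range]
      refine card_le_of_le ?_
      rintro _ ⟨_, ⟨b, rfl⟩, rfl⟩
      exact ⟨⟨_, ⟨_, rfl⟩, rfl⟩, pow_mem b.2 p⟩
  have hq1 : 1 < q := by
    refine lt_of_le_of_ne (Nat.pos_of_ne_zero Subgroup.index_ne_zero_of_finite) fun he => huT ?_
    exact (relIndex_eq_one.mp he.symm) hu
  have hfin : q * (q * Nat.card Z₀) ≤ q * Nat.card Z₀ := by
    refine le_trans ?_ (hVsplit.le.trans hVcard)
    calc q * (q * Nat.card Z₀) ≤ q * (q * (Nat.card ↥(Ω ⊓ Z₀) * Nat.card ↥(P₁ ⊓ Z₀))) :=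
          Nat.mul_le_mul_left _ (Nat.mul_le_mul_left _ hZsplit)
      _ = (Nat.card ↥(Ω ⊓ Z₀) * q) * (Nat.card ↥(P₁ ⊓ Z₀) * q) := by ring
      _ ≤ _ := Nat.mul_le_mul (hge Ω hΩn (map_subtype_le _) hΩC) (hge P₁ hP₁n (map_subtype_le _) hP₁C)
  have hpos : 0 < q * Nat.card Z₀ := Nat.mul_pos (by omega) Nat.card_pos
  nlinarith

end Cfsg.Agent.PushingUp
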