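import Cfsg.Agent.Lib.PushingUp.Pairs
import Cfsg.Agent.Lib.PushingUp.Cases

/-!
The pair `(S₀ ∩ Z(P), C_P(W))`, `W` the join of the modules of the bad realisations.

* `s0_char`, `maxCentralProduct_eq_of_cl`.
* `modules`, `W`: the modules; `modules_comm`, `W_normal`, `W_char`.
* `s0_pair`, `centralizer_W_large`.
-/

set_option autoImplicit false

open Subgroup Cfsg.Agent.CentrallyLarge
open scoped Pointwise commutatorElement

universe u

namespace Cfsg.Agent.PushingUp

section Transport

variable {P Q : Type*} [Group P] [Group Q] {p : ℕ}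

theorem map_phi_top (e : P ≃* Q) :
    (phi p (⊤ : Subgroup P)).map e.toMonoidHom = phi p (⊤ : Subgroup Q) := by
  rw [map_phi, Subgroup.map_top_of_surjective e.toMonoidHom e.surjective]

theorem map_s0_le (e : P ≃* Q) : (s0 p P).map e.toMonoidHom ≤ s0 p Q := by
  have hpow : (Cfsg.powerClosure p 1 (⊤ : Subgroup P)).map e.toMonoidHom ≤
      Cfsg.powerClosure p 1 (⊤ : Subgroup Q) := by
    rw [Subgroup.map_le_iff_le_comap, Cfsg.powerClosure, closure_le]
    rintro _ ⟨x, -, rfl⟩
    show e (x ^ p ^ 1) ∈ Cfsg.powerClosure p 1 (⊤ : Subgroup Q)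
    rw [map_pow]
    exact subset_closure ⟨e x, mem_top _, rfl⟩
  have htop := Subgroup.map_top_of_surjective e.toMonoidHom e.surjective
  unfold s0
  split_ifs
  · rw [Subgroup.map_sup, map_commutator, map_phi_top, map_phi _ (phi p ⊤), map_phi_top, htop]
  · rw [Subgroup.map_sup, map_commutator, map_commutator, map_phi_top, map_phi _ (phi p ⊤), map_phi_top, htop]
  · rw [Subgroup.map_sup, map_commutator, map_phi_top, htop]
    exact sup_le_sup_left hpow _

theorem s0_inf_center_char : (s0 p P ⊓ center P).Characteristic := characteristic_of_map fun e => by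
  rw [Subgroup.map_inf _ _ _ e.injective]
  exact inf_le_inf (map_s0_le e) (le_of_eq (characteristic_iff_map_eq.mp inferInstance e))

end Transport

variable {P : Type u} [Group P] [Finite P]

/-- `f(R) = f(P)` for a centrally large `R`. -/
theorem maxCentralProduct_eq_of_cl {R : Subgroup P} (h : Cfsg.IsCentrallyLarge R) :
    Cfsg.maxCentralProduct ↥R = Cfsg.maxCentralProduct P := by
  have hc : ∀ X : Subgroup ↥R, Nat.card ↥X * Nat.card ↥(center ↥X) =
      Nat.card ↥(X.map R.subtype) * Nat.card ↥(center ↥(X.map R.subtype)) := fun X => by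
    rw [card_center, card_center, map_inf_centralizer (subtype_injective R) X X, Subgroup.card_subtype,
      Subgroup.card_subtype]
  have hbdd : BddAbove {k : ℕ | ∃ X : Subgroup ↥R, Nat.card ↥X * Nat.card ↥(center ↥X) = k} :=
    ((Set.finite_range fun X : Subgroup ↥R => Nat.card ↥X * Nat.card ↥(center ↥X)).subset (by
      rintro k ⟨X, rfl⟩; exact ⟨X, rfl⟩)).bddAbove
  refine le_antisymm (csSup_le ⟨_, ⊤, rfl⟩ ?_) ?_
  · rintro k ⟨X, rfl⟩
    rw [hc]
    exact central_measure_le _
  · rw [← show Nat.card ↥R * Nat.card ↥(center ↥R) = _ from h]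
    refine le_csSup hbdd ⟨⊤, ?_⟩
    rw [hc, ← MonoidHom.range_eq_map, R.range_subtype]

theorem centralizerLarge_sSup {s : Set (Subgroup P)} (hs : s.Nonempty)
    (h : ∀ R ∈ s, Cfsg.IsCentralizerLarge R) : Cfsg.IsCentralizerLarge (sSup s) := by
  obtain ⟨R₀, hR₀⟩ := hs
  obtain ⟨X, hX, hmax⟩ := (Set.toFinite {X : Subgroup P | Cfsg.IsCentralizerLarge X ∧ X ≤ sSup s}).exists_le_maximal
    (show R₀ ∈ _ from ⟨h R₀ hR₀, le_sSup hR₀⟩)
  have : X = sSup s := le_antisymm hmax.1.2 (sSup_le fun R hR =>
    le_sup_right.trans (hmax.2 ⟨centralizerLarge_sup hmax.1.1 (h R hR), sup_le hmax.1.2 (le_sSup hR)⟩ le_sup_left))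
  exact this ▸ hmax.1.1

variable {p : ℕ} [Fact p.Prime]

/-- The modules of the realisations in which `S₀ ∩ Z(P)` is not normal. -/
def modules (p : ℕ) (P : Type u) [Group P] : Set (Subgroup P) :=
  {Y' | ∃ (G : Type u) (_ : Group G) (_ : Finite G) (τ : P →* G),
    Side p τ ∧ ¬ ((s0 p P ⊓ center P).map τ).Normal ∧ Real.Y p τ = Y'}

/-- The join of the modules. -/
def W (p : ℕ) (P : Type u) [Group P] : Subgroup P := sSup (modules p P)

section Bad

variable {G : Type u} [Group G] [Finite G] {τ : P →* G}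

theorem not_nice (h : ¬ ((s0 p P ⊓ center P).map τ).Normal) : ¬ Nice p τ := fun hN =>
  h (normal_of_central fun x hx g => Real.mem_Zg.mp (hN hx) g)

theorem side_of_bad (jtop : Cfsg.thompsonSubgroupA P = ⊤) (large : Cfsg.IsCentrallyLarge (⊤ : Subgroup P))
    (zel : ∀ z ∈ center P, z ^ p = 1) (hτ : Function.Injective τ)
    (hE : Cfsg.IsPushingUpSituation p τ.range) (h : ¬ ((s0 p P ⊓ center P).map τ).Normal) : Side p τ where
  inj := hτ
  sit := hE
  jtop := jtop
  large := large
  zel := zel
  bad := fun hZ => h (normal_of_center_normal hτ hE s0_inf_center_char inf_le_right hZ)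

end Bad

theorem modules_comm (ha : ∀ A ∈ Cfsg.maxAbelianSubgroups P, Cfsg.IsCentralizerLarge A)
    {Y Y' : Subgroup P} (hY : Y ∈ modules p P) (hY' : Y' ∈ modules p P) :
    Y' ≤ centralizer (Y : Set P) := by
  obtain ⟨G, _, _, τ, h, hn, rfl⟩ := hY
  obtain ⟨G', _, _, τ', h', -, rfl⟩ := hY'
  rw [h.centralizer_Y]
  exact (two_groups h h' ha (not_nice hn)).1

theorem modules_map (φ : P ≃* P) {Y' : Subgroup P} (hY : Y' ∈ modules p P) :
    Y'.map φ.toMonoidHom ∈ modules p P := by
  obtain ⟨G, _, _, τ, h, hn, rfl⟩ := hY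
  set τ' := τ.comp φ.symm.toMonoidHom
  have hmap : ∀ X : Subgroup P, X.map τ' = (X.map φ.symm.toMonoidHom).map τ := fun X => (Subgroup.map_map X _ _).symm
  have hchar : ∀ X : Subgroup P, X.Characteristic → X.map τ' = X.map τ := fun X hX => by
    rw [hmap, characteristic_iff_map_eq.mp hX φ.symm]
  have hrange : τ'.range = τ.range := by
    rw [MonoidHom.range_eq_map, hchar ⊤ inferInstance, ← MonoidHom.range_eq_map]
  refine ⟨G, _, ‹_›, τ', ⟨h.inj.comp φ.symm.injective, hrange ▸ h.sit, h.jtop, h.large, h.zel, ?_⟩, ?_, ?_⟩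
  · rw [hchar _ inferInstance]; exact h.bad
  · rw [hchar _ s0_inf_center_char]; exact hn
  · have e : Real.T p τ' = (Real.T p τ).map φ.toMonoidHom := by
      ext x
      constructor
      · intro hx
        exact ⟨φ.symm x, hx, φ.apply_symm_apply x⟩
      · rintro ⟨y, hy, rfl⟩
        show τ (φ.symm (φ y)) ∈ Cfsg.pCore p G
        rw [φ.symm_apply_apply]
        exact hy
    unfold Real.Y
    rw [e, map_centralizer_equiv]

theorem W_char : (W p P).Characteristic := characteristic_of_map fun φ => by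
  rw [Subgroup.map_le_iff_le_comap]
  exact sSup_le fun Y hY => Subgroup.map_le_iff_le_comap.mp (le_sSup (modules_map φ hY))

theorem W_comm (ha : ∀ A ∈ Cfsg.maxAbelianSubgroups P, Cfsg.IsCentralizerLarge A) :
    W p P ≤ centralizer (W p P : Set P) :=
  sSup_le fun _ hY => Subgroup.le_centralizer_iff.mp (sSup_le fun _ hY' => modules_comm ha hY hY')

theorem centralizer_W_char : (centralizer (W p P : Set P)).Characteristic := characteristic_of_map fun φ => by
  rw [map_centralizer_equiv, characteristic_iff_map_eq.mp W_char φ]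

theorem centralizer_W_large (large : Cfsg.IsCentrallyLarge (⊤ : Subgroup P))
    (ha : ∀ A ∈ Cfsg.maxAbelianSubgroups P, Cfsg.IsCentralizerLarge A) :
    Cfsg.IsCentrallyLarge (centralizer (W p P : Set P)) := by
  rcases (modules p P).eq_empty_or_nonempty with he | hne
  · rw [W, he, sSup_empty, centralizer_eq_top_iff_subset.mpr (by
      rw [coe_bot, Set.singleton_subset_iff]; exact one_mem _)]
    exact large
  · have hW : Cfsg.IsCentralizerLarge (W p P) := centralizerLarge_sSup hne fun Y hY => by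
      obtain ⟨G, _, _, τ, h, -, rfl⟩ := hY
      exact h.large_Y
    refine centrallyLarge_iff.mpr ⟨centralizerLarge_centralizer hW, ?_⟩
    rw [centralizer_centralizer_eq hW]
    exact W_comm ha

theorem center_le_centralizer_W : center P ≤ centralizer (W p P : Set P) :=
  fun _ hz x _ => mem_center_iff.mp hz x

/-- The pair of case (c). -/
theorem s0_pair (jtop : Cfsg.thompsonSubgroupA P = ⊤) (large : Cfsg.IsCentrallyLarge (⊤ : Subgroup P))
    (zel : ∀ z ∈ center P, z ^ p = 1)
    (ha : ∀ A ∈ Cfsg.maxAbelianSubgroups P, Cfsg.IsCentralizerLarge A) :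
    Pushes p P (s0 p P ⊓ center P) (centralizer (W p P : Set P)) := by
  intro G _ _ τ hτ hE
  refine or_iff_not_imp_left.mpr fun hn => ?_
  have h := side_of_bad jtop large zel hτ hE hn
  have hmem : Real.Y p τ ∈ modules p P := ⟨G, _, ‹_›, τ, h, hn, rfl⟩
  have hWn : ((W p P).map τ).Normal := by
    have e : W p P = ⨆ Y' : modules p P, Real.Y p τ ⊔ (Y' : Subgroup P) := by
      refine le_antisymm (sSup_le fun Y' hY' => le_sup_right.trans
        (le_iSup (fun Y'' : modules p P => Real.Y p τ ⊔ (Y'' : Subgroup P)) ⟨Y', hY'⟩)) ?_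
      exact iSup_le fun Y' => sup_le (le_sSup hmem) (le_sSup Y'.2)
    rw [e, Subgroup.map_iSup]
    refine normal_of_iSup _ fun i a => ?_
    refine le_trans ?_ (le_iSup _ i)
    obtain ⟨G', _, _, τ', h', -, he⟩ := i.2
    have hU := (two_groups h h' ha (not_nice hn)).2.1
    rw [he] at hU
    rintro _ ⟨w, hw, rfl⟩
    exact hU.conj_mem w hw a
  have hle : centralizer (W p P : Set P) ≤ Real.T p τ := by
    rw [← h.centralizer_Y]
    exact centralizer_le (SetLike.coe_subset_coe.mpr (le_sSup hmem))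
  have e : (centralizer (W p P : Set P)).map τ =
      Cfsg.pCore p G ⊓ centralizer (((W p P).map τ : Subgroup G) : Set G) := by
    refine le_antisymm ?_ ?_
    · rintro _ ⟨x, hx, rfl⟩
      refine ⟨Real.mem_T.mp (hle hx), ?_⟩
      rintro _ ⟨w, hw, rfl⟩
      rw [← map_mul, ← map_mul, hx w hw]
    · rintro a ⟨ha', hac⟩
      obtain ⟨x, rfl⟩ := h.core_le ha'
      refine mem_map_of_mem τ fun w hw => hτ ?_
      rw [map_mul, map_mul]
      exact hac _ (mem_map_of_mem τ hw)
  rw [e]
  haveI := hWn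
  haveI := Cores.pCore_normal p G
  infer_instance

end Cfsg.Agent.PushingUp
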