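import Cfsg.Agent.Lib.PushingUp.Family
import Cfsg.Agent.Lib.PGroup.Basic

/-!
The choice of the pair.

* `IsPair`: the properties required of `(S₁, S₂)`.
* `pair_of_ne`: a pair exists unless `C_P(Z(J(P))) = P`, the minimal centrally large subgroups are
  abelian, `Z(P)` has exponent `p` and `S₀ = 1`.
* `exceptional`: then the exceptional conditions hold.
* `exists_isPair`, `exists_isPair_elementary`.
-/

set_option autoImplicit false

open Subgroup Cfsg.Agent.CentrallyLarge
open scoped Pointwise commutatorElement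

universe u

namespace Cfsg.Agent.PushingUp

variable {P : Type u} [Group P] [Finite P] {p : ℕ} [Fact p.Prime]

/-- The properties of the pair. -/
structure IsPair (p : ℕ) (P : Type u) [Group P] (S₁ S₂ : Subgroup P) : Prop where
  ne₁ : S₁ ≠ ⊥
  ne₂ : S₂ ≠ ⊥
  char₁ : S₁.Characteristic
  char₂ : S₂.Characteristic
  le₁ : S₁ ≤ center P
  le₂ : S₂ ≤ jt P
  charJ : (S₂.subgroupOf (jt P)).Characteristic
  pushes : Pushes p P S₁ S₂

omit [Finite P] in
theorem subgroupOf_char_of_top {J X : Subgroup P} (hJ : J = ⊤) (hX : X.Characteristic) :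
    (X.subgroupOf J).Characteristic := by
  subst hJ
  refine characteristic_of_map fun φ => ?_
  rintro _ ⟨a, ha, rfl⟩
  have h := (characteristic_iff_map_le.mp hX (Subgroup.topEquiv.symm.trans (φ.trans Subgroup.topEquiv)))
    (mem_map_of_mem _ ha)
  exact h

theorem center_ne_bot [Nontrivial P] (hP : IsPGroup p P) : center P ≠ ⊥ := by
  haveI := hP.center_nontrivial
  exact fun h => not_nontrivial (⊥ : Subgroup P) (h ▸ ‹Nontrivial ↥(center P)›)

theorem inf_center_char {X : Subgroup P} (hX : X.Characteristic) : (center P ⊓ X).Characteristic :=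
  characteristic_of_map fun e => by
    rw [Subgroup.map_inf _ _ _ e.injective, characteristic_iff_map_eq.mp hX e,
      characteristic_iff_map_eq.mp inferInstance e]

theorem center_inf_ne_bot (hP : IsPGroup p P) {X : Subgroup P} (hX : X.Characteristic) (h : X ≠ ⊥) :
    center P ⊓ X ≠ ⊥ := by
  haveI := hX
  rw [inf_comm]
  exact PGroup.inf_center_ne_bot hP h

theorem centralizer_ne_bot [Nontrivial P] (hP : IsPGroup p P) {R : Subgroup P} (hR : Cfsg.IsCentrallyLarge R) :
    R ≠ ⊥ := fun h => center_ne_bot hP (le_bot_iff.mp (by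
  rw [← h]
  exact (show center P ≤ centralizer (R : Set P) from fun z hz x _ => mem_center_iff.mp hz x).trans (CL.le hR)))

theorem zj_char : (zj P).Characteristic := characteristic_of_map fun e => by
  rw [zj, Subgroup.map_inf _ _ _ e.injective, map_centralizer_equiv, map_thompson]

theorem jt_char : (jt P).Characteristic := characteristic_of_map fun e => by
  rw [jt, map_centralizer_equiv, characteristic_iff_map_eq.mp zj_char e]

theorem abelian_pair [Nontrivial P] (hab : IsMulCommutative P) :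
    IsPair p P ⊤ (jt P) where
  ne₁ := top_ne_bot
  ne₂ := fun h => top_ne_bot (le_bot_iff.mp
    ((show (⊤ : Subgroup P) ≤ jt P from fun a _ x _ => hab.is_comm.comm x a).trans h.le))
  char₁ := inferInstance
  char₂ := jt_char
  le₁ := fun a _ => mem_center_iff.mpr fun x => hab.is_comm.comm x a
  le₂ := le_rfl
  charJ := by rw [subgroupOf_self]; infer_instance
  pushes := by
    intro G _ _ τ hτ hE
    refine Or.inl (normal_map_char hτ inferInstance ?_)
    have h1 : τ.range = Cfsg.pCore p G := by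
      refine le_antisymm (fun a ha => centralizer_pCore_le hE fun b hb => ?_) (pCore_le hE)
      obtain ⟨x, rfl⟩ := ha
      obtain ⟨y, rfl⟩ := pCore_le hE hb
      rw [← map_mul, ← map_mul, hab.is_comm.comm]
    exact h1 ▸ Cores.pCore_normal p G

theorem thompson_isPair [Nontrivial P] (hP : IsPGroup p P) (h : ⁅zj P, (⊤ : Subgroup P)⁆ ≠ ⊥) :
    IsPair p P (center P ⊓ ⁅zj P, (⊤ : Subgroup P)⁆) (jt P) where
  ne₁ := center_inf_ne_bot hP (by
    refine characteristic_of_map fun e => ?_
    rw [map_commutator, characteristic_iff_map_eq.mp zj_char e, Subgroup.map_top_of_surjective _ e.surjective]) h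
  ne₂ := fun h' => center_ne_bot hP (le_bot_iff.mp (h' ▸ center_le_jt P))
  char₁ := inf_center_char (by
    refine characteristic_of_map fun e => ?_
    rw [map_commutator, characteristic_iff_map_eq.mp zj_char e, Subgroup.map_top_of_surjective _ e.surjective])
  char₂ := jt_char
  le₁ := inf_le_left
  le₂ := le_rfl
  charJ := by rw [subgroupOf_self]; infer_instance
  pushes := thompson_pair

theorem jt_eq_top (h : ⁅zj P, (⊤ : Subgroup P)⁆ = ⊥) : jt P = ⊤ :=
  top_le_iff.mp (Subgroup.le_centralizer_iff.mp (commutator_eq_bot_iff_le_centralizer.mp h))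

theorem isPair_of_top [Nontrivial P] (hP : IsPGroup p P) (hJ : jt P = ⊤) {S₁ S₂ : Subgroup P}
    (h1 : S₁ ≠ ⊥) (hc1 : S₁.Characteristic) (hc2 : S₂.Characteristic) (hle : S₁ ≤ center P)
    (hL : Cfsg.IsCentrallyLarge S₂) (hp : Pushes p P S₁ S₂) :
    IsPair p P S₁ S₂ ∧ Cfsg.maxCentralProduct ↥S₂ = Cfsg.maxCentralProduct ↥(jt P) := by
  refine ⟨⟨h1, centralizer_ne_bot hP hL, hc1, hc2, hle, hJ ▸ le_top, subgroupOf_char_of_top hJ hc2, hp⟩, ?_⟩
  rw [maxCentralProduct_eq_of_cl hL, hJ, maxCentralProduct_congr Subgroup.topEquiv]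

/-- What is left when the other pairs fail. -/
structure Rest (p : ℕ) (P : Type*) [Group P] : Prop where
  jtTop : jt P = ⊤
  mcl : ∀ Q : Subgroup P, Cfsg.IsMinimalCentrallyLarge Q ↔ Q ∈ Cfsg.maxAbelianSubgroups P
  jtop : Cfsg.thompsonSubgroupA P = ⊤
  large : Cfsg.IsCentrallyLarge (⊤ : Subgroup P)
  zel : ∀ z ∈ center P, z ^ p = 1
  s0bot : s0 p P = ⊥

theorem Rest.alarge (h : Rest p P) (A : Subgroup P) (hA : A ∈ Cfsg.maxAbelianSubgroups P) :
    Cfsg.IsCentralizerLarge A := CL.large ((h.mcl A).mpr hA).1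

/-- Either there is a pair with a centrally large second member, or `Rest` holds. -/
theorem pair_of_ne [Nontrivial P] (hP : IsPGroup p P) :
    (∃ S₁ S₂ : Subgroup P, IsPair p P S₁ S₂ ∧
      Cfsg.maxCentralProduct ↥S₂ = Cfsg.maxCentralProduct ↥(jt P)) ∨ Rest p P := by
  by_cases hz : ⁅zj P, (⊤ : Subgroup P)⁆ = ⊥
  swap
  · exact Or.inl ⟨_, _, thompson_isPair hP hz, rfl⟩
  have hJ := jt_eq_top hz
  obtain ⟨Q, hQ⟩ := exists_minimal (P := P)
  by_cases hQd : ⁅Q, Q⁆ = ⊥
  swap
  · exact Or.inl ⟨_, _, isPair_of_top hP hJ (center_inf_ne_bot hP (derived_char hP hQ) hQd)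
      (inf_center_char (derived_char hP hQ)) minimalJoin_char inf_le_left centrallyLarge_minimalJoin
      (mcl_pair hQ)⟩
  have hmcl := (S3007.result P hP Q Q hQ hQ).2.2.2.2
    ((abelian_iff Q).mpr (commutator_eq_bot_iff_le_centralizer.mp hQd))
  have hjoin : Cfsg.minimalCentrallyLargeJoin P = Cfsg.thompsonSubgroupA P := by
    rw [Cfsg.minimalCentrallyLargeJoin, Cfsg.thompsonSubgroupA]
    congr 1
    ext A
    exact hmcl A
  have hJL : Cfsg.IsCentrallyLarge (Cfsg.thompsonSubgroupA P) := hjoin ▸ centrallyLarge_minimalJoin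
  have hCJ : centralizer (Cfsg.thompsonSubgroupA P : Set P) ≤ center P := by
    intro z hz'
    refine mem_center_iff.mpr fun x => ?_
    exact ((show x ∈ jt P from hJ ▸ mem_top x) z ⟨CL.le hJL hz', hz'⟩).symm
  have hjtop : Cfsg.thompsonSubgroupA P = ⊤ := by
    rw [← centralizer_centralizer_eq (CL.large hJL)]
    exact top_le_iff.mp fun x _ z hz' => (mem_center_iff.mp (hCJ hz') x).symm
  have hlarge : Cfsg.IsCentrallyLarge (⊤ : Subgroup P) := hjtop ▸ hJL
  by_cases hzel : ∀ z ∈ center P, z ^ p = 1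
  swap
  · refine Or.inl ⟨_, _, isPair_of_top hP hJ (fun hb => hzel fun z hz' => ?_) power_char inferInstance
      power_le_center hlarge (power_pair hlarge)⟩
    rw [← pow_one p]
    exact mem_bot.mp (hb.le (subset_closure ⟨z, hz', rfl⟩))
  by_cases hs : s0 p P = ⊥
  · exact Or.inr ⟨hJ, hmcl, hjtop, hlarge, hzel, hs⟩
  have ha : ∀ A ∈ Cfsg.maxAbelianSubgroups P, Cfsg.IsCentralizerLarge A := fun A hA =>
    CL.large ((hmcl A).mpr hA).1
  have hs0 : (s0 p P).Characteristic := characteristic_of_map map_s0_le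
  refine Or.inl ⟨_, _, isPair_of_top hP hJ ?_ s0_inf_center_char centralizer_W_char inf_le_right
    (centralizer_W_large hlarge ha) (s0_pair hjtop hlarge hzel ha)⟩
  rw [inf_comm]
  exact center_inf_ne_bot hP hs0 hs

/-- The exceptional conditions. -/
theorem exceptional [Nontrivial P] (hP : IsPGroup p P) (h : Rest p P) :
    Cfsg.thompsonSubgroupA P = ⊤ ∧ Cfsg.IsElementaryAbelian p (center P) ∧
      Cfsg.IsElementaryAbelian p (frattini P) ∧ (p = 2 → frattini P ≤ center P) ∧
      (p = 3 → frattini P ≤ Subgroup.upperCentralSeries P 2) ∧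
      (3 < p → frattini P ≤ center P ∧ Monoid.exponent P = p) ∧
      (∀ A ∈ Cfsg.maxAbelianSubgroups P, ∀ B ∈ Cfsg.maxAbelianSubgroups P, ∀ Q : Subgroup P,
        Nat.card ↥A ^ 2 = Nat.card P * Nat.card ↥(center P) ∧
        Nat.card ↥Q * Nat.card ↥(center ↥Q) ≤ Nat.card P * Nat.card ↥(center P) ∧
        ((A ⊔ B : Subgroup P) : Set P) = (A : Set P) * (B : Set P) ∧
        A ⊔ B = centralizer ((A ⊓ B : Subgroup P) : Set P)) := by
  have hp2 := (Fact.out : p.Prime).two_le
  have hs := h.s0bot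
  have hc : p ≠ 3 → frattini P ≤ center P := by
    intro hp3
    have h1 : ⁅phi p (⊤ : Subgroup P), (⊤ : Subgroup P)⁆ ≤ ⊥ := hs ▸ (by
      unfold s0
      split_ifs
      · exact le_sup_left
      · exact le_sup_left)
    rw [frattini_eq_phi hP, ← centralizer_univ, ← coe_top]
    exact commutator_eq_bot_iff_le_centralizer.mp (le_bot_iff.mp h1)
  have hphi2 : p = 2 ∨ p = 3 → phi p (phi p (⊤ : Subgroup P)) = ⊥ := by
    intro hp
    refine le_bot_iff.mp (hs ▸ ?_)
    unfold s0
    split_ifs with e2 e3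
    · exact le_sup_right
    · exact le_sup_right
    · omega
  have hpow : p ≠ 2 → p ≠ 3 → ∀ x : P, x ^ p = 1 := by
    intro e2 e3 x
    have h1 : Cfsg.powerClosure p 1 (⊤ : Subgroup P) ≤ ⊥ := hs ▸ (by
      unfold s0
      rw [if_neg e2, if_neg e3]
      exact le_sup_right)
    rw [← pow_one p]
    exact mem_bot.mp (h1 (subset_closure ⟨x, mem_top x, rfl⟩))
  have hphi : Cfsg.IsElementaryAbelian p (frattini P) := by
    rw [frattini_eq_phi hP]
    refine ⟨?_, fun a ha => ?_⟩
    · by_cases hp3 : p = 3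
      · refine ⟨⟨fun a b => Subtype.ext (commutatorElement_eq_one_iff_mul_comm.mp (mem_bot.mp
          ((hphi2 (Or.inr hp3)).le (subset_closure (Or.inr ⟨_, a.2, _, b.2, rfl⟩)))))⟩⟩
      · refine (abelian_iff _).mpr fun a ha b _ => ?_
        rw [← frattini_eq_phi hP] at ha
        exact mem_center_iff.mp (hc hp3 ha) b
    · by_cases e : p = 2 ∨ p = 3
      · exact mem_bot.mp ((hphi2 e).le (subset_closure (Or.inl ⟨a, ha, rfl⟩)))
      · exact hpow (fun h2 => e (Or.inl h2)) (fun h3 => e (Or.inr h3)) a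
  refine ⟨h.jtop, ⟨(abelian_iff _).mpr fun a ha b _ => mem_center_iff.mp ha b, h.zel⟩, hphi,
    fun hp => hc (by omega), fun hp => ?_, fun hp => ⟨hc (by omega), ?_⟩, ?_⟩
  · intro x hx
    rw [Subgroup.mem_upperCentralSeries_succ_iff]
    intro y
    rw [Subgroup.upperCentralSeries_one]
    rw [frattini_eq_phi hP] at hx
    have h1 : ⁅⁅phi p (⊤ : Subgroup P), (⊤ : Subgroup P)⁆, (⊤ : Subgroup P)⁆ ≤ ⊥ := hs ▸ (by
      unfold s0
      rw [if_neg (by omega : p ≠ 2), if_pos hp]
      exact le_sup_left)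
    refine mem_center_iff.mpr fun z => ?_
    exact (commutator_eq_bot_iff_le_centralizer.mp (le_bot_iff.mp h1)
      (commutator_mem_commutator hx (mem_top y)) z (mem_top z))
  · refine ((Nat.dvd_prime Fact.out).mp (Monoid.exponent_dvd_of_forall_pow_eq_one
      (hpow (by omega) (by omega)))).resolve_left fun h1 => ?_
    haveI := Monoid.exp_eq_one_iff.mp h1
    exact not_subsingleton P ‹_›
  intro A hA B hB Q
  have hmax : Nat.card ↥A * Nat.card ↥(centralizer (A : Set P)) = Nat.card P * Nat.card ↥(center P) := by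
    have h1 := CL.large h.large
    unfold Cfsg.IsCentralizerLarge at h1
    rw [coe_top, centralizer_univ, card_top] at h1
    exact (h.alarge A hA).trans h1.symm
  refine ⟨?_, ?_, coe_sup_eq_mul (h.alarge A hA) (h.alarge B hB), ?_⟩
  · rw [sq]
    rwa [maxAbelian_centralizer hA] at hmax
  · refine (central_measure_le Q).trans (le_of_eq ?_)
    rw [← show Nat.card ↥(⊤ : Subgroup P) * _ = Cfsg.maxCentralProduct P from h.large, card_center,
      coe_top, centralizer_univ, top_inf_eq, card_top]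
  · rw [centralizer_inf_eq (h.alarge A hA) (h.alarge B hB), maxAbelian_centralizer hA,
      maxAbelian_centralizer hB]

theorem exists_isPair [Nontrivial P] (hP : IsPGroup p P)
    (h : ¬ (¬ IsMulCommutative P ∧ Rest p P)) :
    ∃ S₁ S₂ : Subgroup P, IsPair p P S₁ S₂ ∧
      Cfsg.maxCentralProduct ↥S₂ = Cfsg.maxCentralProduct ↥(jt P) := by
  by_cases hab : IsMulCommutative P
  · exact ⟨_, _, abelian_pair hab, rfl⟩
  · exact (pair_of_ne hP).resolve_right fun hr => h ⟨hab, hr⟩

theorem exists_isPair_elementary [Nontrivial P] (hP : IsPGroup p P)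
    (h : ¬ ((¬ IsMulCommutative P ∧ Rest p P) ∧
      ∃ A ∈ Cfsg.maxAbelianSubgroups P, Cfsg.IsElementaryAbelian p A)) :
    ∃ S₁ S₂ : Subgroup P, IsPair p P S₁ S₂ := by
  by_cases hr : ¬ IsMulCommutative P ∧ Rest p P
  swap
  · obtain ⟨S₁, S₂, hS, -⟩ := exists_isPair hP hr
    exact ⟨S₁, S₂, hS⟩
  have hne : Cfsg.frattiniOfMinimalCLJoin p P ≠ ⊥ := fun hbot => h ⟨hr, by
    obtain ⟨Q, hQ, hmz⟩ := exists_max_omega p P
    have hΦ : phi p Q ≤ ⊥ := by
      rw [← hbot, ← phi_eq_frattini (hP.to_subgroup Q)]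
      exact le_iSup (fun X : {X : Subgroup P // Cfsg.IsMinimalCentrallyLarge X ∧
        Nat.card ↥(Cfsg.omegaOneCenter p X) = Cfsg.maxOmegaCenterOfMinimalCL p P} =>
          (frattini ↥(X : Subgroup P)).map (X : Subgroup P).subtype) ⟨Q, hQ, hmz⟩
    refine ⟨Q, (hr.2.mcl Q).mp hQ, ((hr.2.mcl Q).mp hQ).1, fun a ha =>
      mem_bot.mp (hΦ (subset_closure (Or.inl ⟨a, ha, rfl⟩)))⟩⟩
  have hJ := hr.2.jtTop
  exact ⟨center P, _, center_ne_bot hP, hne, inferInstance,
    characteristic_of_map fun e => map_frattiniJoin_le e hP, le_rfl, hJ ▸ le_top,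
    subgroupOf_char_of_top hJ (characteristic_of_map fun e => map_frattiniJoin_le e hP),
    frattini_pair hP⟩

end Cfsg.Agent.PushingUp
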