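import Cfsg.Agent.EqLemmas
import Cfsg.Agent.Lib.CentrallyLarge.Basic
import Cfsg.Agent.Lib.PGroup.Basic
import Cfsg.Agent.S3007

/-!
Moving minimal centrally large subgroups into `T` by an orbit bound, abstractly in a group `P`.

* `step`: `(Q ∩ T) V` is minimal centrally large, `Q = (Q ∩ T) Z(Q)`.
* `omega_step`: the version keeping the largest `Ω₁(Z(Q))` when `V` has exponent `p`.
* `phi`: powers and commutators; `phi_eq_frattini`.
-/

set_option autoImplicit false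

open Subgroup Cfsg.Agent.CentrallyLarge
open scoped commutatorElement

namespace Cfsg.Agent.PushingUp

variable {P : Type*} [Group P] [Finite P]

/-- The hypothesis delivered by the orbit bound. -/
def OrbitBound (T V : Subgroup P) : Prop :=
  V ≤ T ∧ V ≤ centralizer (T : Set P) ∧ ∀ U : Subgroup P,
    Nat.card U * Nat.card ↥(V ⊓ centralizer (U : Set P)) ≤ Nat.card ↥(U ⊓ T) * Nat.card V

theorem minimal_of_data {R R' C' : Subgroup P} (hR : Cfsg.IsMinimalCentrallyLarge R)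
    (h1 : Nat.card R' = Nat.card R) (h2 : Nat.card C' = Nat.card ↥(centralizer (R : Set P)))
    (h3 : C' ≤ centralizer (R' : Set P)) (h4 : C' ≤ R') :
    Cfsg.IsMinimalCentrallyLarge R' ∧ centralizer (R' : Set P) = C' := by
  have hf : Cfsg.maxCentralizerProduct P = Nat.card R' * Nat.card C' := by
    rw [h1, h2]; exact (CL.large hR.1).symm
  have hle := measure_le R'
  rw [hf] at hle
  have hC := eq_of_card _ _ h3 (Nat.le_of_mul_le_mul_left hle Nat.card_pos)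
  have hcl : Cfsg.IsCentrallyLarge R' :=
    centrallyLarge_iff.mpr ⟨centralizerLarge_of_le (by rw [hf, ← hC]), hC ▸ h4⟩
  refine ⟨⟨hcl, fun Y hY hYcl => ?_⟩, hC.symm⟩
  obtain ⟨Y₀, hY₀, hle₀⟩ := exists_minimal_le hYcl
  exact eq_of_card _ _ hY (by rw [h1, ← (minimal_card_eq hY₀ hR).1]; exact card_le_of_le hle₀)

variable {T V Q : Subgroup P}

theorem step (hb : OrbitBound T V) (hQ : Cfsg.IsMinimalCentrallyLarge Q) :
    Cfsg.IsMinimalCentrallyLarge ((Q ⊓ T) ⊔ V) ∧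
    centralizer (((Q ⊓ T) ⊔ V : Subgroup P) : Set P) = (centralizer (Q : Set P) ⊓ T) ⊔ V ∧
    (Q ⊓ T) ⊔ centralizer (Q : Set P) = Q ∧ V ⊓ Q = V ⊓ centralizer (Q : Set P) ∧
    Nat.card ↥(centralizer (Q : Set P)) * Nat.card ↥(V ⊓ centralizer (Q : Set P)) =
      Nat.card ↥(centralizer (Q : Set P) ⊓ T) * Nat.card V := by
  obtain ⟨hVT, hVC, hU⟩ := hb
  have hQQ := centralizer_centralizer_eq (CL.large hQ.1)
  have hZQ := CL.le hQ.1
  set Z := centralizer (Q : Set P) with hZ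
  set R := (Q ⊓ T) ⊔ V
  set W := (Z ⊓ T) ⊔ V
  have hWC : W ≤ centralizer (R : Set P) := by
    rw [centralizer_sup]
    exact sup_le
      (le_inf (inf_le_left.trans (centralizer_le (SetLike.coe_subset_coe.mpr inf_le_left)))
        (le_centralizer_iff.mp (hVC.trans (centralizer_le (SetLike.coe_subset_coe.mpr inf_le_right)))))
      (le_inf (hVC.trans (centralizer_le (SetLike.coe_subset_coe.mpr inf_le_right)))
        (hVC.trans (centralizer_le (SetLike.coe_subset_coe.mpr hVT))))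
  have hWR : W ≤ R := sup_le_sup_right (inf_le_inf_right _ hZQ) _
  have eZ : Z ⊓ T ⊓ V = V ⊓ Z := by
    rw [inf_assoc, inf_eq_right.mpr hVT, inf_comm]
  have eQ : Q ⊓ T ⊓ V = V ⊓ Q := by
    rw [inf_assoc, inf_eq_right.mpr hVT, inf_comm]
  have a1 : Nat.card ↥(Q ⊓ T) * Nat.card V ≤ Nat.card R * Nat.card ↥(V ⊓ Q) := by
    have := card_mul_card_le (Q ⊓ T) V
    rwa [eQ] at this
  have a2 : Nat.card ↥(Z ⊓ T) * Nat.card V ≤ Nat.card W * Nat.card ↥(V ⊓ Z) := by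
    have := card_mul_card_le (Z ⊓ T) V
    rwa [eZ] at this
  have b1 : Nat.card Q * Nat.card ↥(V ⊓ Z) ≤ Nat.card ↥(Q ⊓ T) * Nat.card V := hU Q
  have b2 : Nat.card Z * Nat.card ↥(V ⊓ Q) ≤ Nat.card ↥(Z ⊓ T) * Nat.card V := by
    have := hU Z
    rwa [hQQ] at this
  have hf : Nat.card Q * Nat.card Z = Cfsg.maxCentralizerProduct P := CL.large hQ.1
  have hzv : Nat.card ↥(V ⊓ Z) ≤ Nat.card ↥(V ⊓ Q) := card_le_of_le (inf_le_inf_left _ hZQ)
  have hRW : Nat.card Q * Nat.card Z ≤ Nat.card R * Nat.card W := by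
    refine Nat.le_of_mul_le_mul_right ?_
      (Nat.mul_pos (Nat.card_pos (α := ↥(V ⊓ Z))) (Nat.card_pos (α := ↥(V ⊓ Q))))
    calc Nat.card Q * Nat.card Z * (Nat.card ↥(V ⊓ Z) * Nat.card ↥(V ⊓ Q))
        = Nat.card Q * Nat.card ↥(V ⊓ Z) * (Nat.card Z * Nat.card ↥(V ⊓ Q)) := by ring
      _ ≤ Nat.card ↥(Q ⊓ T) * Nat.card V * (Nat.card ↥(Z ⊓ T) * Nat.card V) := Nat.mul_le_mul b1 b2
      _ ≤ Nat.card R * Nat.card ↥(V ⊓ Q) * (Nat.card W * Nat.card ↥(V ⊓ Z)) := Nat.mul_le_mul a1 a2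
      _ = _ := by ring
  have hRC : Nat.card R * Nat.card ↥(centralizer (R : Set P)) ≤ Nat.card Q * Nat.card Z := hf ▸ measure_le R
  have hC : W = centralizer (R : Set P) :=
    eq_of_card _ _ hWC (Nat.le_of_mul_le_mul_left (hRC.trans hRW) Nat.card_pos)
  have hcl : Cfsg.IsCentrallyLarge R :=
    centrallyLarge_iff.mpr ⟨centralizerLarge_of_le (by rw [← hC, ← hf]; exact hRW), hC ▸ hWR⟩
  obtain ⟨R₀, hR₀, hle⟩ := exists_minimal_le hcl
  obtain ⟨hq, hz⟩ := minimal_card_eq hQ hR₀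
  have hWz : Nat.card W ≤ Nat.card Z := by
    rw [hZ, hz, hC]
    exact card_le_of_le (centralizer_le (SetLike.coe_subset_coe.mpr hle))
  have hzW : Nat.card Z * Nat.card ↥(V ⊓ Q) ≤ Nat.card W * Nat.card ↥(V ⊓ Z) := b2.trans a2
  have hWeq : Nat.card W = Nat.card Z := le_antisymm hWz (Nat.le_of_mul_le_mul_right
    ((Nat.mul_le_mul_left _ hzv).trans hzW) Nat.card_pos)
  rw [hWeq] at hzW a2 hRW
  have hVQ : V ⊓ Q = V ⊓ Z := (eq_of_card _ _ (inf_le_inf_left _ hZQ)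
    (Nat.le_of_mul_le_mul_left hzW Nat.card_pos)).symm
  have hR : Nat.card R = Nat.card Q := by
    refine le_antisymm (Nat.le_of_mul_le_mul_right ?_ (Nat.card_pos (α := ↥Z)))
      (Nat.le_of_mul_le_mul_right hRW Nat.card_pos)
    calc Nat.card R * Nat.card Z = Nat.card R * Nat.card ↥(centralizer (R : Set P)) := by
          rw [← hC, hWeq]
      _ ≤ _ := hRC
  rw [hR, hVQ] at a1
  rw [hVQ] at b2
  have hzT : Nat.card Z * Nat.card ↥(V ⊓ Z) = Nat.card ↥(Z ⊓ T) * Nat.card V := le_antisymm b2 a2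
  have hqT : Nat.card Q * Nat.card ↥(V ⊓ Z) = Nat.card ↥(Q ⊓ T) * Nat.card V := le_antisymm b1 a1
  refine ⟨?_, hC.symm, ?_, hVQ, hzT⟩
  · rwa [← eq_of_card R₀ R hle (by rw [hR, hq])]
  · refine eq_of_card _ _ (sup_le inf_le_left hZQ) ?_
    have h := card_mul_card_le (Q ⊓ T) Z
    rw [inf_assoc, inf_comm T Z, ← inf_assoc, inf_eq_right.mpr hZQ] at h
    refine Nat.le_of_mul_le_mul_right ?_ (Nat.card_pos (α := ↥(Z ⊓ T)))
    refine le_trans (le_of_eq ?_) h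
    refine Nat.eq_of_mul_eq_mul_right (Nat.card_pos (α := ↥(V ⊓ Z))) ?_
    calc Nat.card Q * Nat.card ↥(Z ⊓ T) * Nat.card ↥(V ⊓ Z)
        = Nat.card Q * Nat.card ↥(V ⊓ Z) * Nat.card ↥(Z ⊓ T) := by ring
      _ = Nat.card ↥(Q ⊓ T) * (Nat.card ↥(Z ⊓ T) * Nat.card V) := by rw [hqT]; ring
      _ = Nat.card ↥(Q ⊓ T) * Nat.card Z * Nat.card ↥(V ⊓ Z) := by rw [← hzT]; ring

omit [Finite P] in
theorem mem_omegaOne {p : ℕ} {H : Subgroup P} (hH : H ≤ centralizer (H : Set P)) {x : P} :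
    x ∈ Cfsg.omegaOne p H ↔ x ∈ H ∧ x ^ p = 1 := by
  refine ⟨fun hx => ?_, fun hx => subset_closure hx⟩
  induction hx using closure_induction with
  | mem a ha => exact ha
  | one => exact ⟨one_mem _, one_pow _⟩
  | mul a b _ _ ha hb => exact ⟨mul_mem ha.1 hb.1, by
      rw [(show Commute a b from hH hb.1 a ha.1).mul_pow, ha.2, hb.2, one_mul]⟩
  | inv a _ ha => exact ⟨inv_mem ha.1, by rw [inv_pow, ha.2, inv_one]⟩

theorem omegaOneCenter_eq {p : ℕ} (hQ : Cfsg.IsCentrallyLarge Q) :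
    Cfsg.omegaOneCenter p Q = Cfsg.omegaOne p (centralizer (Q : Set P)) := by
  rw [Cfsg.omegaOneCenter, inf_eq_right.mpr (CL.le hQ)]

theorem omega_step {p : ℕ} (hb : OrbitBound T V) (hVp : ∀ x ∈ V, x ^ p = 1)
    (hQ : Cfsg.IsMinimalCentrallyLarge Q)
    (hmax : ∀ X : Subgroup P, Cfsg.IsMinimalCentrallyLarge X →
      Nat.card ↥(Cfsg.omegaOneCenter p X) ≤ Nat.card ↥(Cfsg.omegaOneCenter p Q)) :
    Nat.card ↥(Cfsg.omegaOneCenter p ((Q ⊓ T) ⊔ V)) = Nat.card ↥(Cfsg.omegaOneCenter p Q) ∧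
      (Q ⊓ T) ⊔ Cfsg.omegaOneCenter p Q = Q := by
  obtain ⟨hR, hC, hQeq, -, hzT⟩ := step hb hQ
  have hm := hmax _ hR
  rw [omegaOneCenter_eq hQ.1, omegaOneCenter_eq hR.1, hC] at hm ⊢
  have hZab : centralizer (Q : Set P) ≤ centralizer ((centralizer (Q : Set P) : Subgroup P) : Set P) :=
    (CL.le hQ.1).trans (le_centralizer_iff.mp le_rfl)
  set Z := centralizer (Q : Set P)
  set O := Cfsg.omegaOne p Z
  have hOZ : O ≤ Z := fun x hx => ((mem_omegaOne hZab).mp hx).1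
  have hOW : (O ⊓ T) ⊔ V ≤ Cfsg.omegaOne p ((Z ⊓ T) ⊔ V) := by
    refine sup_le (fun x hx => subset_closure ⟨mem_sup_left ⟨hOZ hx.1, hx.2⟩, ?_⟩)
      (fun x hx => subset_closure ⟨mem_sup_right hx, hVp x hx⟩)
    exact ((mem_omegaOne hZab).mp hx.1).2
  have eO : O ⊓ T ⊓ V = V ⊓ Z := by
    refine le_antisymm (fun x hx => ⟨hx.2, hOZ hx.1.1⟩) fun x hx =>
      ⟨⟨(mem_omegaOne hZab).mpr ⟨hx.2, hVp x hx.1⟩, hb.1 hx.1⟩, hx.1⟩
  have a := (card_mul_card_le (O ⊓ T) V).trans (Nat.mul_le_mul_right _ (card_le_of_le hOW))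
  rw [eO] at a
  have c := card_mul_card_le O (Z ⊓ T)
  rw [← inf_assoc, inf_eq_left.mpr hOZ] at c
  have hsup : O ⊔ (Z ⊓ T) ≤ Z := sup_le hOZ inf_le_left
  set o := Nat.card O
  set w := Nat.card ↥(Cfsg.omegaOne p ((Z ⊓ T) ⊔ V))
  set k := Nat.card ↥(V ⊓ Z)
  set oT := Nat.card ↥(O ⊓ T)
  set zT := Nat.card ↥(Z ⊓ T)
  have hk : 0 < k := Nat.card_pos
  have h1 : Nat.card Z * oT ≤ o * zT := by
    refine Nat.le_of_mul_le_mul_right ?_ hk
    calc Nat.card Z * oT * k = Nat.card Z * k * oT := by ring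
      _ = oT * Nat.card V * zT := by rw [hzT]; ring
      _ ≤ w * k * zT := Nat.mul_le_mul_right _ a
      _ ≤ o * k * zT := Nat.mul_le_mul_right _ (Nat.mul_le_mul_right _ hm)
      _ = _ := by ring
  have hZeq : O ⊔ (Z ⊓ T) = Z := eq_of_card _ _ hsup
    (Nat.le_of_mul_le_mul_right (h1.trans c) Nat.card_pos)
  have h2 : o * zT ≤ Nat.card Z * oT := hZeq ▸ c
  refine ⟨le_antisymm hm ?_, ?_⟩
  · refine Nat.le_of_mul_le_mul_right ?_ (Nat.mul_pos (Nat.card_pos (α := ↥(Z ⊓ T))) hk)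
    calc o * (zT * k) ≤ Nat.card Z * oT * k := by rw [← mul_assoc]; exact Nat.mul_le_mul_right _ h2
      _ = oT * Nat.card V * zT := by rw [mul_right_comm, hzT]; ring
      _ ≤ w * k * zT := Nat.mul_le_mul_right _ a
      _ = _ := by ring
  · refine le_antisymm (sup_le inf_le_left (hOZ.trans (CL.le hQ.1))) ?_
    conv_lhs => rw [← hQeq, ← hZeq]
    exact sup_le le_sup_left (sup_le le_sup_right
      ((inf_le_inf_right _ (CL.le hQ.1)).trans le_sup_left))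

/-! ### powers and commutators -/

/-- `X^p [X, X]`. -/
def phi (p : ℕ) {H : Type*} [Group H] (X : Subgroup H) : Subgroup H :=
  closure {a | (∃ x ∈ X, x ^ p = a) ∨ ∃ x ∈ X, ∃ y ∈ X, ⁅x, y⁆ = a}

omit [Finite P] in
theorem phi_mono {p : ℕ} {X Y : Subgroup P} (h : X ≤ Y) : phi p X ≤ phi p Y := by
  refine closure_mono ?_
  rintro a (⟨x, hx, rfl⟩ | ⟨x, hx, y, hy, rfl⟩)
  · exact Or.inl ⟨x, h hx, rfl⟩
  · exact Or.inr ⟨x, h hx, y, h hy, rfl⟩

omit [Finite P] in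
theorem map_phi {p : ℕ} {H : Type*} [Group H] (f : P →* H) (X : Subgroup P) :
    (phi p X).map f = phi p (X.map f) := by
  rw [phi, MonoidHom.map_closure]
  congr 1
  ext a
  constructor
  · rintro ⟨b, ⟨x, hx, rfl⟩ | ⟨x, hx, y, hy, rfl⟩, rfl⟩
    · exact Or.inl ⟨f x, mem_map_of_mem f hx, (map_pow f x p).symm⟩
    · exact Or.inr ⟨f x, mem_map_of_mem f hx, f y, mem_map_of_mem f hy, (map_commutatorElement f x y).symm⟩
  · rintro (⟨_, ⟨x, hx, rfl⟩, rfl⟩ | ⟨_, ⟨x, hx, rfl⟩, _, ⟨y, hy, rfl⟩, rfl⟩)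
    · exact ⟨x ^ p, Or.inl ⟨x, hx, rfl⟩, map_pow f x p⟩
    · exact ⟨⁅x, y⁆, Or.inr ⟨x, hx, y, hy, rfl⟩, map_commutatorElement f x y⟩

theorem phi_eq_frattini {p : ℕ} [Fact p.Prime] {X : Subgroup P} (hX : IsPGroup p X) :
    (frattini ↥X).map X.subtype = phi p X := by
  rw [PGroup.frattini_eq hX, Subgroup.map_sup, MonoidHom.map_closure, map_subtype_commutator,
    Subgroup.commutator_def, ← Subgroup.closure_union, phi]
  congr 1
  ext a
  constructor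
  · rintro (⟨x, hx, y, hy, rfl⟩ | ⟨_, ⟨x, rfl⟩, rfl⟩)
    · exact Or.inr ⟨x, hx, y, hy, rfl⟩
    · exact Or.inl ⟨x, x.2, rfl⟩
  · rintro (⟨x, hx, rfl⟩ | ⟨x, hx, y, hy, rfl⟩)
    · exact Or.inr ⟨_, ⟨⟨x, hx⟩, rfl⟩, rfl⟩
    · exact Or.inl ⟨x, hx, y, hy, rfl⟩

omit [Finite P] in
theorem phi_sup_le {p : ℕ} {A O : Subgroup P} (hO : ∀ e ∈ O, e ^ p = 1)
    (hc : O ≤ centralizer ((A ⊔ O : Subgroup P) : Set P)) : phi p (A ⊔ O) ≤ phi p A := by
  have hn : O ≤ normalizer (A : Set P) :=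
    (hc.trans (centralizer_le (SetLike.coe_subset_coe.mpr le_sup_left))).trans (centralizer_le_normalizer _)
  have hmem : ∀ x ∈ A ⊔ O, ∃ a ∈ A, ∃ e ∈ O, a * e = x := fun x hx => by
    rw [← SetLike.mem_coe, Subgroup.coe_mul_of_right_le_normalizer_left _ _ hn] at hx
    exact hx
  conv_lhs => rw [phi]
  rw [closure_le]
  rintro z (⟨x, hx, rfl⟩ | ⟨x, hx, y, hy, rfl⟩)
  · obtain ⟨a, ha, e, he, rfl⟩ := hmem x hx
    refine subset_closure (Or.inl ⟨a, ha, ?_⟩)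
    rw [(show Commute a e from hc he a (mem_sup_left ha)).mul_pow, hO e he, mul_one]
  · obtain ⟨a, ha, e, he, rfl⟩ := hmem x hx
    obtain ⟨b, hb, d, hd, rfl⟩ := hmem y hy
    refine subset_closure (Or.inr ⟨a, ha, b, hb, ?_⟩)
    have h1 : Commute (b * d) e := hc he _ hy
    have h2 : Commute a d := hc hd a (mem_sup_left ha)
    rw [commutatorElement_def, commutatorElement_def]
    symm
    calc a * e * (b * d) * (a * e)⁻¹ * (b * d)⁻¹
        = a * (e * (b * d)) * e⁻¹ * a⁻¹ * (b * d)⁻¹ := by group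
      _ = a * ((b * d) * e) * e⁻¹ * a⁻¹ * (b * d)⁻¹ := by rw [h1.eq]
      _ = a * b * (d * a⁻¹) * d⁻¹ * b⁻¹ := by group
      _ = a * b * (a⁻¹ * d) * d⁻¹ * b⁻¹ := by rw [h2.inv_left.eq]
      _ = a * b * a⁻¹ * b⁻¹ := by group

end Cfsg.Agent.PushingUp
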