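import Cfsg.Agent.Lib.PushingUp.Bound
import Cfsg.Agent.Lib.PushingUp.Step

/-!
Between the group `G` and its Sylow subgroup `↥S` in the pushing-up situation.

* `orbitBound`: the orbit bound inside `↥S`.
* `centralizer_omega_sup_ne_top`: `Ω₁(V)` inherits `C_G(·) ⊔ S ≠ ⊤`.
* `exists_conj`: `G` permutes the minimal centrally large subgroups of `S` inside `O_p(G)`.
* `normal_of_iSup`: joins invariant under `G`.
-/

set_option autoImplicit false

open Subgroup Cfsg.Agent.CentrallyLarge
open scoped Pointwise commutatorElement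

namespace Cfsg.Agent.PushingUp

variable {G : Type*} [Group G] [Finite G] {p : ℕ} [Fact p.Prime] {S : Subgroup G}

theorem orbitBound (hE : Cfsg.IsPushingUpSituation p S) (V : Subgroup G) [V.Normal]
    (hV : V ≤ Cfsg.pCore p G ⊓ centralizer (Cfsg.pCore p G : Set G))
    (hC : centralizer (V : Set G) ⊔ S ≠ ⊤) :
    OrbitBound ((Cfsg.pCore p G).subgroupOf S) (V.subgroupOf S) := by
  have hVS : V ≤ S := (hV.trans inf_le_left).trans (pCore_le hE)
  have hVab : IsMulCommutative V := (abelian_iff V).mpr ((hV.trans inf_le_right).trans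
    (centralizer_le (SetLike.coe_subset_coe.mpr (hV.trans inf_le_left))))
  refine ⟨fun x hx => (hV hx).1, fun x hx t ht => Subtype.ext ((hV hx).2 _ ht), fun U => ?_⟩
  have h := card_bound hE V hVab ((Cores.isPGroup_pCore p G).to_le (hV.trans inf_le_left)) hC
    (map_subtype_le U)
  have e1 : (V.subgroupOf S ⊓ centralizer (U : Set ↥S)).map S.subtype =
      V ⊓ centralizer ((U.map S.subtype : Subgroup G) : Set G) := by
    ext x
    constructor
    · rintro ⟨y, ⟨hy1, hy2⟩, rfl⟩
      refine ⟨hy1, ?_⟩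
      rintro _ ⟨u, hu, rfl⟩
      exact congrArg Subtype.val (hy2 u hu)
    · rintro ⟨hx1, hx2⟩
      exact ⟨⟨x, hVS hx1⟩, ⟨hx1, fun u hu => Subtype.ext (hx2 _ (mem_map_of_mem _ hu))⟩, rfl⟩
  have e2 : (U ⊓ (Cfsg.pCore p G).subgroupOf S).map S.subtype = U.map S.subtype ⊓ Cfsg.pCore p G := by
    rw [Subgroup.map_inf _ _ _ (subtype_injective S), subgroupOf_map_subtype, ← inf_assoc]
    exact inf_eq_left.mpr (inf_le_left.trans (map_subtype_le U)) |>.trans rfl
  rw [← e1, ← e2, Subgroup.card_subtype, Subgroup.card_subtype, Subgroup.card_subtype] at h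
  rwa [Nat.card_congr (subgroupOfEquivOfLe hVS).toEquiv]

/-- An element of order prime to `p` lies in every normal subgroup supplementing `S`. -/
theorem mem_of_sup_eq_top (hE : Cfsg.IsPushingUpSituation p S) (N : Subgroup G) [hN : N.Normal]
    (h : N ⊔ S = ⊤) {x : G} (hx : (orderOf x).Coprime p) : x ∈ N := by
  have hx' : x ∈ N ⊔ S := h ▸ mem_top x
  rw [← SetLike.mem_coe, normal_mul] at hx'
  obtain ⟨c, hc, s, hs, rfl⟩ := hx'
  obtain ⟨k, hk⟩ := isPGroup hE ⟨s, hs⟩
  have hsk : s ^ p ^ k = 1 := congrArg Subtype.val hk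
  have h1 : QuotientGroup.mk' N (c * s) = QuotientGroup.mk' N s := by
    rw [map_mul, QuotientGroup.mk'_apply, (QuotientGroup.eq_one_iff c).mpr hc, one_mul]
  refine (QuotientGroup.eq_one_iff _).mp (orderOf_eq_one_iff.mp ?_)
  refine Nat.eq_one_of_dvd_coprimes (hx.pow_right k) (orderOf_map_dvd (QuotientGroup.mk' N) _) ?_
  refine orderOf_dvd_of_pow_eq_one ?_
  show (QuotientGroup.mk' N (c * s)) ^ p ^ k = 1
  rw [h1, ← map_pow, hsk, map_one]

omit [Finite G] [Fact p.Prime] in
theorem normal_omegaOne (V : Subgroup G) [hV : V.Normal] : (Cfsg.omegaOne p V).Normal := ⟨fun w hw a => by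
  have hle : Cfsg.omegaOne p V ≤ (Cfsg.omegaOne p V).comap (MulAut.conj a).toMonoidHom := by
    conv_lhs => rw [Cfsg.omegaOne]
    rw [closure_le]
    intro x hx
    refine subset_closure ⟨hV.conj_mem x hx.1 a, ?_⟩
    show (MulAut.conj a x) ^ p = 1
    rw [← map_pow, hx.2, map_one]
  exact hle hw⟩

/-- `Ω₁(V)` has no supplemented centraliser either. -/
theorem centralizer_omega_sup_ne_top (hE : Cfsg.IsPushingUpSituation p S) (V : Subgroup G) [V.Normal]
    (hV : IsMulCommutative V) (hVp : IsPGroup p V) (hC : centralizer (V : Set G) ⊔ S ≠ ⊤) :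
    centralizer (Cfsg.omegaOne p V : Set G) ⊔ S ≠ ⊤ := by
  intro htop
  haveI := normal_omegaOne (p := p) V
  refine hC (eq_top_of_coprime_mem hE le_sup_right fun x hx => mem_sup_left ?_)
  have hx' := mem_of_sup_eq_top hE (centralizer (Cfsg.omegaOne p V : Set G)) htop hx
  intro v hv
  set f := commHom V hV x
  by_contra hne
  have hf : f ⟨v, hv⟩ ≠ 1 := by
    intro h
    have h1 := congrArg Subtype.val h
    rw [coe_commHom, Subgroup.coe_one, mul_inv_eq_one] at h1
    exact hne (eq_mul_inv_iff_mul_eq.mp h1)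
  have hdvd : p ∣ Nat.card ↥f.range := by
    obtain ⟨n, hn⟩ := IsPGroup.iff_card.mp (hVp.to_subgroup f.range)
    rw [hn]
    refine dvd_pow_self p ?_
    rintro rfl
    have := (eq_bot_of_card_eq f.range (by simpa using hn)).le (⟨⟨v, hv⟩, rfl⟩ : f ⟨v, hv⟩ ∈ f.range)
    exact hf (mem_bot.mp this)
  obtain ⟨⟨w, u, rfl⟩, hw⟩ := exists_prime_orderOf_dvd_card' p hdvd
  rw [← Subgroup.orderOf_coe, ← Subgroup.orderOf_coe] at hw
  have hwp : (f u : G) ^ p = 1 := by rw [← hw]; exact pow_orderOf_eq_one _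
  have h1 := hx' _ (subset_closure ⟨(f u).2, hwp⟩)
  have h2 : (f u : G) = 1 := eq_one_of_fix hVp (v := (u : G)) (f u).2 hx
    (by rw [← h1, mul_inv_cancel_right]) (by rw [coe_commHom]; group)
  rw [show orderOf (f u : G) = 1 from orderOf_eq_one_iff.mpr h2] at hw
  exact (Fact.out : p.Prime).ne_one hw.symm

/-- Conjugation maps minimal centrally large subgroups of `S` inside `O_p(G)` to such. -/
theorem exists_conj (hE : Cfsg.IsPushingUpSituation p S) {R : Subgroup ↥S}
    (hR : Cfsg.IsMinimalCentrallyLarge R) (hRT : R ≤ (Cfsg.pCore p G).subgroupOf S) (a : G) :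
    ∃ R' : Subgroup ↥S, Cfsg.IsMinimalCentrallyLarge R' ∧ R' ≤ (Cfsg.pCore p G).subgroupOf S ∧
      R'.map S.subtype = (R.map S.subtype).map (MulAut.conj a).toMonoidHom ∧
      (centralizer (R' : Set ↥S)).map S.subtype =
        ((centralizer (R : Set ↥S)).map S.subtype).map (MulAut.conj a).toMonoidHom := by
  set c := (MulAut.conj a).toMonoidHom
  have hT : ∀ X : Subgroup ↥S, X ≤ (Cfsg.pCore p G).subgroupOf S →
      (X.map S.subtype).map c ≤ Cfsg.pCore p G := by
    rintro X hX _ ⟨_, ⟨y, hy, rfl⟩, rfl⟩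
    exact (inferInstance : (Cfsg.pCore p G).Normal).conj_mem _ (hX hy) a
  have hC := (CL.le hR.1).trans hRT
  set R' := ((R.map S.subtype).map c).subgroupOf S
  set C' := (((centralizer (R : Set ↥S)).map S.subtype).map c).subgroupOf S
  have e : ∀ X : Subgroup ↥S, X ≤ (Cfsg.pCore p G).subgroupOf S →
      (((X.map S.subtype).map c).subgroupOf S).map S.subtype = (X.map S.subtype).map c :=
    fun X hX => (subgroupOf_map_subtype _ _).trans (inf_eq_left.mpr ((hT X hX).trans (pCore_le hE)))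
  have hcard : ∀ X : Subgroup ↥S, X ≤ (Cfsg.pCore p G).subgroupOf S →
      Nat.card ↥(((X.map S.subtype).map c).subgroupOf S) = Nat.card X := fun X hX => by
    rw [← Subgroup.card_subtype S, e X hX, card_map_of_injective (MulAut.conj a).injective,
      Subgroup.card_subtype]
  obtain ⟨h1, h2⟩ := minimal_of_data hR (R' := R') (C' := C') (hcard R hRT) (hcard _ hC)
    (by
      rintro x ⟨_, ⟨y, hy, rfl⟩, hx⟩ z ⟨_, ⟨w, hw, rfl⟩, hz⟩
      refine Subtype.ext ?_
      show (z : G) * x = x * z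
      rw [← show c (S.subtype w) = z from hz, ← show c (S.subtype y) = x from hx, ← map_mul, ← map_mul,
        ← map_mul, ← map_mul, hy w hw])
    (comap_mono (Subgroup.map_mono (Subgroup.map_mono (CL.le hR.1))))
  refine ⟨R', h1, fun x hx => hT R hRT hx, e R hRT, ?_⟩
  rw [h2]
  exact e _ hC

omit [Finite G] in
/-- A join of subgroups permuted by conjugation is normal. -/
theorem normal_of_iSup {ι : Type*} (X : ι → Subgroup G)
    (h : ∀ (i : ι) (a : G), (X i).map (MulAut.conj a).toMonoidHom ≤ ⨆ j, X j) :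
    (⨆ j, X j).Normal := ⟨fun w hw a => by
  have hle : (⨆ j, X j).map (MulAut.conj a).toMonoidHom ≤ ⨆ j, X j := by
    rw [Subgroup.map_iSup]
    exact iSup_le fun i => h i a
  exact hle (mem_map_of_mem _ hw)⟩

end Cfsg.Agent.PushingUp
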