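import Cfsg.Agent.Lib.PushingUp.Setup

/-!
The orbit bound: for an abelian normal `p`-subgroup `V` with `C_G(V) ⊔ S ≠ ⊤` and `U ≤ S`,
`|U| * |V ∩ C(U)| ≤ |U ∩ O_p(G)| * |V|`.
-/

set_option autoImplicit false

open Subgroup
open scoped Pointwise commutatorElement

namespace Cfsg.Agent.PushingUp

/-- At most `[B : C]` maps into a group of order `≤ p` extend a given one on `C`. -/
theorem card_homs_le {p : ℕ} [Fact p.Prime] {B A : Type*} [Group B] [Finite B] [Group A] [Finite A]
    (hB : IsPGroup p B) (hA : Nat.card A ≤ p) (C : Subgroup B) (φ : B →* A) :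
    Nat.card {ψ : B →* A // ∀ c ∈ C, ψ c = φ c} ≤ C.index := by
  classical
  have : Finite (B →* A) := Finite.of_injective _ DFunLike.coe_injective
  induction h : C.index using Nat.strong_induction_on generalizing C φ with
  | _ n ih =>
    subst h
    by_cases hC : C = ⊤
    · have : Subsingleton {ψ : B →* A // ∀ c ∈ C, ψ c = φ c} := ⟨fun a b => Subtype.ext
        (MonoidHom.ext fun x => (a.2 x (hC ▸ mem_top x)).trans (b.2 x (hC ▸ mem_top x)).symm)⟩
      exact (Finite.card_le_one_iff_subsingleton.mpr this).trans (Nat.one_le_iff_ne_zero.mpr index_ne_zero_of_finite)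
    obtain ⟨b, hb⟩ : ∃ b, b ∉ C := by
      by_contra h
      simp only [not_exists, not_not] at h
      exact hC (eq_top_iff.mpr fun x _ => h x)
    set C' := C ⊔ zpowers b
    have hmul : C.relIndex C' * C'.index = C.index := relIndex_mul_index le_sup_left
    have hne : C.relIndex C' ≠ 1 := fun h => hb (relIndex_eq_one.mp h (mem_sup_right (mem_zpowers b)))
    have hrel : p ≤ C.relIndex C' := by
      obtain ⟨n, hn⟩ := (hB.to_subgroup C').index (C.subgroupOf C')
      change C.relIndex C' = _ at hn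
      rw [hn]
      refine Nat.le_self_pow ?_ p
      rintro rfl
      exact hne (by simpa using hn)
    have hlt : C'.index < C.index := by
      rw [← hmul]
      exact lt_mul_left (Nat.pos_of_ne_zero index_ne_zero_of_finite) ((Fact.out : p.Prime).one_lt.trans_le hrel)
    have := Fintype.ofFinite {ψ : B →* A // ∀ c ∈ C, ψ c = φ c}
    have := Fintype.ofFinite A
    rw [Nat.card_eq_fintype_card, ← Finset.card_univ]
    refine (Finset.card_le_mul_card_image (f := fun ψ : {ψ : B →* A // ∀ c ∈ C, ψ c = φ c} => ψ.1 b)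
      Finset.univ C'.index ?_).trans ?_
    · intro a ha
      obtain ⟨ψ₀, -, rfl⟩ := Finset.mem_image.mp ha
      refine le_trans ?_ (ih _ hlt C' ψ₀.1 rfl)
      rw [← Fintype.card_subtype, ← Nat.card_eq_fintype_card]
      refine Nat.card_le_card_of_injective
        (fun ψ => ⟨ψ.1.1, fun c hc => ?_⟩) (fun a b h => Subtype.ext (Subtype.ext (congrArg Subtype.val h :)))
      have h1 : C' ≤ MonoidHom.eqLocus ψ.1.1 ψ₀.1 :=
        sup_le (fun c hc => (ψ.1.2 c hc).trans (ψ₀.2 c hc).symm)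
          (zpowers_le.mpr (Finset.mem_filter.mp (by simp [ψ.2] : ψ.1 ∈ Finset.univ.filter
            (fun x : {ψ : B →* A // ∀ c ∈ C, ψ c = φ c} => x.1 b = ψ₀.1 b))).2)
      exact h1 hc
    · rw [← hmul, mul_comm]
      refine Nat.mul_le_mul_right _ (le_trans (Finset.card_le_univ _) ?_)
      rw [← Nat.card_eq_fintype_card]
      exact hA.trans hrel

variable {G : Type*} [Group G] [Finite G] {p : ℕ} [Fact p.Prime] {S : Subgroup G}

omit [Finite G] [Fact p.Prime] in
theorem fix_pow {w v x : G} (hw : x * w * x⁻¹ = w) (hv : x * v * x⁻¹ = w⁻¹ * v) (n : ℕ) :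
    x ^ n * v * (x ^ n)⁻¹ = w⁻¹ ^ n * v := by
  induction n with
  | zero => simp
  | succ k ih =>
    have hc : Commute x w⁻¹ := Commute.inv_right (mul_inv_eq_iff_eq_mul.mp hw)
    calc x ^ (k + 1) * v * (x ^ (k + 1))⁻¹ = x * (x ^ k * v * (x ^ k)⁻¹) * x⁻¹ := by
          rw [pow_succ']; group
      _ = x * w⁻¹ ^ k * v * x⁻¹ := by rw [ih]; group
      _ = w⁻¹ ^ k * (x * v * x⁻¹) := by rw [(hc.pow_right k).eq]; group
      _ = w⁻¹ ^ (k + 1) * v := by rw [hv, pow_succ]; group

/-- Coprime action on an abelian normal `p`-subgroup: a fixed commutator is trivial. -/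
theorem eq_one_of_fix {V : Subgroup G} (hVp : IsPGroup p V) {w v x : G} (hwV : w ∈ V)
    (hx : (orderOf x).Coprime p) (hw : x * w * x⁻¹ = w) (hv : x * v * x⁻¹ = w⁻¹ * v) : w = 1 := by
  have h := fix_pow hw hv (orderOf x)
  rw [pow_orderOf_eq_one, one_mul, inv_one, mul_one, right_eq_mul, inv_pow, inv_eq_one] at h
  obtain ⟨k, hk⟩ := hVp ⟨w, hwV⟩
  have hk' : w ^ p ^ k = 1 := congrArg Subtype.val hk
  rw [← orderOf_eq_one_iff]
  exact Nat.eq_one_of_dvd_coprimes (hx.pow_right k) (orderOf_dvd_of_pow_eq_one h) (orderOf_dvd_of_pow_eq_one hk')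

/-- The endomorphism `v ↦ v (x v x⁻¹)⁻¹` of an abelian normal subgroup. -/
def commHom (V : Subgroup G) [V.Normal] (hV : IsMulCommutative V) (x : G) : ↥V →* ↥V :=
  MonoidHom.mk' (fun v => v * (MulAut.conjNormal x v)⁻¹) fun a b => by
    letI : CommGroup ↥V := { (inferInstance : Group ↥V) with mul_comm := hV.is_comm.comm }
    show a * b * (MulAut.conjNormal x (a * b))⁻¹ = _
    rw [map_mul, mul_inv, mul_mul_mul_comm]

omit [Finite G] [Fact p.Prime] in
theorem coe_commHom (V : Subgroup G) [V.Normal] (hV : IsMulCommutative V) (x : G) (v : ↥V) :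
    (commHom V hV x v : G) = v * (x * v * x⁻¹)⁻¹ := by
  show ((v * (MulAut.conjNormal x v)⁻¹ : ↥V) : G) = _
  rw [coe_mul, coe_inv, MulAut.conjNormal_apply]

/-- The commutator endomorphism of a `p'`-element is bijective on its image. -/
theorem commHom_comp_range (V : Subgroup G) [V.Normal] (hV : IsMulCommutative V) (hVp : IsPGroup p V)
    {x : G} (hx : (orderOf x).Coprime p) (v : ↥V) :
    ∃ u : ↥V, commHom V hV x (commHom V hV x u) = commHom V hV x v := by
  set f := commHom V hV x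
  have hinj : Function.Injective (fun w : ↥f.range => (⟨f w, ⟨w, rfl⟩⟩ : ↥f.range)) := by
    intro a b hab
    have h : f (a / b : ↥f.range) = 1 := by
      rw [Subgroup.coe_div, map_div, div_eq_one]
      exact congrArg Subtype.val hab
    obtain ⟨u, hu⟩ := (a / b : ↥f.range).2
    refine div_eq_one.mp (Subtype.ext (Subtype.ext ?_))
    refine eq_one_of_fix hVp (v := (u : G)) ((a / b : ↥f.range) : ↥V).2 hx ?_ ?_
    · have h1 := congrArg Subtype.val h
      rw [coe_commHom, Subgroup.coe_one, mul_inv_eq_one] at h1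
      exact h1.symm
    · rw [← hu, coe_commHom]
      group
  obtain ⟨⟨w, u, hu⟩, hw⟩ := (Finite.surjective_of_injective hinj) (⟨f v, ⟨v, rfl⟩⟩ : ↥f.range)
  refine ⟨u, ?_⟩
  rw [hu]
  exact congrArg Subtype.val hw

/-- The `p'`-elements and `S` generate `G`. -/
theorem eq_top_of_coprime_mem (hE : Cfsg.IsPushingUpSituation p S) {X : Subgroup G}
    (hS : S ≤ X) (h : ∀ x : G, (orderOf x).Coprime p → x ∈ X) : X = ⊤ := by
  refine PMinimal.eq_top_of_forall_sylow X fun q hq _ => ?_
  have := Fact.mk hq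
  by_cases hqp : q = p
  · subst hqp
    obtain ⟨P, hP⟩ := hE.2.1
    exact ⟨P, hP ▸ hS⟩
  · obtain ⟨Q⟩ : Nonempty (Sylow q G) := inferInstance
    refine ⟨Q, fun x hx => h x ?_⟩
    obtain ⟨k, hk⟩ := Q.2 ⟨x, hx⟩
    exact Nat.Coprime.coprime_dvd_left (orderOf_dvd_of_pow_eq_one (congrArg Subtype.val hk : x ^ q ^ k = 1))
      (((Nat.coprime_primes hq Fact.out).mpr hqp).pow_left k)

/-- A nontrivial subgroup normalised by a `p`-group `R` containing it has an `R`-central quotient
of order `p`. -/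
theorem exists_hyperplane {R V : Subgroup G} (hR : IsPGroup p R) (hVR : V ≤ R) (hne : V ≠ ⊥)
    (hV : R ≤ normalizer (V : Set G)) :
    ∃ H : Subgroup G, H < V ∧ H.relIndex V = p ∧ ∀ r ∈ R, ∀ v ∈ V, r * v * r⁻¹ * v⁻¹ ∈ H := by
  obtain ⟨H, -, ⟨hHV, hHn⟩, hmax⟩ := Set.Finite.exists_le_maximal
    (s := {H : Subgroup G | H < V ∧ R ≤ normalizer (H : Set G)}) (Set.toFinite _) (a := ⊥)
    ⟨bot_lt_iff_ne_bot.mpr hne, by rw [normalizer_eq_top]; exact le_top⟩
  have hHR : H ≤ R := hHV.le.trans hVR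
  haveI : (H.subgroupOf R).Normal := normal_subgroupOf_of_le_normalizer hHn
  haveI : (V.subgroupOf R).Normal := normal_subgroupOf_of_le_normalizer hV
  haveI := Subgroup.Normal.map (inferInstance : (V.subgroupOf R).Normal)
    (QuotientGroup.mk' (H.subgroupOf R)) (QuotientGroup.mk'_surjective _)
  have hne' : (V.subgroupOf R).map (QuotientGroup.mk' (H.subgroupOf R)) ≠ ⊥ := by
    rw [ne_eq, Subgroup.map_eq_bot_iff, QuotientGroup.ker_mk']
    exact fun h => hHV.not_ge fun v hv => h (show (⟨v, hVR hv⟩ : ↥R) ∈ V.subgroupOf R from hv)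
  obtain ⟨⟨z, ⟨v, hvV, rfl⟩, hzc⟩, hz1⟩ := Subgroup.ne_bot_iff_exists_ne_one.mp
    (PGroup.inf_center_ne_bot (hR.to_quotient _) hne')
  have hvH : (v : G) ∉ H := fun h => hz1 (Subtype.ext ((QuotientGroup.eq_one_iff v).mpr h))
  have hcomm : ∀ r ∈ R, r * v * r⁻¹ * (v : G)⁻¹ ∈ H := by
    intro r hr
    have h1 := mem_center_iff.mp hzc (QuotientGroup.mk' _ (⟨r, hr⟩ : ↥R))
    have h2 : QuotientGroup.mk' (H.subgroupOf R) (⟨r, hr⟩ * v * ⟨r, hr⟩⁻¹ * v⁻¹) = 1 := by
      rw [map_mul, map_mul, map_mul, map_inv, map_inv, h1]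
      group
    exact (QuotientGroup.eq_one_iff (N := H.subgroupOf R) _).mp h2
  have hnorm : ∀ a : G, (∀ r ∈ R, r * a * r⁻¹ * a⁻¹ ∈ H) →
      R ≤ normalizer ((H ⊔ zpowers a : Subgroup G) : Set G) := by
    intro a ha
    rw [le_normalizer_iff]
    intro r hr x hx
    have hle : H ⊔ zpowers a ≤ (H ⊔ zpowers a).comap (MulAut.conj r).toMonoidHom := by
      refine sup_le (fun y hy => mem_sup_left ((mem_normalizer_iff.mp (hHn hr) y).mp hy))
        (zpowers_le.mpr ?_)
      show r * a * r⁻¹ ∈ H ⊔ zpowers a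
      rw [show r * a * r⁻¹ = r * a * r⁻¹ * a⁻¹ * a by group]
      exact mul_mem (mem_sup_left (ha r hr)) (mem_sup_right (mem_zpowers a))
    exact hle hx
  have htop : ∀ a ∈ V, a ∉ H → (∀ r ∈ R, r * a * r⁻¹ * a⁻¹ ∈ H) → V ≤ H ⊔ zpowers a := by
    intro a haV haH ha
    by_contra h
    exact haH (hmax ⟨lt_of_le_not_ge (sup_le hHV.le (zpowers_le.mpr haV)) h, hnorm a ha⟩ le_sup_left
      (mem_sup_right (mem_zpowers a)))
  have hVHv := htop v hvV hvH hcomm
  have hall : ∀ r ∈ R, ∀ w ∈ V, r * w * r⁻¹ * w⁻¹ ∈ H := by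
    intro r hr w hw
    let q : ↥R →* ↥R ⧸ H.subgroupOf R := QuotientGroup.mk' _
    have hle : V.subgroupOf R ≤ (center (↥R ⧸ H.subgroupOf R)).comap q := by
      intro y hy
      have hy' : y ∈ (H ⊔ zpowers (v : G)).subgroupOf R := hVHv hy
      rw [subgroupOf_sup hHR (zpowers_le.mpr v.2)] at hy'
      refine (sup_le ?_ ?_ : _ ≤ (center (↥R ⧸ H.subgroupOf R)).comap q) hy'
      · intro a ha
        rw [mem_comap, show q a = 1 from (QuotientGroup.eq_one_iff a).mpr ha]
        exact one_mem _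
      · rintro a ha
        obtain ⟨k, hk⟩ := mem_zpowers_iff.mp (show (a : G) ∈ zpowers (v : G) from ha)
        rw [show a = v ^ k from Subtype.ext hk.symm, mem_comap, map_zpow]
        exact zpow_mem (show q v ∈ center (↥R ⧸ H.subgroupOf R) from hzc) k
    have h1 := mem_center_iff.mp (hle (show (⟨w, hVR hw⟩ : ↥R) ∈ V.subgroupOf R from hw))
      (q ⟨r, hr⟩)
    have h2 : q (⟨r, hr⟩ * ⟨w, hVR hw⟩ * ⟨r, hr⟩⁻¹ * ⟨w, hVR hw⟩⁻¹) = 1 := by
      rw [map_mul, map_mul, map_mul, map_inv, map_inv, h1]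
      group
    exact (QuotientGroup.eq_one_iff (N := H.subgroupOf R) _).mp h2
  refine ⟨H, hHV, ?_, hall⟩
  -- the quotient is cyclic of prime order
  haveI : (H.subgroupOf V).Normal :=
    normal_subgroupOf_of_le_normalizer (hVR.trans hHn)
  let v' : ↥V := ⟨v, hvV⟩
  have hgen : ∀ y : ↥V ⧸ H.subgroupOf V, y ∈ zpowers (v' : ↥V ⧸ H.subgroupOf V) := by
    intro y
    obtain ⟨y, rfl⟩ := QuotientGroup.mk_surjective y
    have hy : y ∈ (H ⊔ zpowers (v : G)).subgroupOf V := hVHv y.2
    rw [subgroupOf_sup hHV.le (zpowers_le.mpr (show (v : G) ∈ V from hvV))] at hy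
    refine (sup_le ?_ ?_ : _ ≤ (zpowers (v' : ↥V ⧸ H.subgroupOf V)).comap (QuotientGroup.mk' _)) hy
    · intro a ha
      rw [mem_comap, QuotientGroup.mk'_apply, (QuotientGroup.eq_one_iff a).mpr ha]
      exact one_mem _
    · intro a ha
      obtain ⟨k, hk⟩ := mem_zpowers_iff.mp (show (a : G) ∈ zpowers (v : G) from ha)
      rw [show a = v' ^ k from Subtype.ext hk.symm, mem_comap, map_zpow]
      exact zpow_mem (mem_zpowers _) k
  have hvp : (v : G) ^ p ∈ H := by
    by_contra h
    have h1 := htop _ (pow_mem hvV p) h fun r hr => hall r hr _ (pow_mem hvV p)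
    obtain ⟨k, hk⟩ : ∃ k : ℤ, (v : G) * ((v : G) ^ ((p : ℤ) * k))⁻¹ ∈ H := by
      have hx : (v : G) ∈ H ⊔ zpowers ((v : G) ^ p) := h1 hvV
      have hle : zpowers ((v : G) ^ p) ≤ normalizer (H : Set G) :=
        zpowers_le.mpr (pow_mem (hHn v.2) p)
      rw [← SetLike.mem_coe, Subgroup.coe_mul_of_right_le_normalizer_left _ _ hle] at hx
      obtain ⟨a, ha, b, hb, hab⟩ := hx
      obtain ⟨k, rfl⟩ := mem_zpowers_iff.mp hb
      refine ⟨k, ?_⟩
      rw [zpow_mul, zpow_natCast, mul_inv_eq_iff_eq_mul.mpr hab.symm]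
      exact ha
    obtain ⟨m, hm⟩ := hR v
    have hm' : (v : G) ^ p ^ m = 1 := congrArg Subtype.val hm
    have hcop : IsCoprime ((p : ℤ) ^ m) (1 - (p : ℤ) * k) := by
      refine IsCoprime.pow_left ?_
      exact ⟨k, 1, by ring⟩
    obtain ⟨a, b, hab⟩ := hcop
    refine hvH ?_
    have : (v : G) = ((v : G) ^ (1 - (p : ℤ) * k)) ^ b := by
      rw [← zpow_mul]
      conv_lhs => rw [← zpow_one (v : G), ← hab, zpow_add, mul_comm a, zpow_mul, ← Nat.cast_pow,
        zpow_natCast, hm', one_zpow, one_mul, mul_comm b]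
    rw [this]
    refine zpow_mem ?_ b
    rw [zpow_sub, zpow_one]
    exact hk
  have hcard : orderOf (v' : ↥V ⧸ H.subgroupOf V) = p := by
    refine orderOf_eq_prime ?_ fun h => hvH ((QuotientGroup.eq_one_iff v').mp h)
    rw [← QuotientGroup.mk_pow]
    exact (QuotientGroup.eq_one_iff _).mpr hvp
  rw [← hcard, ← Nat.card_zpowers]
  show Nat.card (↥V ⧸ H.subgroupOf V) = _
  exact (Nat.card_congr (Equiv.subtypeUnivEquiv hgen)).symm

/-- The orbit bound. -/
theorem card_bound (hE : Cfsg.IsPushingUpSituation p S) (V : Subgroup G) [V.Normal]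
    (hV : IsMulCommutative V) (hVp : IsPGroup p V) (hC : centralizer (V : Set G) ⊔ S ≠ ⊤)
    {U : Subgroup G} (hU : U ≤ S) :
    Nat.card U * Nat.card ↥(V ⊓ centralizer (U : Set G)) ≤
      Nat.card ↥(U ⊓ Cfsg.pCore p G) * Nat.card V := by
  classical
  set T := Cfsg.pCore p G with hT
  obtain ⟨g, hg⟩ := exists_gen hE
  set gens : Set G := {a | ∃ x : G, (orderOf x).Coprime p ∧ ∃ v : ↥V, (commHom V hV x v : G) = a}
  set W := closure gens with hW
  have hWV : W ≤ V := by
    rw [hW, closure_le]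
    rintro _ ⟨x, -, v, rfl⟩
    exact (commHom V hV x v).2
  haveI hWn : W.Normal := ⟨fun w hw a => by
    have hle : W ≤ W.comap (MulAut.conj a).toMonoidHom := by
      conv_lhs => rw [hW]
      rw [closure_le]
      rintro _ ⟨x, hx, v, rfl⟩
      refine subset_closure ⟨MulAut.conj a x, ?_, MulAut.conjNormal a v, ?_⟩
      · rw [(MulAut.conj a).orderOf_eq]; exact hx
      · rw [coe_commHom, MulAut.conjNormal_apply]
        show _ = MulAut.conj a (commHom V hV x v : G)
        rw [coe_commHom, MulAut.conj_apply, MulAut.conj_apply]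
        group
    exact hle hw⟩
  have hWne : W ≠ ⊥ := by
    intro hbot
    refine hC (eq_top_of_coprime_mem hE le_sup_right fun x hx => mem_sup_left ?_)
    intro v hv
    have h : (commHom V hV x ⟨v, hv⟩ : G) ∈ W := subset_closure ⟨x, hx, ⟨v, hv⟩, rfl⟩
    rw [hbot, mem_bot, coe_commHom, mul_inv_eq_one] at h
    exact (mul_inv_eq_iff_eq_mul.mp h.symm).symm
  have hWT : W ≤ T := Cores.le_pCore hWn (hVp.to_le hWV)
  have hWR : W ≤ MulAut.conj g • S := by
    intro w hw
    rw [Subgroup.mem_pointwise_smul_iff_inv_smul_mem, ← map_inv]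
    exact pCore_le hE (hWT (hWn.conj_mem w hw g⁻¹))
  have hRp : IsPGroup p ↥(MulAut.conj g • S) :=
    (isPGroup hE).of_equiv (Subgroup.equivSMul (MulAut.conj g) S)
  obtain ⟨H, hHW, hidx, hRH⟩ := exists_hyperplane hRp hWR hWne (by rw [normalizer_eq_top]; exact le_top)
  haveI hHn : (H.subgroupOf W).Normal := ⟨fun n hn a => by
    have : a * n * a⁻¹ = n := Subtype.ext (by
      show (a : G) * n * (a : G)⁻¹ = n
      rw [show (a : G) * n = n * a from congrArg Subtype.val
        (hV.is_comm.comm ⟨a, hWV a.2⟩ ⟨n, hWV n.2⟩), mul_inv_cancel_right])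
    rwa [this]⟩
  let q : ↥W →* ↥W ⧸ H.subgroupOf W := QuotientGroup.mk' _
  let F : G → (↥W →* ↥W ⧸ H.subgroupOf W) := fun a => q.comp (MulAut.conjNormal a).toMonoidHom
  let K : Subgroup G :=
    { carrier := {a | F a = q}
      one_mem' := by
        show F 1 = q
        ext w
        show q (MulAut.conjNormal 1 w) = q w
        rw [map_one]; rfl
      mul_mem' := by
        intro a b ha hb
        show F (a * b) = q
        ext w
        show q (MulAut.conjNormal (a * b) w) = q w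
        rw [map_mul, MulAut.mul_apply]
        exact (DFunLike.congr_fun ha _).trans (DFunLike.congr_fun hb w)
      inv_mem' := by
        intro a ha
        show F a⁻¹ = q
        ext w
        show q (MulAut.conjNormal a⁻¹ w) = q w
        have h := DFunLike.congr_fun ha (MulAut.conjNormal a⁻¹ w)
        change q (MulAut.conjNormal a (MulAut.conjNormal a⁻¹ w)) = q (MulAut.conjNormal a⁻¹ w) at h
        rw [← MulAut.mul_apply, ← map_mul, mul_inv_cancel, map_one] at h
        exact h.symm }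
  have hRK : MulAut.conj g • S ≤ K := by
    intro r hr
    show F r = q
    ext w
    show q (MulAut.conjNormal r w) = q w
    rw [← div_eq_one, ← map_div]
    refine (QuotientGroup.eq_one_iff _).mpr ?_
    show ((MulAut.conjNormal r w / w : ↥W) : G) ∈ H
    rw [Subgroup.coe_div, MulAut.conjNormal_apply, div_eq_mul_inv]
    exact hRH r hr w w.2
  have hKne : K ≠ ⊤ := by
    intro hK
    refine hHW.not_ge ?_
    rw [hW, closure_le]
    rintro _ ⟨x, hx, v, rfl⟩
    obtain ⟨u, hu⟩ := commHom_comp_range V hV hVp hx v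
    have hw : (commHom V hV x u : G) ∈ W := subset_closure ⟨x, hx, u, rfl⟩
    have hxK : F x = q := show x ∈ K from hK ▸ mem_top x
    have h1 : q (MulAut.conjNormal x ⟨_, hw⟩) = q ⟨_, hw⟩ := DFunLike.congr_fun hxK _
    rw [eq_comm, ← div_eq_one, ← map_div] at h1
    have h2 : (((⟨_, hw⟩ : ↥W) / MulAut.conjNormal x ⟨_, hw⟩ : ↥W) : G) ∈ H :=
      (QuotientGroup.eq_one_iff (N := H.subgroupOf W) _).mp h1
    rw [Subgroup.coe_div, MulAut.conjNormal_apply, div_eq_mul_inv] at h2
    rw [← hu, coe_commHom]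
    exact h2
  have hKU : ∀ a ∈ U, F a = q → a ∈ T := by
    intro a ha hK
    by_contra h
    refine hKne (top_le_iff.mp ?_)
    rw [← hg a (hU ha) h]
    exact sup_le (zpowers_le.mpr hK) hRK
  set C := (centralizer (U : Set G)).subgroupOf W with hCdef
  have hagree : ∀ a ∈ U, ∀ c ∈ C, F a c = q c := by
    intro a ha c hc
    show q (MulAut.conjNormal a c) = q c
    congr 1
    refine Subtype.ext ?_
    have h : a * (c : G) = c * a := hc a ha
    rw [MulAut.conjNormal_apply, h, mul_inv_cancel_right]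
  have := Fintype.ofFinite ↥U
  let f : ↥U → {ψ : ↥W →* ↥W ⧸ H.subgroupOf W // ∀ c ∈ C, ψ c = q c} :=
    fun a => ⟨F a, hagree a a.2⟩
  have : Finite (↥W →* ↥W ⧸ H.subgroupOf W) := Finite.of_injective _ DFunLike.coe_injective
  have := Fintype.ofFinite {ψ : ↥W →* ↥W ⧸ H.subgroupOf W // ∀ c ∈ C, ψ c = q c}
  have hfib : Nat.card U ≤ Nat.card ↥(U ⊓ T) *
      Nat.card {ψ : ↥W →* ↥W ⧸ H.subgroupOf W // ∀ c ∈ C, ψ c = q c} := by
    rw [Nat.card_eq_fintype_card, ← Finset.card_univ]
    refine (Finset.card_le_mul_card_image (f := f) Finset.univ (Nat.card ↥(U ⊓ T)) ?_).trans ?_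
    · intro b hb
      obtain ⟨a₀, -, rfl⟩ := Finset.mem_image.mp hb
      rw [← Fintype.card_subtype, ← Nat.card_eq_fintype_card]
      refine Nat.card_le_card_of_injective (fun a => ⟨(a.1 : G) * (a₀ : G)⁻¹, ?_⟩) ?_
      · refine Subgroup.mem_inf.mpr ⟨mul_mem a.1.2 (inv_mem a₀.2),
          hKU _ (mul_mem a.1.2 (inv_mem a₀.2)) ?_⟩
        ext w
        show q (MulAut.conjNormal ((a.1 : G) * (a₀ : G)⁻¹) w) = q w
        rw [map_mul, MulAut.mul_apply]
        have h : F (a.1 : G) = F a₀ := congrArg Subtype.val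
          ((Finset.mem_filter.mp (by simp [a.2] : a.1 ∈ Finset.univ.filter (fun z => f z = f a₀))).2)
        refine (DFunLike.congr_fun h _).trans ?_
        show q (MulAut.conjNormal (a₀ : G) (MulAut.conjNormal (a₀ : G)⁻¹ w)) = q w
        rw [← MulAut.mul_apply, ← map_mul, mul_inv_cancel, map_one]; rfl
      · intro a b h
        exact Subtype.ext (Subtype.ext (mul_right_cancel (congrArg Subtype.val h)))
    · refine Nat.mul_le_mul_left _ ?_
      rw [Nat.card_eq_fintype_card]
      exact Finset.card_le_univ _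
  have hhom := card_homs_le (p := p) (hVp.to_le hWV) (A := ↥W ⧸ H.subgroupOf W) hidx.le C q
  have hrel : C.index ≤ (V ⊓ centralizer (U : Set G)).relIndex V := by
    rw [inf_relIndex_left]
    exact relIndex_le_of_le_right hWV (by
      rw [relIndex]
      exact index_ne_zero_of_finite)
  calc Nat.card U * Nat.card ↥(V ⊓ centralizer (U : Set G))
      ≤ (Nat.card ↥(U ⊓ T) * (V ⊓ centralizer (U : Set G)).relIndex V) *
          Nat.card ↥(V ⊓ centralizer (U : Set G)) :=
        Nat.mul_le_mul_right _ (hfib.trans (Nat.mul_le_mul_left _ (hhom.trans hrel)))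
    _ = Nat.card ↥(U ⊓ T) * ((V ⊓ centralizer (U : Set G)).relIndex V *
          Nat.card ↥(V ⊓ centralizer (U : Set G))) := mul_assoc _ _ _
    _ = Nat.card ↥(U ⊓ T) * Nat.card V := by
        rw [← relIndex_bot_left (V ⊓ centralizer (U : Set G)), mul_comm ((V ⊓ _).relIndex V),
          relIndex_mul_relIndex ⊥ _ V bot_le inf_le_left, relIndex_bot_left]

end Cfsg.Agent.PushingUp
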