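import Cfsg.Agent.Lib.PushingUp.Moved

/-!
The chain: if `U` is not normal in `G`, every generating conjugate `U^g` leaves `T'`.

* `seq`: the two sequences `Y, Y Y', …`.
* `Pair.chain`: no pair of generating conjugates stays inside both cores.
* `Pair.moved`: `U^g` is not in `T'`.
-/

set_option autoImplicit false

open Subgroup Cfsg.Agent.CentrallyLarge
open scoped Pointwise

namespace Cfsg.Agent.PushingUp

open Real

variable {P : Type*} [Group P] [Finite P] {G : Type*} [Group G] [Finite G] {G' : Type*} [Group G']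
  [Finite G'] {p : ℕ} [Fact p.Prime] {τ : P →* G} {τ' : P →* G'}

/-- The two sequences. -/
def seq (p : ℕ) (τ : P →* G) (τ' : P →* G') (g : G) (g' : G') : ℕ → Subgroup P × Subgroup P
  | 0 => (Y p τ, Y p τ')
  | n + 1 => (Y p τ ⊔ cj τ' g' (seq p τ τ' g g' n).2, Y p τ' ⊔ cj τ g (seq p τ τ' g g' n).1)

omit [Finite P] [Finite G] [Finite G'] [Fact p.Prime] in
theorem seq_swap (g : G) (g' : G') :
    ∀ n, seq p τ' τ g' g n = ((seq p τ τ' g g' n).2, (seq p τ τ' g g' n).1)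
  | 0 => rfl
  | n + 1 => by rw [seq, seq, seq_swap g g' n]

omit [Finite P] [Finite G] [Finite G'] [Fact p.Prime] in
theorem seq_le (g : G) (g' : G') : ∀ n, Y p τ ≤ (seq p τ τ' g g' n).1
  | 0 => le_rfl
  | _ + 1 => le_sup_left

omit [Finite P] [Finite G] [Finite G'] [Fact p.Prime] in
theorem seq_le' (g : G) (g' : G') : ∀ n, Y p τ' ≤ (seq p τ τ' g g' n).2
  | 0 => le_rfl
  | _ + 1 => le_sup_left

omit [Finite P] [Finite G] [Finite G'] [Fact p.Prime] in
theorem seq_mono (g : G) (g' : G') : ∀ n, (seq p τ τ' g g' n).1 ≤ (seq p τ τ' g g' (n + 1)).1 ∧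
    (seq p τ τ' g g' n).2 ≤ (seq p τ τ' g g' (n + 1)).2
  | 0 => ⟨le_sup_left, le_sup_left⟩
  | n + 1 => ⟨sup_le_sup_left (cj_mono (seq_mono g g' n).2) _,
      sup_le_sup_left (cj_mono (seq_mono g g' n).1) _⟩

/-- The sequences stay in the cores up to `n`. -/
def Inside (p : ℕ) (τ : P →* G) (τ' : P →* G') (g : G) (g' : G') (n : ℕ) : Prop :=
  ∀ j ≤ n, (seq p τ τ' g g' j).1 ≤ T p τ ∧ (seq p τ τ' g g' j).2 ≤ T p τ'

namespace Pair

variable {g : G} {g' : G'}

theorem seq_one (h : Pair p τ τ') (g : G) (g' : G') :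
    seq p τ τ' g g' 1 = (Y p τ ⊔ Y p τ', Y p τ' ⊔ Y p τ) := by
  rw [seq, seq, h.left.cj_Y, h.right.cj_Y]

theorem inside_swap {n : ℕ} (hI : Inside p τ τ' g g' n) : Inside p τ' τ g' g n := fun j hj => by
  rw [seq_swap]
  exact (hI j hj).symm

theorem seq_large (h : Pair p τ τ') {n : ℕ} (hI : Inside p τ τ' g g' n) :
    ∀ j ≤ n, Cfsg.IsCentralizerLarge (seq p τ τ' g g' j).1 ∧
      Cfsg.IsCentralizerLarge (seq p τ τ' g g' j).2 := by
  intro j
  induction j with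
  | zero => exact fun _ => ⟨h.left.large_Y, h.right.large_Y⟩
  | succ j ih =>
    intro hj
    obtain ⟨h1, h2⟩ := ih (by omega)
    obtain ⟨i1, i2⟩ := hI j (by omega)
    exact ⟨centralizerLarge_sup h.left.large_Y (Real.large_cj h.right.inj h.right.core_le
        h.right.centralizer_Y (seq_le' g g' j) i2 (h.right.cj_Y g') h2).1,
      centralizerLarge_sup h.right.large_Y (Real.large_cj h.left.inj h.left.core_le
        h.left.centralizer_Y (seq_le g g' j) i1 (h.left.cj_Y g) h1).1⟩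

/-- One step of the commutator induction. -/
theorem seq_step (h : Pair p τ τ') {n j : ℕ} (hI : Inside p τ τ' g g' n) (hj : j + 2 ≤ n)
    (hK : ∀ c ∈ centralizer ((seq p τ τ' g g' j).2 : Set P), ∀ a ∈ (seq p τ τ' g g' (j + 1)).2,
      c * a * c⁻¹ * a⁻¹ ∈ cj τ g (seq p τ τ' g g' j).1) :
    ∀ c ∈ centralizer ((seq p τ τ' g g' (j + 1)).1 : Set P), ∀ a ∈ (seq p τ τ' g g' (j + 2)).1,
      c * a * c⁻¹ * a⁻¹ ∈ cj τ' g' (cj τ g (seq p τ τ' g g' j).1) := by
  intro c hc a ha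
  have hr := h.right
  obtain ⟨hl1, hl2⟩ := h.seq_large hI j (by omega)
  obtain ⟨hl1', hl2'⟩ := h.seq_large hI (j + 1) (by omega)
  obtain ⟨i1, i2⟩ := hI j (by omega)
  obtain ⟨i1', i2'⟩ := hI (j + 1) (by omega)
  obtain ⟨i1'', -⟩ := hI (j + 2) hj
  have hcT : c ∈ T p τ := by
    rw [← h.left.centralizer_Y]
    exact centralizer_le (SetLike.coe_subset_coe.mpr (seq_le g g' (j + 1))) hc
  obtain ⟨hBl, -⟩ := Real.large_cj (g := g') hr.inj hr.core_le hr.centralizer_Y (seq_le' g g' (j + 1))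
    i2' (hr.cj_Y g') hl2'
  rw [show (seq p τ τ' g g' (j + 2)).1 = Y p τ ⊔ cj τ' g' (seq p τ τ' g g' (j + 1)).2 from rfl,
    ← SetLike.mem_coe, coe_sup_eq_mul h.left.large_Y hBl] at ha
  obtain ⟨y, hy, m, hm, rfl⟩ := ha
  have hmT : m ∈ T p τ := i1'' (mem_sup_right hm)
  have e : c * (y * m) * c⁻¹ * (y * m)⁻¹ = c * m * c⁻¹ * m⁻¹ := by
    have h1 : c * y = y * c := hy c hcT
    have h2 : c * m * c⁻¹ * m⁻¹ * y = y * (c * m * c⁻¹ * m⁻¹) :=
      hy _ ((T p τ).mul_mem ((T p τ).mul_mem ((T p τ).mul_mem hcT hmT) ((T p τ).inv_mem hcT)) ((T p τ).inv_mem hmT))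
    calc c * (y * m) * c⁻¹ * (y * m)⁻¹ = (c * y) * m * c⁻¹ * m⁻¹ * y⁻¹ := by group
      _ = y * (c * m * c⁻¹ * m⁻¹) * y⁻¹ := by rw [h1]; group
      _ = _ := by rw [← h2, mul_inv_cancel_right]
  rw [e]
  have hc' : c ∈ cj τ' g' (centralizer ((seq p τ τ' g g' j).2 : Set P)) := by
    rw [← (Real.large_cj (g := g') hr.inj hr.core_le hr.centralizer_Y (seq_le' g g' j) i2 (hr.cj_Y g') hl2).2]
    refine centralizer_le (SetLike.coe_subset_coe.mpr ?_) hc
    exact le_sup_right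
  obtain ⟨c₁, hc₁, hcc⟩ := mem_cj.mp hc'
  obtain ⟨m₁, hm₁, hmm⟩ := mem_cj.mp hm
  refine mem_cj.mpr ⟨c₁ * m₁ * c₁⁻¹ * m₁⁻¹, hK c₁ hc₁ m₁ hm₁, ?_⟩
  simp only [map_mul, map_inv, ← hcc, ← hmm]
  group

theorem seq_comm (h : Pair p τ τ') {n : ℕ} (hI : Inside p τ τ' g g' n) : ∀ j, j + 1 ≤ n →
    (∀ c ∈ centralizer ((seq p τ τ' g g' j).1 : Set P), ∀ a ∈ (seq p τ τ' g g' (j + 1)).1,
      c * a * c⁻¹ * a⁻¹ ∈ cj τ' g' (seq p τ τ' g g' j).2) ∧
    (∀ c ∈ centralizer ((seq p τ τ' g g' j).2 : Set P), ∀ a ∈ (seq p τ τ' g g' (j + 1)).2,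
      c * a * c⁻¹ * a⁻¹ ∈ cj τ g (seq p τ τ' g g' j).1) := by
  intro j
  induction j with
  | zero =>
    intro _
    have e : seq p τ τ' g g' 0 = (Y p τ, Y p τ') := rfl
    rw [h.seq_one, e]
    constructor
    · intro c _ a ha
      show _ ∈ cj τ' g' (Y p τ')
      rw [h.right.cj_Y]
      exact Side.center_le_Y (h.U_quad ha c)
    · intro c _ a ha
      show _ ∈ cj τ g (Y p τ)
      rw [h.left.cj_Y]
      exact Side.center_le_Y (h.symm.U_quad ha c)
  | succ j ih =>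
    intro hj
    obtain ⟨k1, k2⟩ := ih (by omega)
    refine ⟨fun c hc a ha => cj_mono ?_ (h.seq_step hI hj k2 c hc a ha), ?_⟩
    · exact le_sup_right
    · have h2 := h.symm.seq_step (inside_swap hI) hj (by simp only [seq_swap (τ := τ) (τ' := τ') g g']; exact k1)
      simp only [seq_swap (τ := τ) (τ' := τ') g g'] at h2
      exact fun c hc a ha => cj_mono le_sup_right (h2 c hc a ha)

theorem exists_noncentral (h : Pair p τ τ') : ∃ w ∈ Y p τ', w ∉ center P := by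
  by_contra hc
  simp only [not_exists, not_and, not_not] at hc
  refine h.right.T_ne_top ?_
  rw [← h.right.centralizer_Y]
  exact top_le_iff.mp fun x _ y hy => (mem_center_iff.mp (hc y hy) x).symm

/-- The step of the chain. -/
theorem step (h : Pair p τ τ') (hn : ¬ ((Y p τ ⊔ Y p τ').map τ).Normal) (hg' : Gen p τ'.range g')
    {k : ℕ} (hI : Inside p τ τ' g g' (k + 2))
    (hF : ∀ j < k + 2, ¬ Y p τ' ≤ cj τ g (seq p τ τ' g g' j).1) :
    ¬ Y p τ' ≤ cj τ g (seq p τ τ' g g' (k + 2)).1 ∧ cj τ g (seq p τ τ' g g' (k + 2)).1 ≤ T p τ' := by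
  have hl := h.left
  have hr := h.right
  obtain ⟨hA1, -⟩ := h.seq_large hI (k + 1) (by omega)
  obtain ⟨hA0, -⟩ := h.seq_large hI k (by omega)
  obtain ⟨i1, -⟩ := hI (k + 1) (by omega)
  obtain ⟨i0, -⟩ := hI k (by omega)
  obtain ⟨i2, i2'⟩ := hI (k + 2) le_rfl
  obtain ⟨hBl, hCB⟩ := Real.large_cj (g := g) hl.inj hl.core_le hl.centralizer_Y (seq_le g g' (k + 1)) i1
    (hl.cj_Y g) hA1
  obtain ⟨hB₀l, -⟩ := Real.large_cj (g := g) hl.inj hl.core_le hl.centralizer_Y (seq_le g g' k) i0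
    (hl.cj_Y g) hA0
  have key : ∀ c ∈ centralizer (cj τ g (seq p τ τ' g g' (k + 1)).1 : Set P),
      ∀ a ∈ cj τ g (seq p τ τ' g g' (k + 2)).1, c * a * c⁻¹ * a⁻¹ ∈ center P →
      c * a * c⁻¹ * a⁻¹ ∈ Zg τ → c * a * c⁻¹ * a⁻¹ ∈ Zg τ' := by
    intro c hc a ha hZ hg1
    set r := c * a * c⁻¹ * a⁻¹ with hr'
    rw [hCB] at hc
    obtain ⟨c₀, hc₀, hcc⟩ := mem_cj.mp hc
    obtain ⟨a₀, ha₀, haa⟩ := mem_cj.mp ha
    have e1 : g * τ (c₀ * a₀ * c₀⁻¹ * a₀⁻¹) * g⁻¹ = τ r := by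
      simp only [hr', map_mul, map_inv, ← hcc, ← haa]
      group
    have e2 : c₀ * a₀ * c₀⁻¹ * a₀⁻¹ = r := by
      apply hl.inj
      have := mem_Zg.mp hg1 g
      calc τ (c₀ * a₀ * c₀⁻¹ * a₀⁻¹) = g⁻¹ * (g * τ (c₀ * a₀ * c₀⁻¹ * a₀⁻¹) * g⁻¹) * g := by group
        _ = g⁻¹ * (τ r * g) := by rw [e1]; group
        _ = τ r := by rw [← this]; group
    have e3 := h.seq_step hI le_rfl (h.seq_comm hI k (by omega)).2 c₀ hc₀ a₀ ha₀
    rw [e2] at e3
    obtain ⟨s, hs, hsr⟩ := mem_cj.mp e3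
    obtain ⟨x, hx, hxT⟩ : ∃ x ∈ centralizer (cj τ g (seq p τ τ' g g' k).1 : Set P), x ∉ T p τ' :=
      SetLike.not_le_iff_exists.mp fun hle => hF k (by omega) (by
        rw [← centralizer_centralizer_eq hB₀l, Subgroup.le_centralizer_iff, hr.centralizer_Y]
        exact hle)
    refine hr.mem_Zg_of_fix hg' hxT hZ ?_
    rw [← hsr, show g'⁻¹ * (g' * τ' s * g'⁻¹) * g' = τ' s by group, ← map_mul, ← map_mul, hx s hs]
  obtain ⟨w, hw, hwZ⟩ := h.exists_noncentral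
  have hwU : w ∈ Y p τ ⊔ Y p τ' := mem_sup_right hw
  have hB2 : cj τ g (seq p τ τ' g g' (k + 2)).1 ≤ T p τ := cj_le hl.inj i2 g
  constructor
  · intro hle
    obtain ⟨m, hm, hmT⟩ : ∃ m ∈ centralizer (cj τ g (seq p τ τ' g g' (k + 1)).1 : Set P), m ∉ T p τ' :=
      SetLike.not_le_iff_exists.mp fun hle' => hF (k + 1) (by omega) (by
        rw [← centralizer_centralizer_eq hBl, Subgroup.le_centralizer_iff, hr.centralizer_Y]
        exact hle')
    have hmT' : m ∈ T p τ := by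
      rw [← hl.centralizer_Y]
      exact centralizer_le (SetLike.coe_subset_coe.mpr ((hl.cj_Y g).ge.trans (cj_mono (seq_le g g' _)))) hm
    have hv := inv_mem (h.value hn hwU hmT')
    rw [show (w * m * w⁻¹ * m⁻¹)⁻¹ = m * w * m⁻¹ * w⁻¹ by group] at hv
    exact hwZ (hr.mem_center_of_mod hmT hw (key m hm w (hle hw) (h.U_quad hwU m) hv))
  · intro m hm
    by_contra hmT
    have hwc : w ∈ centralizer (cj τ g (seq p τ τ' g g' (k + 1)).1 : Set P) := fun a ha =>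
      hw a (i2' (mem_sup_right ha))
    have h1 := inv_mem (key w hwc m hm (h.U_quad' hwU m) (h.value hn hwU (hB2 hm)))
    rw [show (w * m * w⁻¹ * m⁻¹)⁻¹ = m * w * m⁻¹ * w⁻¹ by group] at h1
    exact hwZ (hr.mem_center_of_mod hmT hw h1)

theorem not_Y_le (h : Pair p τ τ') (hg : Gen p τ.range g) (hn : ¬ ((Y p τ ⊔ Y p τ').map τ).Normal) :
    ∀ j < 2, ¬ Y p τ' ≤ cj τ g (seq p τ τ' g g' j).1 := by
  intro j hj hle
  obtain rfl | rfl : j = 0 ∨ j = 1 := by omega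
  · rw [show seq p τ τ' g g' 0 = (Y p τ, Y p τ') from rfl, h.left.cj_Y] at hle
    obtain ⟨w, hw, hwZ⟩ := h.exists_noncentral
    exact hwZ (h.Y_inf.le ⟨hle hw, hw⟩)
  · rw [h.seq_one] at hle
    refine hn (h.normal_of_cj hg (eq_of_card _ _ (sup_le ((h.left.cj_Y g).ge.trans (cj_mono le_sup_left)) hle)
      ?_).symm)
    rw [card_cj h.left.inj h.left.core_le h.U_le_T]

theorem chain (h : Pair p τ τ') (hn : ¬ ((Y p τ ⊔ Y p τ').map τ).Normal)
    (hg : Gen p τ.range g) (hg' : Gen p τ'.range g')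
    (hW : cj τ g (Y p τ ⊔ Y p τ') ≤ T p τ') (hW' : cj τ' g' (Y p τ ⊔ Y p τ') ≤ T p τ) : False := by
  have hl := h.left
  have hr := h.right
  set N : Prop := ((Y p τ' ⊔ Y p τ).map τ').Normal
  have hX : N → cj τ' g' (T p τ ⊓ T p τ') = T p τ ⊓ T p τ' := by
    intro hN
    obtain ⟨-, hC, -, -⟩ := h.symm.cj_U g'
    have e : cj τ' g' (Y p τ' ⊔ Y p τ) = Y p τ' ⊔ Y p τ := by
      apply Subgroup.map_injective hr.inj
      rw [map_cj hr.core_le h.symm.U_le_T]
      refine Subgroup.eq_of_le_of_card_ge ?_ (card_map_of_injective (MulAut.conj g').injective).ge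
      rintro _ ⟨a, ha, rfl⟩
      exact hN.conj_mem a ha g'
    rw [e, h.symm.centralizer_U, inf_comm] at hC
    exact hC.symm
  have inv : ∀ n, Inside p τ τ' g g' (n + 2) ∧
      (∀ j < n + 2, ¬ Y p τ' ≤ cj τ g (seq p τ τ' g g' j).1) ∧
      (¬ N → ∀ j < n + 2, ¬ Y p τ ≤ cj τ' g' (seq p τ' τ g' g j).1) := by
    intro n
    induction n with
    | zero =>
      refine ⟨fun j hj => ?_, h.not_Y_le hg hn, fun hN => h.symm.not_Y_le hg' hN⟩
      obtain rfl | rfl | rfl : j = 0 ∨ j = 1 ∨ j = 2 := by omega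
      · exact ⟨hl.centralizer_T_le, hr.centralizer_T_le⟩
      · rw [h.seq_one]
        exact ⟨h.U_le_T, h.symm.U_le_T⟩
      · rw [seq, h.seq_one]
        refine ⟨sup_le hl.centralizer_T_le ?_, sup_le hr.centralizer_T_le hW⟩
        show cj τ' g' (Y p τ' ⊔ Y p τ) ≤ T p τ
        rw [sup_comm]
        exact hW'
    | succ n ih =>
      obtain ⟨hI, hF, hF'⟩ := ih
      obtain ⟨hF1, hI1⟩ := h.step hn hg' hI hF
      have hI2 : cj τ' g' (seq p τ τ' g g' (n + 2)).2 ≤ T p τ := by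
        by_cases hN : N
        · refine (cj_mono ?_).trans ((hX hN).le.trans inf_le_left)
          refine le_inf (sup_le h.nc ?_) (hI (n + 2) le_rfl).2
          exact cj_le hl.inj (hI (n + 1) (by omega)).1 g
        · have h1 := (h.symm.step hN hg (inside_swap hI) (hF' hN)).2
          rw [seq_swap] at h1
          exact h1
      refine ⟨fun j hj => ?_, fun j hj => ?_, fun hN j hj => ?_⟩
      · obtain hj | rfl : j ≤ n + 2 ∨ j = n + 1 + 2 := by omega
        · exact hI j hj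
        · exact ⟨sup_le hl.centralizer_T_le hI2, sup_le hr.centralizer_T_le hI1⟩
      · obtain hj | rfl : j < n + 2 ∨ j = n + 2 := by omega
        · exact hF j hj
        · exact hF1
      · obtain hj | rfl : j < n + 2 ∨ j = n + 2 := by omega
        · exact hF' hN j hj
        · exact (h.symm.step hN hg (inside_swap hI) (hF' hN)).1
  have grow : ∀ i, i ≤ Nat.card ↥(seq p τ τ' g g' (2 * i + 1)).2 := by
    intro i
    induction i with
    | zero => exact Nat.zero_le _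
    | succ i ih =>
      obtain ⟨hI, hF, -⟩ := inv (2 * i + 1)
      have i1 := (hI (2 * i + 2) (by omega)).1
      have i0 := (hI (2 * i + 1) (by omega)).2
      have h1 : Nat.card ↥(seq p τ τ' g g' (2 * i + 1)).2 ≤ Nat.card ↥(seq p τ τ' g g' (2 * i + 2)).1 := by
        rw [← card_cj hr.inj hr.core_le i0 g']
        exact card_le_of_le le_sup_right
      have h2 : Nat.card ↥(seq p τ τ' g g' (2 * i + 2)).1 < Nat.card ↥(seq p τ τ' g g' (2 * (i + 1) + 1)).2 := by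
        rw [← card_cj hl.inj hl.core_le i1 g]
        refine lt_of_le_of_ne (card_le_of_le le_sup_right) fun he => hF (2 * i + 2) (by omega) ?_
        exact le_sup_left.trans (eq_of_card _ _ le_sup_right he.ge).ge
      omega
  have := (grow (Nat.card P + 1)).trans (Subgroup.card_le_card_group _)
  omega

/-- Every generating conjugate of `U` leaves `T'`. -/
theorem moved (h : Pair p τ τ') (hn : ¬ ((Y p τ ⊔ Y p τ').map τ).Normal) (hg : Gen p τ.range g) :
    ¬ cj τ g (Y p τ ⊔ Y p τ') ≤ T p τ' := by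
  intro hW
  obtain ⟨g', hg'⟩ := PushingUp.exists_Gen h.right.sit
  by_cases hW' : cj τ' g' (Y p τ ⊔ Y p τ') ≤ T p τ
  · exact h.chain hn hg hg' hW hW'
  · exact hn (h.fixed_coset hg hW hW')

end Pair

end Cfsg.Agent.PushingUp
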