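import Cfsg.Agent.Lib.PushingUp.Mutual

/-!
`U` normal in neither group, `p ≥ 5`.

* `Layer.torus_fix`: for the `(2, (p+1)/2)` element `d`, `t⁻⁴ d t d⁻¹` fixes every layer.
* `Pair.layerTwo`: the layer `U U^g / Y`.
* `Pair.mutual_five`: impossible.
-/

set_option autoImplicit false

open Subgroup Cfsg.Agent.CentrallyLarge
open scoped Pointwise

namespace Cfsg.Agent.PushingUp

open Real

section Abstract

variable {H : Type*} [Group H]

theorem torus_line {D T γ : H} {p k : ℕ} (hk : p + 1 = 2 * k) (hT : Commute T γ)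
    (hD : D * γ * D⁻¹ = γ ^ 2) (hp : γ ^ p = 1) : Commute ((T ^ 4)⁻¹ * (D * T * D⁻¹)) γ := by
  have e : γ = D * γ ^ k * D⁻¹ := by
    rw [← conj_pow, hD, ← pow_mul, ← hk, pow_succ, hp, one_mul]
  refine ((hT.pow_left 4).inv_left).mul_left ?_
  rw [e]
  exact (hT.pow_right k).map (MulAut.conj D).toMonoidHom

theorem conj_pow_of_moved {T α β : H} (hTα : Commute T α) (hTβ : T * β * T⁻¹ = α * β) (n : ℕ) :
    T ^ n * β * (T ^ n)⁻¹ = α ^ n * β := by
  induction n with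
  | zero => simp
  | succ n ih =>
    calc T ^ (n + 1) * β * (T ^ (n + 1))⁻¹ = T * (T ^ n * β * (T ^ n)⁻¹) * T⁻¹ := by rw [pow_succ']; group
      _ = (T * α ^ n) * β * T⁻¹ := by rw [ih]; group
      _ = α ^ n * (T * β * T⁻¹) := by rw [(hTα.pow_right n).eq]; group
      _ = _ := by rw [hTβ, pow_succ, mul_assoc]

theorem torus_moved {D T α β : H} {p k : ℕ} (hk : p + 1 = 2 * k) (hTα : Commute T α)
    (hTβ : T * β * T⁻¹ = α * β) (hDα : D * α * D⁻¹ = α ^ 2) (hDβ : D * β * D⁻¹ = β ^ k)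
    (hαβ : Commute α β) (hp : β ^ p = 1) : Commute ((T ^ 4)⁻¹ * (D * T * D⁻¹)) β := by
  have e : D * β ^ 2 * D⁻¹ = β := by
    rw [← conj_pow, hDβ, ← pow_mul, mul_comm, ← hk, pow_succ, hp, one_mul]
  have h1 : D * T * D⁻¹ * β * (D * T * D⁻¹)⁻¹ = α ^ 4 * β := by
    conv_lhs => enter [1, 2]; rw [← e]
    calc D * T * D⁻¹ * (D * β ^ 2 * D⁻¹) * (D * T * D⁻¹)⁻¹ = D * (T * β ^ 2 * T⁻¹) * D⁻¹ := by group
      _ = D * (α * β) ^ 2 * D⁻¹ := by rw [← conj_pow, hTβ]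
      _ = ((D * α * D⁻¹) * (D * β * D⁻¹)) ^ 2 := by rw [← conj_pow]; congr 1; group
      _ = (α ^ 2 * β ^ k) ^ 2 := by rw [hDα, hDβ]
      _ = _ := by
        rw [(hαβ.pow_pow 2 k).mul_pow, ← pow_mul, ← pow_mul, show k * 2 = p + 1 by omega, pow_succ β p,
          hp, one_mul]
  show (T ^ 4)⁻¹ * (D * T * D⁻¹) * β = β * ((T ^ 4)⁻¹ * (D * T * D⁻¹))
  calc (T ^ 4)⁻¹ * (D * T * D⁻¹) * β
      = (T ^ 4)⁻¹ * (D * T * D⁻¹ * β * (D * T * D⁻¹)⁻¹) * (D * T * D⁻¹) := by group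
    _ = (T ^ 4)⁻¹ * (T ^ 4 * β * (T ^ 4)⁻¹) * (D * T * D⁻¹) := by rw [h1, conj_pow_of_moved hTα hTβ]
    _ = _ := by group

/-- The commutator of powers. -/
theorem commutator_pow_pow {T L c : H} (hT : Commute T c) (hL : Commute L c)
    (h : T * L * T⁻¹ = c * L) (n k : ℕ) : T ^ n * L ^ k * (T ^ n)⁻¹ * (L ^ k)⁻¹ = c ^ (n * k) := by
  rw [← conj_pow, conj_pow_of_moved hT h, ((hL.pow_right n).symm).mul_pow, ← pow_mul, mul_inv_cancel_right]

/-- An element is in a subgroup if a power prime to `p` and the `p`-th power are. -/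
theorem mem_of_pow {N : Subgroup H} {x : H} {p n : ℕ} (hn : n.Coprime p) (h1 : x ^ n ∈ N)
    (h2 : x ^ p ∈ N) : x ∈ N := by
  obtain ⟨u, v, huv⟩ := Nat.isCoprime_iff_coprime.mpr hn
  have e : x = (x ^ n) ^ u * (x ^ p) ^ v := by
    rw [← zpow_natCast x n, ← zpow_mul, ← zpow_natCast x p, ← zpow_mul, ← zpow_add, mul_comm _ u,
      mul_comm _ v, huv, zpow_one]
  rw [e]
  exact mul_mem (zpow_mem h1 u) (zpow_mem h2 v)

end Abstract

variable {P : Type*} [Group P] [Finite P] {G : Type*} [Group G] [Finite G] {G' : Type*} [Group G']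
  [Finite G'] {p : ℕ} [Fact p.Prime] {τ : P →* G} {τ' : P →* G'}

/-- A `p`-element of a normal subgroup meeting `S` in the core is in the core. -/
theorem mem_pCore_of_pow {S : Subgroup G} (hE : Cfsg.IsPushingUpSituation p S) (N : Subgroup G)
    [hN : N.Normal] (hle : N ⊓ S ≤ Cfsg.pCore p G) {x : G} (hx : x ∈ N) {a : ℕ}
    (hpow : x ^ p ^ a = 1) : x ∈ Cfsg.pCore p G := by
  obtain ⟨Q₀, hQ₀⟩ := hE.2.1
  have hz : IsPGroup p ↥(zpowers x) := by
    rintro ⟨y, i, rfl⟩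
    refine ⟨a, Subtype.ext ?_⟩
    show (x ^ i) ^ p ^ a = 1
    rw [← zpow_natCast, ← zpow_mul, mul_comm, zpow_mul, zpow_natCast, hpow, one_zpow]
  obtain ⟨Q, hQ⟩ := hz.exists_le_sylow
  obtain ⟨g₀, hg₀⟩ := MulAction.exists_smul_eq G Q₀ Q
  subst hg₀
  have h1 : x ∈ MulAut.conj g₀ • (Q₀ : Subgroup G) := hQ (mem_zpowers x)
  rw [Subgroup.mem_pointwise_smul_iff_inv_smul_mem, ← map_inv] at h1
  have h2 : g₀⁻¹ * x * g₀⁻¹⁻¹ ∈ Cfsg.pCore p G := hle ⟨hN.conj_mem x hx g₀⁻¹, by rw [← hQ₀]; exact h1⟩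
  simpa [mul_assoc] using Real.conj_mem_core g₀ h2

theorem Layer.torus_fix {Q R A : Subgroup P} (L : Layer p τ Q R A) [(R.map τ).Normal] (h : Side p τ)
    {g : G} (hg : Gen p τ.range g) {d : G} {k : ℕ} (hk : p + 1 = 2 * k)
    (hA : ∀ a ∈ A, ∃ r ∈ R, d * τ a * d⁻¹ = τ (a ^ (2 : ℤ) * r))
    (hB : ∀ b ∈ cj τ g A, ∃ r ∈ R, d * τ b * d⁻¹ = τ (b ^ (k : ℤ) * r)) (t : P) {x : P} (hx : x ∈ Q) :
    Commute (QuotientGroup.mk' (R.map τ) ((τ (t ^ 4))⁻¹ * (d * τ t * d⁻¹)))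
      (QuotientGroup.mk' (R.map τ) (τ x)) := by
  let f := QuotientGroup.mk' (R.map τ)
  have hp : ∀ z ∈ Q, f (τ z) ^ p = 1 := fun z hz => by
    rw [← map_pow, ← map_pow]
    exact mk_eq_one (L.pow z hz)
  have hline : ∀ a ∈ A, f d * f (τ a) * (f d)⁻¹ = f (τ a) ^ 2 := by
    intro a ha
    obtain ⟨r, hr, he⟩ := hA a ha
    rw [← map_inv, ← map_mul, ← map_mul, he, map_mul τ, map_mul f, mk_eq_one (R := R) hr, mul_one,
      zpow_ofNat, map_pow, map_pow]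
  rw [show (τ (t ^ 4))⁻¹ * (d * τ t * d⁻¹) = (τ t ^ 4)⁻¹ * (d * τ t * d⁻¹) by rw [map_pow]]
  simp only [map_mul, map_inv, map_pow]
  obtain ⟨a, ha, b, hb, rfl⟩ := L.cover g hg x hx
  rw [map_mul τ, map_mul]
  refine Commute.mul_right (torus_line hk (L.mk_conj t ha) (hline a ha) (hp a (L.AQ ha))) ?_
  have hbQ := L.mem_Q_of_cj h hb
  have hα := L.quad t b hbQ
  refine torus_moved (α := f (τ (t * b * t⁻¹ * b⁻¹))) hk (L.mk_conj t hα) ?_ (hline _ hα) ?_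
    (L.mk_conj b hα).symm (hp b hbQ)
  · simp only [f, map_mul, map_inv]
    group
  · obtain ⟨r, hr, he⟩ := hB b hb
    rw [← map_inv, ← map_mul, ← map_mul, he, map_mul τ, map_mul f, mk_eq_one (R := R) hr, mul_one,
      zpow_natCast, map_pow, map_pow]

namespace Pair

variable {g : G} {g' : G'}

/-- The layer `U U^g / Y`. -/
theorem layerTwo (h : Pair p τ τ') (hn : ¬ ((Y p τ ⊔ Y p τ').map τ).Normal) (hg : Gen p τ.range g)
    (hW' : ¬ cj τ' g' (Y p τ' ⊔ Y p τ) ≤ T p τ) :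
    Layer p τ ((Y p τ ⊔ Y p τ') ⊔ cj τ g (Y p τ ⊔ Y p τ')) (Y p τ) (Y p τ ⊔ Y p τ') := by
  have hl := h.left
  set U := Y p τ ⊔ Y p τ' with hU
  set W := cj τ g U with hWdef
  have hW := h.moved hn hg
  obtain ⟨-, -, hYW, hWT⟩ := h.cj_U g
  haveI hYn := hl.core.2.1
  haveI hUn : U.Normal := h.U_normal
  have hΩn := h.Omega_normal hn hg hW'
  have hΩT : U ⊔ W ≤ T p τ := sup_le h.U_le_T hWT
  let f := QuotientGroup.mk' ((Y p τ).map τ)
  have hcore : ∀ t ∈ T p τ, ∀ x ∈ U ⊔ W, t * x * t⁻¹ * x⁻¹ ∈ Y p τ := by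
    intro t ht
    have hle : U ⊔ W ≤ (centralizer ({f (τ t)} : Set (G ⧸ (Y p τ).map τ))).comap (f.comp τ) := by
      have key : ∀ x, t * x * t⁻¹ * x⁻¹ ∈ Y p τ →
          x ∈ (centralizer ({f (τ t)} : Set (G ⧸ (Y p τ).map τ))).comap (f.comp τ) := by
        intro x hx
        have h1 : f (τ (t * x * t⁻¹ * x⁻¹)) = 1 := mk_eq_one hx
        simp only [map_mul, map_inv] at h1
        rw [mul_inv_eq_one, mul_inv_eq_iff_eq_mul] at h1
        exact mem_centralizer_singleton_iff.mpr h1.symm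
      exact sup_le (fun x hx => key x (Side.center_le_Y (h.U_quad hx t)))
        (fun x hx => key x (Side.center_le_Y (hl.Zg_le_center (h.W_quad hn hx ht))))
    intro x hx
    have h1 : f (τ x) * f (τ t) = f (τ t) * f (τ x) := mem_centralizer_singleton_iff.mp (hle hx)
    refine mem_of_mk_eq_one (R := Y p τ) hl.inj ?_
    show f (τ (t * x * t⁻¹ * x⁻¹)) = 1
    simp only [map_mul, map_inv]
    rw [← h1, mul_inv_cancel_right, mul_inv_cancel]
  refine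
    { RA := le_sup_left, AQ := le_sup_left, QT := hΩT, Qn := hΩn, Rn := hYn,
      triv := fun v a ha => Side.center_le_Y (h.U_quad ha v), quad := ?_, core := hcore, pow := ?_,
      inf := ?_, cover := ?_ }
  · intro v x hx
    let q := QuotientGroup.mk' U
    have hle : U ⊔ W ≤ (centralizer ({q v} : Set (P ⧸ U))).comap q := by
      have key : ∀ x, v * x * v⁻¹ * x⁻¹ ∈ U → x ∈ (centralizer ({q v} : Set (P ⧸ U))).comap q := by
        intro x hx
        have h1 : q (v * x * v⁻¹ * x⁻¹) = 1 := (QuotientGroup.eq_one_iff (N := U) _).mpr hx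
        simp only [map_mul, map_inv] at h1
        rw [mul_inv_eq_one, mul_inv_eq_iff_eq_mul] at h1
        exact mem_centralizer_singleton_iff.mpr h1.symm
      exact sup_le (fun x hx => key x (mem_sup_left (Side.center_le_Y (h.U_quad hx v))))
        (fun x hx => key x (h.moved_quad hn hW hW' v hx))
    refine (QuotientGroup.eq_one_iff (N := U) _).mp ?_
    show q (v * x * v⁻¹ * x⁻¹) = 1
    simp only [map_mul, map_inv]
    rw [← mem_centralizer_singleton_iff.mp (hle hx), mul_inv_cancel_right, mul_inv_cancel]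
  · have hcomm : ∀ x y, x ∈ U ⊔ W → y ∈ U ⊔ W → Commute (f (τ x)) (f (τ y)) := by
      intro x y hx hy
      have h1 : f (τ (x * y * x⁻¹ * y⁻¹)) = 1 := mk_eq_one (hcore x (hΩT hx) y hy)
      simp only [map_mul, map_inv] at h1
      rw [mul_inv_eq_one, mul_inv_eq_iff_eq_mul] at h1
      exact h1
    let E : Subgroup P :=
      { carrier := {x | x ∈ U ⊔ W ∧ f (τ x) ^ p = 1}
        one_mem' := ⟨one_mem _, by rw [map_one, map_one, one_pow]⟩
        mul_mem' := fun {a b} ha hb => ⟨mul_mem ha.1 hb.1, by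
          rw [map_mul, map_mul, (hcomm a b ha.1 hb.1).mul_pow, ha.2, hb.2, one_mul]⟩
        inv_mem' := fun {a} ha => ⟨inv_mem ha.1, by rw [map_inv, map_inv, inv_pow, ha.2, inv_one]⟩ }
    intro x hx
    have hxE : x ∈ E := (sup_le (fun y hy => ⟨mem_sup_left hy, by
        rw [← map_pow, ← map_pow, h.U_pow hy, map_one, map_one]⟩)
      (fun y hy => ⟨mem_sup_right hy, by
        rw [← map_pow, ← map_pow, h.W_pow hy, map_one, map_one]⟩) : U ⊔ W ≤ E) hx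
    refine mem_of_mk_eq_one (R := Y p τ) hl.inj ?_
    show f (τ (x ^ p)) = 1
    rw [map_pow, map_pow]
    exact hxE.2
  · intro g₂ hg₂ x hx
    exact (h.moved_inf (h.moved hn hg₂)).le ⟨hx.2, (h.U_le.trans inf_le_right) hx.1⟩
  · intro g₂ hg₂ x hx
    obtain ⟨h2l, -, hY2, -⟩ := h.cj_U g₂
    have hle : U ⊔ cj τ g₂ U ≤ U ⊔ W := by
      refine sup_le le_sup_left fun z hz => ?_
      obtain ⟨u, hu, hz'⟩ := mem_cj.mp hz
      obtain ⟨c, hc, hce⟩ := hΩn.conj_mem _ (mem_map_of_mem τ (mem_sup_left hu : u ∈ U ⊔ W)) g₂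
      exact hl.inj (hce.trans hz') ▸ hc
    have hinf : ∀ g₃, Gen p τ.range g₃ → Nat.card ↥(U ⊔ cj τ g₃ U) * Nat.card ↥(Y p τ) =
        Nat.card ↥U * Nat.card ↥U := by
      intro g₃ hg₃
      obtain ⟨h3l, -, hY3, -⟩ := h.cj_U g₃
      have e : U ⊓ cj τ g₃ U = Y p τ :=
        le_antisymm ((le_inf inf_le_right (inf_le_left.trans (h.U_le.trans inf_le_right))).trans
          (h.moved_inf (h.moved hn hg₃)).le) (le_inf le_sup_left hY3)
      have h1 := card_prod_mul U (cj τ g₃ U)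
      rw [← coe_sup_eq_mul h.large_U h3l, e, card_cj hl.inj hl.core_le h.U_le_T] at h1
      exact h1
    have heq : U ⊔ cj τ g₂ U = U ⊔ W := eq_of_card _ _ hle (Nat.le_of_mul_le_mul_right
      ((hinf g hg).trans (hinf g₂ hg₂).symm).le Nat.card_pos)
    rw [← heq] at hx
    obtain ⟨a, ha, b, hb, he⟩ : x ∈ (U : Set P) * (cj τ g₂ U : Set P) := by
      rw [← coe_sup_eq_mul h.large_U h2l]
      exact hx
    exact ⟨a, ha, b, hb, he⟩

/-- `|Y'| ≤ |Y|`. -/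
theorem card_Y_le (h : Pair p τ τ') (hn : ¬ ((Y p τ ⊔ Y p τ').map τ).Normal)
    (hn' : ¬ ((Y p τ' ⊔ Y p τ).map τ').Normal) : Nat.card ↥(Y p τ') ≤ Nat.card ↥(Y p τ) := by
  obtain ⟨g, hg⟩ := PushingUp.exists_Gen h.left.sit
  obtain ⟨g', hg'⟩ := PushingUp.exists_Gen h.right.sit
  have hW := h.moved hn hg
  have hW' := h.symm.moved hn' hg'
  obtain ⟨b, hb, hbT⟩ := h.symm.exists_W hW'
  have h1 := (h.symm.layerTwo hn' hg' hW).card_ge h.right hg' hb
    (fun hbY => hbT (h.nc hbY))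
  have h2 := h.right.measure h.right.large_T
  have h3 := card_prod_mul (Y p τ') (Y p τ)
  rw [← coe_sup_eq_mul h.right.large_Y h.left.large_Y, inf_comm, h.Y_inf] at h3
  change Nat.card ↥(T p τ') * Nat.card ↥(Y p τ') = _ at h2
  refine Nat.le_of_mul_le_mul_left ?_ (Nat.mul_pos (Nat.card_pos (α := ↥(T p τ'))) (Nat.card_pos (α := ↥(Y p τ'))))
  calc Nat.card ↥(T p τ') * Nat.card ↥(Y p τ') * Nat.card ↥(Y p τ')
      = Nat.card P * Nat.card ↥(Y p τ') * Nat.card ↥(center P) := by rw [h2]; ring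
    _ ≤ Nat.card ↥(Y p τ' ⊔ Y p τ) * Nat.card ↥(T p τ') * Nat.card ↥(center P) := Nat.mul_le_mul_right _ h1
    _ = Nat.card ↥(T p τ') * (Nat.card ↥(Y p τ' ⊔ Y p τ) * Nat.card ↥(center P)) := by ring
    _ = _ := by rw [← mul_assoc (Nat.card ↥(T p τ'))]; rw [mul_assoc, mul_assoc]; exact congrArg _ h3

theorem layerTwo_card (h : Pair p τ τ') (hn : ¬ ((Y p τ ⊔ Y p τ').map τ).Normal)
    (hn' : ¬ ((Y p τ' ⊔ Y p τ).map τ').Normal) :
    Nat.card ↥(Y p τ ⊔ Y p τ') * Nat.card ↥(T p τ) ≤ Nat.card ↥(Y p τ) * Nat.card P := by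
  have h2 := h.left.measure h.left.large_T
  change Nat.card ↥(T p τ) * Nat.card ↥(Y p τ) = _ at h2
  have h3 := card_prod_mul (Y p τ) (Y p τ')
  rw [← coe_sup_eq_mul h.left.large_Y h.right.large_Y, h.Y_inf] at h3
  refine Nat.le_of_mul_le_mul_right ?_ (Nat.card_pos (α := ↥(center P)))
  calc Nat.card ↥(Y p τ ⊔ Y p τ') * Nat.card ↥(T p τ) * Nat.card ↥(center P)
      = (Nat.card ↥(Y p τ ⊔ Y p τ') * Nat.card ↥(center P)) * Nat.card ↥(T p τ) := by ring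
    _ = Nat.card ↥(Y p τ) * Nat.card ↥(Y p τ') * Nat.card ↥(T p τ) := congrArg (· * _) h3
    _ = Nat.card ↥(Y p τ') * (Nat.card ↥(T p τ) * Nat.card ↥(Y p τ)) := by ring
    _ ≤ Nat.card ↥(Y p τ) * (Nat.card P * Nat.card ↥(center P)) := by
        rw [h2]; exact Nat.mul_le_mul_right _ (h.card_Y_le hn hn')
    _ = _ := by ring

theorem mutual_five (h : Pair p τ τ') (hn : ¬ ((Y p τ ⊔ Y p τ').map τ).Normal)
    (hn' : ¬ ((Y p τ' ⊔ Y p τ).map τ').Normal) (hp : 5 ≤ p) : False := by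
  have hl := h.left
  obtain ⟨g, hg⟩ := PushingUp.exists_Gen hl.sit
  obtain ⟨g', hg'⟩ := PushingUp.exists_Gen h.right.sit
  have hW := h.moved hn hg
  have hW' := h.symm.moved hn' hg'
  set U := Y p τ ⊔ Y p τ' with hU
  set W := cj τ g U with hWdef
  obtain ⟨L₁, hc₁⟩ := hl.moduleLayer
  have L₂ := h.layerTwo hn hg hW'
  have hc₂ := h.layerTwo_card hn hn'
  obtain ⟨c, hpc⟩ : Odd p := (Fact.out : p.Prime).odd_of_ne_two (by omega)
  have hk : p + 1 = 2 * (c + 1) := by omega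
  obtain ⟨d, hd⟩ := exists_torus h.left hg L₁ hc₁.le hl.center_not_le_Zg (m := 2) (k := ((c + 1 : ℕ) : ℤ))
    ⟨1, by push_cast; omega⟩
  obtain ⟨hA₁, hB₁⟩ := hd _ _ _ L₁ hc₁.le
  obtain ⟨hA₂, hB₂⟩ := hd _ _ _ L₂ hc₂
  haveI := Zg_normal τ
  haveI := hl.core.2.1
  haveI hΩn := L₂.Qn
  let fz := QuotientGroup.mk' ((Zg τ).map τ)
  let fy := QuotientGroup.mk' ((Y p τ).map τ)
  haveI : (((Y p τ).map τ).map fz).Normal :=
    Subgroup.Normal.map hl.core.2.1 fz (QuotientGroup.mk'_surjective _)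
  haveI : (((U ⊔ W).map τ).map fy).Normal :=
    Subgroup.Normal.map hΩn fy (QuotientGroup.mk'_surjective _)
  -- the elements fixing both layers
  set N₀ := (centralizer ((((Y p τ).map τ).map fz : Subgroup _) : Set (G ⧸ (Zg τ).map τ))).comap fz ⊓
    (centralizer ((((U ⊔ W).map τ).map fy : Subgroup _) : Set (G ⧸ (Y p τ).map τ))).comap fy
  haveI : N₀.Normal := inferInstance
  set N := (centralizer ((((U ⊔ W).map τ).map fz : Subgroup _) : Set (G ⧸ (Zg τ).map τ))).comap fz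
  have hN₀S : N₀ ⊓ τ.range ≤ Cfsg.pCore p G := by
    rintro _ ⟨⟨hs, -⟩, s, rfl⟩
    refine mem_T.mp (not_not.mp fun hsT => hl.center_not_le_Zg ?_)
    have hYZ : Y p τ ≤ center P := fun y hy => hl.mem_center_of_mod hsT hy (by
      refine mem_of_mk_eq_one (R := Zg τ) hl.inj ?_
      show fz (τ (s * y * s⁻¹ * y⁻¹)) = 1
      simp only [map_mul, map_inv]
      rw [← hs _ (mem_map_of_mem fz (mem_map_of_mem τ hy)), mul_inv_cancel_right, mul_inv_cancel])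
    have h1 : cj τ g (center P) = center P := eq_of_card _ _
      (((le_sup_right).trans (hl.center_sup_cj hg).le).trans hYZ)
      (card_cj hl.inj hl.core_le (Side.center_le_Y.trans hl.centralizer_T_le) g).ge
    rw [← hl.center_inf_cj hg, h1, inf_idem]
  have hTN : Cfsg.pCore p G ≤ N := by
    intro a ha
    obtain ⟨t, rfl⟩ := hl.core_le ha
    rintro _ ⟨_, ⟨x, hx, rfl⟩, rfl⟩
    have hle : U ⊔ W ≤ (centralizer ({fz (τ t)} : Set (G ⧸ (Zg τ).map τ))).comap (fz.comp τ) := by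
      have key : ∀ y, t * y * t⁻¹ * y⁻¹ ∈ Zg τ →
          y ∈ (centralizer ({fz (τ t)} : Set (G ⧸ (Zg τ).map τ))).comap (fz.comp τ) := by
        intro y hy
        have h1 : fz (τ (t * y * t⁻¹ * y⁻¹)) = 1 := mk_eq_one hy
        simp only [map_mul, map_inv] at h1
        rw [mul_inv_eq_one, mul_inv_eq_iff_eq_mul] at h1
        exact mem_centralizer_singleton_iff.mpr h1.symm
      refine sup_le (fun y hy => key y ?_) (fun y hy => key y (h.W_quad hn hy (mem_T.mpr ha)))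
      rw [show t * y * t⁻¹ * y⁻¹ = (y * t * y⁻¹ * t⁻¹)⁻¹ by group]
      exact inv_mem (h.value hn hy (mem_T.mpr ha))
    exact mem_centralizer_singleton_iff.mp (hle hx)
  have hN₀N : N₀ ≤ N := by
    intro k hkN
    refine mem_of_parts N k (fun n hn' => ?_) (fun n a ha =>
      hTN (mem_pCore_of_pow hl.sit N₀ hN₀S (pow_mem hkN n) ha))
    obtain ⟨h1, h2⟩ := pow_mem hkN n
    rintro _ ⟨_, ⟨x, hx, rfl⟩, rfl⟩
    have h3 : fy (k ^ n) * fy (τ x) = fy (τ x) * fy (k ^ n) :=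
      (h2 _ (mem_map_of_mem fy (mem_map_of_mem τ hx))).symm
    obtain ⟨y, hy, hye⟩ : (τ x)⁻¹ * (k ^ n * τ x * (k ^ n)⁻¹) ∈ (Y p τ).map τ := by
      refine (QuotientGroup.eq_one_iff (N := (Y p τ).map τ) _).mp ?_
      show fy ((τ x)⁻¹ * (k ^ n * τ x * (k ^ n)⁻¹)) = 1
      rw [map_mul, map_mul, map_mul, map_inv, map_inv, h3, mul_inv_cancel_right, inv_mul_cancel]
    have hy1 : fz (τ y) = 1 := by
      refine coprime_stab (c := fz (k ^ n)) (x := fz (τ x)) hn'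
        (by rw [← map_pow, pow_orderOf_eq_one, map_one]) ?_ ?_ (a := 1) ?_
      · rw [mul_inv_eq_iff_eq_mul]
        exact (h1 _ (mem_map_of_mem fz (mem_map_of_mem τ hy))).symm
      · rw [← map_inv, ← map_mul, ← map_mul, ← map_mul, hye, mul_inv_cancel_left]
      · rw [pow_one, ← map_pow, ← map_pow, hl.pow_eq_one hy, map_one, map_one]
    rw [hye, map_mul, map_mul, map_mul, map_inv, map_inv, inv_mul_eq_one, eq_mul_inv_iff_mul_eq] at hy1
    exact hy1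
  -- `t⁻⁴ d t d⁻¹` fixes `U U^g` modulo `Z_G`
  have hfix : ∀ t : P, ∀ x ∈ U ⊔ W,
      Commute (fz ((τ (t ^ 4))⁻¹ * (d * τ t * d⁻¹))) (fz (τ x)) := by
    intro t
    have he : (τ (t ^ 4))⁻¹ * (d * τ t * d⁻¹) ∈ N₀ := by
      refine ⟨?_, ?_⟩
      · rintro _ ⟨_, ⟨x, hx, rfl⟩, rfl⟩
        exact (L₁.torus_fix hl hg hk hA₁ hB₁ t hx).symm
      · rintro _ ⟨_, ⟨x, hx, rfl⟩, rfl⟩
        exact (L₂.torus_fix hl hg hk hA₂ hB₂ t hx).symm
    intro x hx
    exact (hN₀N he _ (mem_map_of_mem fz (mem_map_of_mem τ hx))).symm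
  have hp4 : Nat.Coprime 4 p := by
    rw [show (4 : ℕ) = 2 ^ 2 by norm_num]
    exact ((Nat.coprime_primes Nat.prime_two (Fact.out : p.Prime)).mpr (by omega)).pow_left 2
  -- `d` normalises `Y'`
  have hY' : ∀ y' ∈ Y p τ', ∃ y'' ∈ Y p τ', d * τ y' * d⁻¹ = τ y'' := by
    intro y' hy'
    obtain ⟨r, hr, he⟩ := hA₂ y' (mem_sup_right hy')
    obtain ⟨v, hv, hvT⟩ := h.exists_right
    have hv4 : v ^ 4 ∉ T p τ := fun hm => hvT (mem_of_pow hp4 hm (mem_T.mpr (by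
      rw [map_pow]; exact PushingUp.pow_mem_pCore hl.sit ⟨v, rfl⟩)))
    refine ⟨y' ^ (2 : ℤ) * r, mul_mem (zpow_mem hy' _) (Side.center_le_Y (hl.mem_center_of_mod hv4 hr ?_)), he⟩
    have hxΩ : y' ^ (2 : ℤ) * r ∈ U ⊔ W :=
      mem_sup_left (mul_mem (zpow_mem (mem_sup_right hy') _) (mem_sup_left hr))
    have c1 : Commute (fz (d * τ v * d⁻¹)) (fz (τ (y' ^ (2 : ℤ) * r))) := by
      rw [← he]
      exact (((show Commute v y' from hy' v hv).map τ).map (MulAut.conj d).toMonoidHom).map fz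
    have c2 : Commute (fz (τ (v ^ 4))) (fz (τ (y' ^ (2 : ℤ) * r))) := by
      have := c1.mul_left (hfix v _ hxΩ).inv_left
      rwa [← map_inv, ← map_mul, show d * τ v * d⁻¹ * ((τ (v ^ 4))⁻¹ * (d * τ v * d⁻¹))⁻¹ = τ (v ^ 4) by group] at this
    have c3 : Commute (fz (τ (v ^ 4))) (fz (τ (y' ^ (2 : ℤ)))) :=
      ((((show Commute v y' from hy' v hv).pow_left 4).zpow_right 2).map τ).map fz
    have c4 := c3.inv_right.mul_right c2
    rw [← map_inv, ← map_mul, ← map_inv, ← map_mul, inv_mul_cancel_left] at c4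
    refine mem_of_mk_eq_one (R := Zg τ) hl.inj ?_
    show fz (τ (v ^ 4 * r * (v ^ 4)⁻¹ * r⁻¹)) = 1
    simp only [map_mul, map_inv]
    rw [c4.eq, mul_inv_cancel_right, mul_inv_cancel]
  -- `[W', W] ≤ Y'`
  haveI : (Y p τ').Normal := by unfold Y; infer_instance
  let f' := QuotientGroup.mk' (Y p τ')
  have hf1 : ∀ a ∈ Y p τ', f' a = 1 := fun a ha => (QuotientGroup.eq_one_iff (N := Y p τ') _).mpr ha
  have hfz : ∀ a ∈ center P, f' a = 1 := fun a ha => hf1 a (Side.center_le_Y ha)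
  have key : ∀ t ∈ cj τ' g' (Y p τ' ⊔ Y p τ), ∀ l ∈ W, t * l * t⁻¹ * l⁻¹ ∈ Y p τ' := by
    intro t ht l hlW
    have hlT : l ∈ T p τ := (h.cj_U g).2.2.2 hlW
    obtain ⟨y, hy, y', hy', hw⟩ := h.mul_mem_U (h.mutual_comm hW hW' hlW ht)
    obtain ⟨r, hr, hdl⟩ := hB₂ l hlW
    obtain ⟨x, hx⟩ : ∃ x, x = l ^ ((c + 1 : ℕ) : ℤ) * r := ⟨_, rfl⟩
    rw [← hx] at hdl
    have hxΩ : x ∈ U ⊔ W :=
      hx ▸ mul_mem (mem_sup_right (zpow_mem hlW _)) (mem_sup_left (mem_sup_left hr))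
    set e := (τ (t ^ 4))⁻¹ * (d * τ t * d⁻¹) with he
    obtain ⟨z, hz, hze⟩ : (τ x)⁻¹ * (e * τ x * e⁻¹) ∈ (Zg τ).map τ := by
      refine (QuotientGroup.eq_one_iff (N := (Zg τ).map τ) _).mp ?_
      show fz ((τ x)⁻¹ * (e * τ x * e⁻¹)) = 1
      rw [map_mul, map_mul, map_mul, map_inv, map_inv, (hfix t x hxΩ).eq, mul_inv_cancel_right,
        inv_mul_cancel]
    obtain ⟨a, ha, b, hb, hab⟩ := L₁.cover g hg y hy
    obtain ⟨r₁, hr₁, hda⟩ := hA₁ a ha
    obtain ⟨r₂, hr₂, hdb⟩ := hB₁ b hb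
    obtain ⟨y'', hy'', hdy'⟩ := hY' y' hy'
    have E : a ^ (2 : ℤ) * r₁ * (b ^ ((c + 1 : ℕ) : ℤ) * r₂) * y'' =
        t ^ 4 * (x * z) * (t ^ 4)⁻¹ * x⁻¹ := by
      apply hl.inj
      calc τ (a ^ (2 : ℤ) * r₁ * (b ^ ((c + 1 : ℕ) : ℤ) * r₂) * y'')
          = d * τ a * d⁻¹ * (d * τ b * d⁻¹) * (d * τ y' * d⁻¹) := by rw [map_mul, map_mul, hda, hdb, hdy']
        _ = d * τ (t * l * t⁻¹ * l⁻¹) * d⁻¹ := by rw [← hw, ← hab, map_mul, map_mul]; group
        _ = (d * τ t * d⁻¹) * (d * τ l * d⁻¹) * (d * τ t * d⁻¹)⁻¹ * (d * τ l * d⁻¹)⁻¹ := by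
            simp only [map_mul, map_inv]; group
        _ = τ (t ^ 4) * (e * τ x * e⁻¹) * (τ (t ^ 4))⁻¹ * (τ x)⁻¹ := by rw [hdl, he]; group
        _ = _ := by
            rw [show e * τ x * e⁻¹ = τ (x * z) by rw [map_mul, hze, mul_inv_cancel_left]]
            simp only [map_mul, map_inv]
    have hyb : f' y = f' b := by rw [← hab, map_mul, hfz a ha, one_mul]
    have hTy : Commute (f' t) (f' y) := by
      have h1 := hfz _ (hl.quad hy t)
      simp only [map_mul, map_inv] at h1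
      rw [mul_inv_eq_one, mul_inv_eq_iff_eq_mul] at h1
      exact h1
    have hLy : Commute (f' l) (f' y) := (show Commute l y from hy l hlT).map f'
    have hTr : Commute (f' t ^ 4) (f' r) := by
      refine Commute.pow_left ?_ 4
      have h1 := hfz _ (hl.quad hr t)
      simp only [map_mul, map_inv] at h1
      rw [mul_inv_eq_one, mul_inv_eq_iff_eq_mul] at h1
      exact h1
    have hTL : f' t * f' l * (f' t)⁻¹ = f' y * f' l := by
      have h1 := congrArg f' hw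
      simp only [map_mul, map_inv] at h1
      rw [hf1 y' hy', mul_one] at h1
      exact mul_inv_eq_iff_eq_mul.mp h1.symm
    have h4 := commutator_pow_pow hTy hLy hTL 4 (c + 1)
    have E' := congrArg f' E
    simp only [map_mul, map_inv, map_pow, hf1 y'' hy'', hfz r₁ (hl.Zg_le_center hr₁),
      hfz r₂ (hl.Zg_le_center hr₂), hfz z (hl.Zg_le_center hz), hfz (a ^ (2 : ℤ)) (zpow_mem ha _),
      mul_one, one_mul] at E'
    rw [zpow_natCast, map_pow, ← hyb, hx, map_mul, zpow_natCast, map_pow,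
      show f' t ^ 4 * (f' l ^ (c + 1) * f' r) * (f' t ^ 4)⁻¹ * (f' l ^ (c + 1) * f' r)⁻¹ =
        f' t ^ 4 * f' l ^ (c + 1) * (f' r * (f' t ^ 4)⁻¹) * (f' r)⁻¹ * (f' l ^ (c + 1))⁻¹ by group,
      ← hTr.inv_left.eq, ← mul_assoc (f' t ^ 4 * f' l ^ (c + 1)), mul_inv_cancel_right, h4,
      show 4 * (c + 1) = 3 * (c + 1) + (c + 1) by ring, pow_add _ (3 * (c + 1)) (c + 1)] at E'
    have h5 : f' y ^ (3 * (c + 1)) = 1 := mul_eq_right.mp E'.symm
    have hcop : Nat.Coprime (3 * (c + 1)) p := by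
      refine Nat.Coprime.mul_left ((Nat.coprime_primes Nat.prime_three (Fact.out : p.Prime)).mpr (by omega)) ?_
      refine (((Fact.out : p.Prime).coprime_iff_not_dvd).mpr fun hd => ?_).symm
      have := Nat.le_of_dvd (by omega) hd
      omega
    have h6 : f' y = 1 := by
      refine orderOf_eq_one_iff.mp (Nat.eq_one_of_dvd_coprimes hcop (orderOf_dvd_of_pow_eq_one h5)
        (orderOf_dvd_of_pow_eq_one ?_))
      rw [← map_pow, hl.pow_eq_one hy, map_one]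
    rw [← hw]
    exact mul_mem ((QuotientGroup.eq_one_iff (N := Y p τ') _).mp h6) hy'
  obtain ⟨l, hlW, hlT⟩ := h.exists_W hW
  refine h.symm.not_commute hn' hg' hlT fun t ht => ?_
  have h1 : l * t * l⁻¹ * t⁻¹ ∈ Y p τ' := by
    have := inv_mem (key t ht l hlW)
    rwa [show (t * l * t⁻¹ * l⁻¹)⁻¹ = l * t * l⁻¹ * t⁻¹ by group] at this
  exact fun a ha => h1 a ((h.symm.cj_U g').2.2.2 ha)

end Pair

end Cfsg.Agent.PushingUp
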