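import Cfsg.Agent.Lib.PushingUp.Chain

/-!
Natural layers `Q / R` with the line `A / R` fixed by `P`, and the torus element.

* `Layer`: the axioms; `Layer.fixed`, `Layer.card_ge`, `Layer.surj`.
* `Layer.coatom_fix`: the maximal subgroup over `S` fixes the line.
* `exists_torus`: an element acting as `(m, k)` on every layer, for `m k ≡ 1 (mod p)`.
-/

set_option autoImplicit false

open Subgroup Cfsg.Agent.CentrallyLarge
open scoped Pointwise

namespace Cfsg.Agent.PushingUp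

open Real

variable {P : Type*} [Group P] [Finite P] {G : Type*} [Group G] [Finite G] {p : ℕ} [Fact p.Prime]
  {τ : P →* G}

/-- A natural layer `Q / R` with fixed line `A / R`. -/
structure Layer (p : ℕ) (τ : P →* G) (Q R A : Subgroup P) : Prop where
  RA : R ≤ A
  AQ : A ≤ Q
  QT : Q ≤ T p τ
  Qn : (Q.map τ).Normal
  Rn : (R.map τ).Normal
  triv : ∀ v, ∀ a ∈ A, v * a * v⁻¹ * a⁻¹ ∈ R
  quad : ∀ v, ∀ x ∈ Q, v * x * v⁻¹ * x⁻¹ ∈ A
  core : ∀ t ∈ T p τ, ∀ x ∈ Q, t * x * t⁻¹ * x⁻¹ ∈ R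
  pow : ∀ x ∈ Q, x ^ p ∈ R
  inf : ∀ g, Gen p τ.range g → A ⊓ cj τ g A ≤ R
  cover : ∀ g, Gen p τ.range g → ∀ x ∈ Q, ∃ a ∈ A, ∃ b ∈ cj τ g A, a * b = x

omit [Finite P] [Finite G] [Fact p.Prime] in
theorem mk_eq_one {R : Subgroup P} [(R.map τ).Normal] {a : P} (ha : a ∈ R) :
    QuotientGroup.mk' (R.map τ) (τ a) = 1 :=
  (QuotientGroup.eq_one_iff (N := R.map τ) _).mpr (mem_map_of_mem τ ha)

omit [Finite P] [Finite G] [Fact p.Prime] in
theorem mem_of_mk_eq_one (hτ : Function.Injective τ) {R : Subgroup P} [(R.map τ).Normal] {a : P}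
    (ha : QuotientGroup.mk' (R.map τ) (τ a) = 1) : a ∈ R := by
  obtain ⟨b, hb, he⟩ := (QuotientGroup.eq_one_iff (N := R.map τ) _).mp ha
  exact hτ he ▸ hb

namespace Layer

variable {Q R A : Subgroup P} {g : G}

omit [Finite P] [Finite G] [Fact p.Prime] in
theorem mk_conj (L : Layer p τ Q R A) [(R.map τ).Normal] (v : P) {a : P} (ha : a ∈ A) :
    QuotientGroup.mk' (R.map τ) (τ v) * QuotientGroup.mk' (R.map τ) (τ a) =
      QuotientGroup.mk' (R.map τ) (τ a) * QuotientGroup.mk' (R.map τ) (τ v) := by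
  have h1 : QuotientGroup.mk' (R.map τ) (τ (v * a * v⁻¹ * a⁻¹)) = 1 := mk_eq_one (L.triv v a ha)
  simp only [map_mul, map_inv] at h1
  rw [mul_inv_eq_one, mul_inv_eq_iff_eq_mul] at h1
  exact h1

theorem fixed (L : Layer p τ Q R A) (h : Side p τ) (hg : Gen p τ.range g) {b v : P}
    (hb : b ∈ cj τ g A) (hv : v ∉ T p τ) (hc : v * b * v⁻¹ * b⁻¹ ∈ R) : b ∈ R := by
  haveI := L.Rn
  obtain ⟨a, ha, hab⟩ := mem_cj.mp hb
  let f := QuotientGroup.mk' (R.map τ)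
  let N := (centralizer ({f (τ b)} : Set (G ⧸ R.map τ))).comap f
  have hle : zpowers (τ v) ⊔ MulAut.conj g • τ.range ≤ N := by
    refine sup_le (zpowers_le.mpr ?_) fun k hk => ?_
    · show f (τ v) ∈ centralizer ({f (τ b)} : Set _)
      have h1 : f (τ (v * b * v⁻¹ * b⁻¹)) = 1 := mk_eq_one hc
      simp only [map_mul, map_inv] at h1
      rw [mul_inv_eq_one, mul_inv_eq_iff_eq_mul] at h1
      exact mem_centralizer_singleton_iff.mpr h1
    · rw [Subgroup.mem_pointwise_smul_iff_inv_smul_mem, ← map_inv] at hk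
      obtain ⟨c, hc'⟩ := hk
      have hk' : k = g * τ c * g⁻¹ := by
        rw [hc', MulAut.smul_def, MulAut.conj_apply]
        group
      show f k ∈ centralizer ({f (τ b)} : Set _)
      rw [mem_centralizer_singleton_iff, hk', ← hab]
      simp only [map_mul, map_inv]
      calc f g * f (τ c) * (f g)⁻¹ * (f g * f (τ a) * (f g)⁻¹) = f g * (f (τ c) * f (τ a)) * (f g)⁻¹ := by group
        _ = f g * (f (τ a) * f (τ c)) * (f g)⁻¹ := by rw [L.mk_conj c ha]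
        _ = _ := by group
  rw [(hg (τ v) ⟨v, rfl⟩ (fun hm => hv (mem_T.mpr hm))).1] at hle
  have h2 : f g * f (τ b) = f (τ b) * f g := mem_centralizer_singleton_iff.mp (hle (mem_top g))
  have h3 : f (τ b) = f (τ a) := by
    rw [← hab, map_mul, map_mul, map_inv] at h2 ⊢
    refine mul_left_cancel (a := f g) (h2.trans ?_)
    rw [inv_mul_cancel_right]
  have h4 : a⁻¹ * b ∈ R := mem_of_mk_eq_one (R := R) h.inj (by
    show f (τ (a⁻¹ * b)) = 1
    rw [map_mul, map_mul, map_inv, map_inv, h3, inv_mul_cancel])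
  exact L.inf g hg ⟨by simpa using mul_mem ha (L.RA h4), hb⟩

/-- The commutator with a moved element of the line. -/
theorem exists_hom (L : Layer p τ Q R A) [(R.map τ).Normal] (h : Side p τ) (hg : Gen p τ.range g) {b : P}
    (hb : b ∈ cj τ g A) (hbR : b ∉ R) :
    ∃ φ : P →* G ⧸ R.map τ, φ.ker ≤ T p τ ∧
      (∀ v, φ v = QuotientGroup.mk' (R.map τ) (τ (v * b * v⁻¹ * b⁻¹))) := by
  haveI := L.Qn
  have hbQ : b ∈ Q := by
    obtain ⟨a, ha, hab⟩ := mem_cj.mp hb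
    obtain ⟨c, hc, he⟩ := L.Qn.conj_mem _ (mem_map_of_mem τ (L.AQ ha)) g
    exact h.inj (he.trans hab) ▸ hc
  refine ⟨MonoidHom.mk' (fun v => QuotientGroup.mk' (R.map τ) (τ (v * b * v⁻¹ * b⁻¹))) fun v v' => ?_,
    fun v hv => ?_, fun v => rfl⟩
  · have hc := L.quad v' b hbQ
    have h1 := L.mk_conj v hc
    have h2 := L.mk_conj (v * b * v⁻¹ * b⁻¹) hc
    rw [show v * v' * b * (v * v')⁻¹ * b⁻¹ = v * (v' * b * v'⁻¹ * b⁻¹) * v⁻¹ * (v * b * v⁻¹ * b⁻¹) by group,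
      map_mul, map_mul, map_mul, map_mul, map_mul, map_mul, h1, map_inv, map_inv, mul_inv_cancel_right]
    exact h2.symm
  · by_contra hvT
    exact hbR (L.fixed h hg hb hvT (mem_of_mk_eq_one (R := R) h.inj hv))

theorem hom_range_le (L : Layer p τ Q R A) (h : Side p τ) {b : P} (hbQ : b ∈ Q)
    [(R.map τ).Normal] (φ : P →* G ⧸ R.map τ)
    (hφ : ∀ v, φ v = QuotientGroup.mk' (R.map τ) (τ (v * b * v⁻¹ * b⁻¹))) :
    φ.range ≤ (A.map τ).map (QuotientGroup.mk' (R.map τ)) := by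
  rintro _ ⟨v, rfl⟩
  rw [hφ]
  exact mem_map_of_mem _ (mem_map_of_mem τ (L.quad v b hbQ))

theorem card_line (L : Layer p τ Q R A) (h : Side p τ) [(R.map τ).Normal] :
    Nat.card ↥R * Nat.card ↥((A.map τ).map (QuotientGroup.mk' (R.map τ))) = Nat.card ↥A := by
  rw [← Subgroup.relIndex_ker, QuotientGroup.ker_mk', Subgroup.relIndex_map_map_of_injective _ _ h.inj,
    PushUp.card_mul_relIndex' L.RA]

theorem mem_Q_of_cj (L : Layer p τ Q R A) (h : Side p τ) {b : P} (hb : b ∈ cj τ g A) : b ∈ Q := by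
  obtain ⟨a, ha, hab⟩ := mem_cj.mp hb
  obtain ⟨c, hc, he⟩ := L.Qn.conj_mem _ (mem_map_of_mem τ (L.AQ ha)) g
  exact h.inj (he.trans hab) ▸ hc

theorem card_ge (L : Layer p τ Q R A) (h : Side p τ) (hg : Gen p τ.range g) {b : P}
    (hb : b ∈ cj τ g A) (hbR : b ∉ R) :
    Nat.card P * Nat.card R ≤ Nat.card A * Nat.card ↥(T p τ) := by
  haveI := L.Rn
  obtain ⟨φ, hker, hφ⟩ := L.exists_hom h hg hb hbR
  rw [← L.card_line h]
  have h1 : Nat.card ↥φ.ker * Nat.card ↥φ.range = Nat.card P := by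
    rw [← Subgroup.index_ker]
    exact φ.ker.card_mul_index
  rw [← h1]
  calc Nat.card ↥φ.ker * Nat.card ↥φ.range * Nat.card R
      ≤ Nat.card ↥(T p τ) * Nat.card ↥((A.map τ).map (QuotientGroup.mk' (R.map τ))) * Nat.card R :=
        Nat.mul_le_mul_right _ (Nat.mul_le_mul (card_le_of_le hker)
          (card_le_of_le (L.hom_range_le h (L.mem_Q_of_cj h hb) φ hφ)))
    _ = _ := by ring

theorem surj (L : Layer p τ Q R A) (h : Side p τ)
    (hcard : Nat.card A * Nat.card ↥(T p τ) ≤ Nat.card R * Nat.card P) (hg : Gen p τ.range g) {b a : P}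
    (hb : b ∈ cj τ g A) (hbR : b ∉ R) (ha : a ∈ A) :
    ∃ v, (v * b * v⁻¹ * b⁻¹)⁻¹ * a ∈ R := by
  haveI := L.Rn
  obtain ⟨φ, hker, hφ⟩ := L.exists_hom h hg hb hbR
  have hle := L.hom_range_le h (L.mem_Q_of_cj h hb) φ hφ
  have heq : φ.range = (A.map τ).map (QuotientGroup.mk' (R.map τ)) := by
    refine eq_of_card _ _ hle (Nat.le_of_mul_le_mul_left ?_
      (Nat.mul_pos (Nat.card_pos (α := ↥R)) (Nat.card_pos (α := ↥(T p τ)))))
    have h1 : Nat.card ↥φ.ker * Nat.card ↥φ.range = Nat.card P := by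
      rw [← Subgroup.index_ker]
      exact φ.ker.card_mul_index
    calc _ = Nat.card A * Nat.card ↥(T p τ) := by rw [← L.card_line h]; ring
      _ ≤ Nat.card R * Nat.card P := hcard
      _ = Nat.card R * Nat.card ↥φ.ker * Nat.card ↥φ.range := by rw [← h1]; ring
      _ ≤ _ := Nat.mul_le_mul_right _ (Nat.mul_le_mul_left _ (card_le_of_le hker))
  obtain ⟨v, hv⟩ := heq.ge (mem_map_of_mem _ (mem_map_of_mem τ ha))
  refine ⟨v, mem_of_mk_eq_one (R := R) h.inj ?_⟩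
  rw [map_mul τ, map_inv τ, map_mul, map_inv, ← hφ, hv, inv_mul_cancel]

theorem coatom_fix (L : Layer p τ Q R A) (h : Side p τ)
    (hcard : Nat.card A * Nat.card ↥(T p τ) ≤ Nat.card R * Nat.card P) {M : Subgroup G}
    (hM : IsCoatom M) (hSM : τ.range ≤ M) {k : G} (hk : k ∈ M) {a : P} (ha : a ∈ A) :
    ∃ a' ∈ A, k * τ a * k⁻¹ = τ a' := by
  haveI := L.Rn
  obtain ⟨g, -, hgM⟩ := SetLike.exists_of_lt hM.1.lt_top
  have hg : Gen p τ.range g := PushingUp.gen_of_not_mem h.sit hM hSM hgM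
  obtain ⟨x, hx, he⟩ := L.Qn.conj_mem _ (mem_map_of_mem τ (L.AQ ha)) k
  refine ⟨x, ?_, he.symm⟩
  obtain ⟨a₁, ha₁, b, hb, rfl⟩ := L.cover g hg x hx
  by_contra hxA
  have hbR : b ∉ R := fun hbR => hxA (mul_mem ha₁ (L.RA hbR))
  obtain ⟨v, hv⟩ := L.surj h hcard hg hb hbR ha₁
  -- the element of the line of `v g` congruent to `a₁ b`
  set x' := v * b * v⁻¹
  have hxx : x'⁻¹ * (a₁ * b) ∈ R := by
    have e : x'⁻¹ * (a₁ * b) = b⁻¹ * ((x' * b⁻¹)⁻¹ * a₁) * b := by group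
    rw [e]
    obtain ⟨r, hr, hre⟩ := L.Rn.conj_mem _ (mem_map_of_mem τ hv) (τ b)⁻¹
    have : r = b⁻¹ * ((x' * b⁻¹)⁻¹ * a₁) * b := h.inj (by
      rw [hre]; simp only [x', map_mul, map_inv]; group)
    exact this ▸ hr
  obtain ⟨a₀, ha₀, hab⟩ := mem_cj.mp hb
  have hx'Q : x' ∈ Q := by
    have := mul_mem (L.AQ (L.quad v b (L.mem_Q_of_cj h hb))) (L.mem_Q_of_cj h hb)
    simpa [x', mul_assoc] using this
  set g₂ := k⁻¹ * τ v * g
  have hg₂M : g₂ ∉ M := fun hm => hgM (by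
    have := mul_mem (mul_mem (inv_mem (hSM ⟨v, rfl⟩)) hk) hm
    simpa [g₂, mul_assoc] using this)
  obtain ⟨r, hr, hre⟩ := L.Rn.conj_mem _ (mem_map_of_mem τ hxx) k⁻¹
  have e1 : g₂ * τ a₀ * g₂⁻¹ = τ (a * r⁻¹) := by
    rw [map_mul τ a, map_inv τ r, hre]
    calc g₂ * τ a₀ * g₂⁻¹ = k⁻¹ * (τ v * (g * τ a₀ * g⁻¹) * (τ v)⁻¹) * k := by simp only [g₂]; group
      _ = k⁻¹ * τ x' * k := by rw [hab]; simp only [x', map_mul, map_inv]
      _ = k⁻¹ * (τ (a₁ * b) * τ (x'⁻¹ * (a₁ * b))⁻¹) * k := by simp only [map_mul, map_inv]; group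
      _ = τ a * (k⁻¹ * τ (x'⁻¹ * (a₁ * b)) * k⁻¹⁻¹)⁻¹ := by rw [he, map_inv]; generalize τ (x'⁻¹ * (a₁ * b)) = z; group
  have hR : a * r⁻¹ ∈ R := L.inf g₂ (PushingUp.gen_of_not_mem h.sit hM hSM hg₂M)
    ⟨A.mul_mem ha (A.inv_mem (L.RA hr)), mem_cj.mpr ⟨a₀, ha₀, e1⟩⟩
  have haR : a ∈ R := by simpa using mul_mem hR hr
  obtain ⟨r', hr', he'⟩ := L.Rn.conj_mem _ (mem_map_of_mem τ haR) k
  exact hxA (L.RA ((h.inj (he'.trans he.symm)) ▸ hr'))

/-- The congruences defining a pair `(x, u)` of opposite elements. -/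
theorem pair_spec (L : Layer p τ Q R A) (h : Side p τ)
    (hcard : Nat.card A * Nat.card ↥(T p τ) ≤ Nat.card R * Nat.card P) {M : Subgroup G}
    (hM : IsCoatom M) (hSM : τ.range ≤ M) (hg : Gen p τ.range g) {x u : P}
    (hxu : (g * τ u * g⁻¹)⁻¹ * τ x * g ∈ M) {a : P} (ha : a ∈ A) :
    ∃ b ∈ cj τ g A, (∃ r ∈ R, x * b * x⁻¹ = a * b * r) ∧
      (∃ r ∈ R, g * τ u * g⁻¹ * τ a * (g * τ u * g⁻¹)⁻¹ = τ (a * b * r)) := by
  haveI := L.Rn
  set u' := g * τ u * g⁻¹ with hu'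
  set k := u'⁻¹ * τ x * g
  obtain ⟨a₁, ha₁, he⟩ := L.coatom_fix h hcard hM hSM (inv_mem hxu) ha
  rw [inv_inv] at he
  obtain ⟨b, -, hb⟩ := Real.exists_conj h.core_le g (L.QT (L.AQ ha₁))
  have hbB : b ∈ cj τ g A := mem_cj.mpr ⟨a₁, ha₁, hb⟩
  have e1 : τ (x * b * x⁻¹) = u' * τ a * u'⁻¹ := by
    simp only [map_mul, map_inv]
    rw [← hb, ← he]
    simp only [k]
    group
  obtain ⟨a₂, ha₂, he₂⟩ : ∃ a₂ ∈ A, x * b * x⁻¹ = a₂ * b := ⟨_, L.quad x b (L.mem_Q_of_cj h hbB), by group⟩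
  -- the difference is in `B` and in `A`
  obtain ⟨a', -, ha'⟩ := Real.exists_conj h.core_le g⁻¹ (L.QT (L.AQ ha))
  rw [inv_inv] at ha'
  have haQ : a' ∈ Q := by
    obtain ⟨c, hc, hce⟩ := L.Qn.conj_mem _ (mem_map_of_mem τ (L.AQ ha)) g⁻¹
    rw [inv_inv] at hce
    exact h.inj (hce.trans ha') ▸ hc
  have hq := L.quad u a' haQ
  obtain ⟨b', -, hb'⟩ := Real.exists_conj h.core_le g (L.QT (L.AQ hq))
  have hb'B : b' ∈ cj τ g A := mem_cj.mpr ⟨_, hq, hb'⟩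
  have e2 : τ b' = u' * τ a * u'⁻¹ * (τ a)⁻¹ := by
    rw [← hb', hu', map_mul, map_mul, map_mul, map_inv, map_inv, ← ha']
    group
  have e3 : b' * a = a₂ * b := h.inj (by rw [← he₂, e1, map_mul, e2]; group)
  -- `a₂⁻¹ a ∈ A ∩ B` modulo `R`
  have hab : b' * a⁻¹ * b'⁻¹ * (a⁻¹)⁻¹ ∈ R := L.triv b' a⁻¹ (inv_mem ha)
  have e5 : a₂⁻¹ * a = b * b'⁻¹ * (b' * a⁻¹ * b'⁻¹ * (a⁻¹)⁻¹) := by
    have : a₂⁻¹ = b * (b' * a)⁻¹ := by rw [e3]; group
    rw [this]; group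
  have hmem : a₂⁻¹ * a ∈ R := by
    have h1 : b * b'⁻¹ ∈ A ⊓ cj τ g A := by
      refine ⟨?_, (cj τ g A).mul_mem hbB ((cj τ g A).inv_mem hb'B)⟩
      have : b * b'⁻¹ = a₂⁻¹ * a * (b' * a⁻¹ * b'⁻¹ * (a⁻¹)⁻¹)⁻¹ := by rw [e5]; group
      rw [this]
      exact A.mul_mem (A.mul_mem (A.inv_mem ha₂) ha) (A.inv_mem (L.RA hab))
    rw [e5]
    exact R.mul_mem (L.inf g hg h1) hab
  obtain ⟨r₁, hr₁, hre₁⟩ := L.Rn.conj_mem _ (mem_map_of_mem τ (inv_mem hmem)) (τ b)⁻¹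
  have e6 : a₂ * b = a * b * r₁ := by
    have : r₁ = b⁻¹ * (a₂⁻¹ * a)⁻¹ * b := h.inj (by rw [hre₁]; simp only [map_mul, map_inv]; group)
    rw [this]
    calc a₂ * b = (a₂ * b) := rfl
      _ = a * b * (b⁻¹ * (a⁻¹ * a₂) * b) := by group
      _ = _ := by group
  exact ⟨b, hbB, ⟨r₁, hr₁, he₂.trans e6⟩, ⟨r₁, hr₁, by rw [← e1, he₂, e6]⟩⟩

end Layer

/-- A pair of opposite elements. -/
theorem exists_pair (h : Side p τ) {M : Subgroup G} (hM : IsCoatom M) (hSM : τ.range ≤ M) {g : G}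
    (hg : Gen p τ.range g) {Q R A : Subgroup P} (L : Layer p τ Q R A)
    (hcard : Nat.card A * Nat.card ↥(T p τ) ≤ Nat.card R * Nat.card P) (hne : ¬ A ≤ R) :
    ∃ x u : P, (g * τ u * g⁻¹)⁻¹ * τ x * g ∈ M := by
  haveI := L.Rn
  obtain ⟨x, hx⟩ := h.exists_not_mem
  obtain ⟨a₁, ha₁, ha₁R⟩ := SetLike.not_le_iff_exists.mp hne
  obtain ⟨b, -, hb⟩ := Real.exists_conj h.core_le g (L.QT (L.AQ ha₁))
  have hbB : b ∈ cj τ g A := mem_cj.mpr ⟨a₁, ha₁, hb⟩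
  have hbR : b ∉ R := fun hbR => ha₁R (by
    obtain ⟨r, hr, hre⟩ := L.Rn.conj_mem _ (mem_map_of_mem τ hbR) g⁻¹
    have : r = a₁ := h.inj (by rw [hre, ← hb]; group)
    exact this ▸ hr)
  set a := x * b * x⁻¹ * b⁻¹
  have haA : a ∈ A := L.quad x b (L.mem_Q_of_cj h hbB)
  have haR : a ∉ R := fun hh => hbR (L.fixed h hg hbB hx hh)
  obtain ⟨a', -, ha'⟩ := Real.exists_conj h.core_le g⁻¹ (L.QT (L.AQ haA))
  have ha'B : a' ∈ cj τ g⁻¹ A := mem_cj.mpr ⟨a, haA, ha'⟩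
  have ha'R : a' ∉ R := fun hh => haR (by
    obtain ⟨r, hr, hre⟩ := L.Rn.conj_mem _ (mem_map_of_mem τ hh) g
    have : r = a := h.inj (by rw [hre, ← ha']; group)
    exact this ▸ hr)
  obtain ⟨u, hu⟩ := L.surj h hcard hg.inv ha'B ha'R ha₁
  refine ⟨x, u, ?_⟩
  by_contra hk
  set k := (g * τ u * g⁻¹)⁻¹ * τ x * g
  apply haR
  let f := QuotientGroup.mk' (R.map τ)
  have e1 : f (τ u) * f (τ a') * (f (τ u))⁻¹ * (f (τ a'))⁻¹ = f (τ a₁) := by
    have h1 : f (τ ((u * a' * u⁻¹ * a'⁻¹)⁻¹ * a₁)) = 1 := mk_eq_one hu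
    simp only [map_mul, map_inv] at h1
    exact inv_mul_eq_one.mp h1
  have hk' : ∃ c ∈ cj τ k A, f (τ c) = f (τ a) := by
    obtain ⟨c, -, hc⟩ := Real.exists_conj h.core_le k (L.QT (L.AQ ha₁))
    refine ⟨c, mem_cj.mpr ⟨a₁, ha₁, hc⟩, ?_⟩
    rw [← hc]
    have hA' : f (τ a') = (f g)⁻¹ * f (τ a) * f g := by
      rw [← ha', inv_inv, map_mul, map_mul, map_inv]
    have e2 : f g * f (τ u) * (f g)⁻¹ * f (τ a) * (f g * f (τ u) * (f g)⁻¹)⁻¹ =
        f g * f (τ a₁) * (f g)⁻¹ * f (τ a) := by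
      rw [← e1, hA']; group
    have e3 : f (τ x) * (f g * f (τ a₁) * (f g)⁻¹) * (f (τ x))⁻¹ = f (τ a) * (f g * f (τ a₁) * (f g)⁻¹) := by
      simp only [a, map_mul, map_inv, ← hb]
      group
    have e4 : f g * f (τ a₁) * (f g)⁻¹ * f (τ a) = f (τ a) * (f g * f (τ a₁) * (f g)⁻¹) := by
      have := L.mk_conj b haA
      simpa [← hb, f] using this
    calc f (k * τ a₁ * k⁻¹) = (f g * f (τ u) * (f g)⁻¹)⁻¹ *
          (f (τ x) * (f g * f (τ a₁) * (f g)⁻¹) * (f (τ x))⁻¹) * (f g * f (τ u) * (f g)⁻¹) := by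
          simp only [k, map_mul, map_inv]; group
      _ = (f g * f (τ u) * (f g)⁻¹)⁻¹ *
          (f g * f (τ u) * (f g)⁻¹ * f (τ a) * (f g * f (τ u) * (f g)⁻¹)⁻¹) *
            (f g * f (τ u) * (f g)⁻¹) := by rw [e3, e2, e4]
      _ = f (τ a) := by group
  obtain ⟨c, hc, hce⟩ := hk'
  have hca : a⁻¹ * c ∈ R := mem_of_mk_eq_one (R := R) h.inj (by
    show f (τ (a⁻¹ * c)) = 1
    rw [map_mul τ, map_mul f, hce, map_inv, map_inv, inv_mul_cancel])
  have hcR : c ∈ R := L.inf k (PushingUp.gen_of_not_mem h.sit hM hSM hk)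
    ⟨by simpa using mul_mem haA (L.RA hca), hc⟩
  have := mul_mem hcR (inv_mem hca)
  simpa [mul_assoc] using this

/-- The first element of a pair is outside the core. -/
theorem not_mem_of_pair (h : Side p τ) {M : Subgroup G} (hM : IsCoatom M)
    (hSM : τ.range ≤ M) {g : G} (hg : Gen p τ.range g) {x u : P}
    (hxu : (g * τ u * g⁻¹)⁻¹ * τ x * g ∈ M) (hx : x ∈ T p τ) : False := by
  obtain ⟨c, -, hc⟩ := Real.exists_conj h.core_le g⁻¹ hx
  rw [inv_inv] at hc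
  have e : (g * τ u * g⁻¹)⁻¹ * τ x * g = g * τ (u⁻¹ * c) := by
    rw [map_mul, map_inv, ← hc]; group
  have hgM : g ∈ M := by
    rw [e] at hxu
    have h0 := mul_mem hxu (inv_mem (hSM ⟨u⁻¹ * c, rfl⟩))
    rwa [mul_inv_cancel_right] at h0
  obtain ⟨v, hv⟩ := h.exists_not_mem
  refine hM.1 (top_le_iff.mp ((hg (τ v) ⟨v, rfl⟩ (fun hm => hv (mem_T.mpr hm))).1.ge.trans ?_))
  refine sup_le (zpowers_le.mpr (hSM ⟨v, rfl⟩)) fun y hy => ?_
  rw [Subgroup.mem_pointwise_smul_iff_inv_smul_mem, ← map_inv] at hy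
  have h1 : g * (g⁻¹ * y * g) * g⁻¹ ∈ M := mul_mem (mul_mem hgM (hSM (by simpa using hy))) (inv_mem hgM)
  simpa [mul_assoc] using h1

/-- An element acting as `(m, k)` on every layer. -/
theorem exists_torus (h : Side p τ) {g : G} (hg : Gen p τ.range g) {Q R A : Subgroup P}
    (L : Layer p τ Q R A) (hcard : Nat.card A * Nat.card ↥(T p τ) ≤ Nat.card R * Nat.card P)
    (hne : ¬ A ≤ R) {m k : ℤ} (hmk : (p : ℤ) ∣ m * k - 1) :
    ∃ d : G, ∀ Q' R' A' : Subgroup P, Layer p τ Q' R' A' →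
      Nat.card A' * Nat.card ↥(T p τ) ≤ Nat.card R' * Nat.card P →
      (∀ a ∈ A', ∃ r ∈ R', d * τ a * d⁻¹ = τ (a ^ m * r)) ∧
      (∀ b ∈ cj τ g A', ∃ r ∈ R', d * τ b * d⁻¹ = τ (b ^ k * r)) := by
  obtain ⟨M, hM, hSM⟩ := PushingUp.exists_coatom h.sit
  obtain ⟨x, u, hxu⟩ := exists_pair h hM hSM hg L hcard hne
  refine ⟨τ x ^ m * (g * τ u * g⁻¹) ^ (-k) * τ x ^ m * (τ x * (g * τ u * g⁻¹)⁻¹ * τ x)⁻¹,
    fun Q' R' A' L' hc' => ?_⟩
  haveI := L'.Rn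
  let f := QuotientGroup.mk' (R'.map τ)
  set X := f (τ x)
  set V := f (g * τ u * g⁻¹)
  have core : ∀ a ∈ A', ∀ b ∈ cj τ g A', (∃ r ∈ R', x * b * x⁻¹ = a * b * r) →
      (∃ r ∈ R', g * τ u * g⁻¹ * τ a * (g * τ u * g⁻¹)⁻¹ = τ (a * b * r)) →
      f (τ x ^ m * (g * τ u * g⁻¹) ^ (-k) * τ x ^ m * (τ x * (g * τ u * g⁻¹)⁻¹ * τ x)⁻¹) * f (τ a) *
          (f (τ x ^ m * (g * τ u * g⁻¹) ^ (-k) * τ x ^ m * (τ x * (g * τ u * g⁻¹)⁻¹ * τ x)⁻¹))⁻¹ =
        f (τ a) ^ m ∧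
      f (τ x ^ m * (g * τ u * g⁻¹) ^ (-k) * τ x ^ m * (τ x * (g * τ u * g⁻¹)⁻¹ * τ x)⁻¹) * f (τ b) *
          (f (τ x ^ m * (g * τ u * g⁻¹) ^ (-k) * τ x ^ m * (τ x * (g * τ u * g⁻¹)⁻¹ * τ x)⁻¹))⁻¹ =
        f (τ b) ^ k := by
    intro a ha b hb ⟨r, hr, hxb⟩ ⟨r', hr', hua⟩
    set α := f (τ a)
    set β := f (τ b)
    have hp : α ^ p = 1 ∧ β ^ p = 1 := by
      constructor
      · rw [← map_pow, ← map_pow]; exact mk_eq_one (L'.pow a (L'.AQ ha))
      · rw [← map_pow, ← map_pow]; exact mk_eq_one (L'.pow b (L'.mem_Q_of_cj h hb))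
    have hαβ : Commute α β := (L'.mk_conj b ha).symm
    have hXα : X * α * X⁻¹ = α := by
      rw [show X * α = α * X from L'.mk_conj x ha, mul_inv_cancel_right]
    have hXβ : X * β * X⁻¹ = α * β := by
      have := congrArg (fun z => f (τ z)) hxb
      simp only [map_mul, map_inv] at this
      rw [show f (τ r) = 1 from mk_eq_one hr, mul_one] at this
      exact this
    have hVα : V * α * V⁻¹ = α * β := by
      have := congrArg f hua
      simp only [map_mul, map_inv] at this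
      rw [show f (τ r') = 1 from mk_eq_one hr', mul_one] at this
      simpa only [V, map_mul, map_inv] using this
    have hVβ : V * β * V⁻¹ = β := by
      obtain ⟨a₀, ha₀, hab⟩ := mem_cj.mp hb
      have hc : f (τ u) * f (τ a₀) * (f (τ u))⁻¹ = f (τ a₀) := by
        rw [L'.mk_conj u ha₀, mul_inv_cancel_right]
      simp only [V, β, ← hab, map_mul, map_inv]
      calc _ = f g * (f (τ u) * f (τ a₀) * (f (τ u))⁻¹) * (f g)⁻¹ := by group
        _ = _ := by rw [hc]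
    let w : ℤ → ℤ → G ⧸ R'.map τ := fun i j => α ^ i * β ^ j
    have hw : ∀ i j i' j', w i j * w i' j' = w (i + i') (j + j') := fun i j i' j' => by
      simp only [w, zpow_add]
      rw [mul_assoc (α ^ i), ← mul_assoc (β ^ j), ← (hαβ.zpow_zpow i' j).eq]
      group
    have hconj : ∀ (c : G ⧸ R'.map τ) (i j : ℤ),
        c * w i j * c⁻¹ = (c * α * c⁻¹) ^ i * (c * β * c⁻¹) ^ j := fun c i j => by
      simp only [w, conj_zpow]
      group
    have hmod : ∀ (i i' j j' : ℤ), (p : ℤ) ∣ i - i' → (p : ℤ) ∣ j - j' → w i j = w i' j' := by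
      intro i i' j j' ⟨c, hc⟩ ⟨c', hc'⟩
      simp only [w]
      rw [show i = i' + p * c by omega, show j = j' + p * c' by omega, zpow_add, zpow_add, zpow_mul,
        zpow_mul, zpow_natCast, zpow_natCast, hp.1, hp.2, one_zpow, one_zpow, mul_one, mul_one]
    have hX1 : ∀ i j, X * w i j * X⁻¹ = w (i + j) j := fun i j => by
      rw [hconj, hXα, hXβ, hαβ.mul_zpow, ← mul_assoc, ← zpow_add]
    have hV1 : ∀ i j, V * w i j * V⁻¹ = w i (i + j) := fun i j => by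
      rw [hconj, hVα, hVβ, hαβ.mul_zpow, mul_assoc, ← zpow_add]
    have hX : ∀ (n i j : ℤ), X ^ n * w i j * (X ^ n)⁻¹ = w (i + n * j) j := by
      intro n
      induction n with
      | zero => intro i j; simp
      | succ n ih =>
        intro i j
        rw [zpow_add, zpow_one, show X ^ (n : ℤ) * X * w i j * (X ^ (n : ℤ) * X)⁻¹ =
          X ^ (n : ℤ) * (X * w i j * X⁻¹) * (X ^ (n : ℤ))⁻¹ by group, hX1, ih]
        ring_nf
      | pred n ih =>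
        intro i j
        have h1 : X⁻¹ * w i j * X = w (i - j) j := by
          have := hX1 (i - j) j
          rw [sub_add_cancel] at this
          rw [← this]; group
        rw [zpow_sub, zpow_one, show X ^ (-(n : ℤ)) * X⁻¹ * w i j * (X ^ (-(n : ℤ)) * X⁻¹)⁻¹ =
          X ^ (-(n : ℤ)) * (X⁻¹ * w i j * X) * (X ^ (-(n : ℤ)))⁻¹ by group, h1, ih]
        ring_nf
    have hV : ∀ (n i j : ℤ), V ^ n * w i j * (V ^ n)⁻¹ = w i (j + n * i) := by
      intro n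
      induction n with
      | zero => intro i j; simp
      | succ n ih =>
        intro i j
        rw [zpow_add, zpow_one, show V ^ (n : ℤ) * V * w i j * (V ^ (n : ℤ) * V)⁻¹ =
          V ^ (n : ℤ) * (V * w i j * V⁻¹) * (V ^ (n : ℤ))⁻¹ by group, hV1, ih]
        ring_nf
      | pred n ih =>
        intro i j
        have h1 : V⁻¹ * w i j * V = w i (j - i) := by
          have := hV1 i (j - i)
          rw [add_sub_cancel] at this
          rw [← this]; group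
        rw [zpow_sub, zpow_one, show V ^ (-(n : ℤ)) * V⁻¹ * w i j * (V ^ (-(n : ℤ)) * V⁻¹)⁻¹ =
          V ^ (-(n : ℤ)) * (V⁻¹ * w i j * V) * (V ^ (-(n : ℤ)))⁻¹ by group, h1, ih]
        ring_nf
    have main : ∀ i j : ℤ, f (τ x ^ m * (g * τ u * g⁻¹) ^ (-k) * τ x ^ m * (τ x * (g * τ u * g⁻¹)⁻¹ * τ x)⁻¹) *
        w i j * (f (τ x ^ m * (g * τ u * g⁻¹) ^ (-k) * τ x ^ m * (τ x * (g * τ u * g⁻¹)⁻¹ * τ x)⁻¹))⁻¹ =
          w (m * i) (k * j) := by
      intro i j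
      have e : f (τ x ^ m * (g * τ u * g⁻¹) ^ (-k) * τ x ^ m * (τ x * (g * τ u * g⁻¹)⁻¹ * τ x)⁻¹) =
          X ^ m * (V ^ (-k) * (X ^ m * (X ^ (-1 : ℤ) * (V ^ (1 : ℤ) * X ^ (-1 : ℤ))))) := by
        simp only [X, V, map_mul, map_inv, map_zpow]
        group
      rw [e, show ∀ a b c d e' e'' z : G ⧸ R'.map τ, a * (b * (c * (d * (e' * e'')))) * z *
          (a * (b * (c * (d * (e' * e'')))))⁻¹ =
          a * (b * (c * (d * (e' * (e'' * z * e''⁻¹) * e'⁻¹) * d⁻¹) * c⁻¹) * b⁻¹) * a⁻¹ by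
          intros; group, hX, hV, hX, hX, hV, hX]
      obtain ⟨c, hc⟩ := hmk
      refine hmod _ _ _ _ ⟨c * j - c * (m * i), ?_⟩ ⟨-(c * i), ?_⟩
      · linear_combination (j - m * i) * hc
      · linear_combination (-i) * hc
    constructor
    · have := main 1 0
      simpa only [w, zpow_one, zpow_zero, mul_one, mul_zero] using this
    · have := main 0 1
      simpa only [w, zpow_one, zpow_zero, one_mul, mul_zero, mul_one] using this
  have back : ∀ (d : G) (y : P) (n : ℤ), y ∈ Q' → f d * f (τ y) * (f d)⁻¹ = f (τ y) ^ n →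
      ∃ r ∈ R', d * τ y * d⁻¹ = τ (y ^ n * r) := by
    intro d y n _ he
    have h1 : f (τ (y ^ n))⁻¹ * f (d * τ y * d⁻¹) = 1 := by
      rw [map_mul, map_mul, map_inv, map_inv, he, ← map_zpow, ← map_zpow, inv_mul_cancel]
    rw [← map_mul] at h1
    obtain ⟨r, hr, hre⟩ := (QuotientGroup.eq_one_iff (N := R'.map τ) _).mp h1
    exact ⟨r, hr, by rw [map_mul τ, hre, mul_inv_cancel_left]⟩
  constructor
  · intro a ha
    obtain ⟨b, hb, hxb, hua⟩ := L'.pair_spec h hc' hM hSM hg hxu ha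
    exact back _ a m (L'.AQ ha) (core a ha b hb hxb hua).1
  · intro b hb
    obtain ⟨b', hb', ⟨r, hr, hxb⟩, hua⟩ :=
      L'.pair_spec h hc' hM hSM hg hxu (L'.quad x b (L'.mem_Q_of_cj h hb))
    refine back _ b k (L'.mem_Q_of_cj h hb) ?_
    -- `b' ≡ b` modulo `R'`
    have hbb : b'⁻¹ * b ∈ R' := by
      by_cases hxT : x ∈ T p τ
      · exfalso
        exact not_mem_of_pair h hM hSM hg hxu hxT
      refine L'.fixed h hg (mul_mem (inv_mem hb') hb) hxT (mem_of_mk_eq_one (R := R') h.inj ?_)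
      have h1 := congrArg (fun z => f (τ z)) hxb
      simp only [map_mul, map_inv] at h1
      rw [show f (τ r) = 1 from mk_eq_one hr, mul_one] at h1
      have hc1 := L'.mk_conj b' (L'.quad x b (L'.mem_Q_of_cj h hb))
      simp only [map_mul, map_inv] at hc1 h1 ⊢
      have h2 : f (τ x) * (f (τ b'))⁻¹ * (f (τ x))⁻¹ = (f (τ b'))⁻¹ *
          (f (τ x) * f (τ b) * (f (τ x))⁻¹ * (f (τ b))⁻¹)⁻¹ := by
        rw [← mul_inv_rev, ← h1]; group
      calc f (τ x) * ((f (τ b'))⁻¹ * f (τ b)) * (f (τ x))⁻¹ * ((f (τ b'))⁻¹ * f (τ b))⁻¹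
          = (f (τ x) * (f (τ b'))⁻¹ * (f (τ x))⁻¹) *
              (f (τ x) * f (τ b) * (f (τ x))⁻¹ * (f (τ b))⁻¹) * f (τ b') := by group
        _ = 1 := by rw [h2]; group
    have e : f (τ b') = f (τ b) := by
      have := mk_eq_one (τ := τ) (R := R') hbb
      simp only [map_mul, map_inv] at this
      exact inv_mul_eq_one.mp this
    rw [← e]
    exact (core _ (L'.quad x b (L'.mem_Q_of_cj h hb)) b' hb' ⟨r, hr, hxb⟩ hua).2

end Cfsg.Agent.PushingUp
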