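import Cfsg.Agent.Lib.PushingUp.Apply

/-!
Pushing up: `Z(S)` or `S_Φ` is normal; `Z(S) ∩ [Q,Q]` or `S_MCL` is normal.
-/

set_option autoImplicit false

open Subgroup Cfsg.Agent.CentrallyLarge
open scoped Pointwise commutatorElement

namespace Cfsg.Agent.PushingUp

variable {G : Type*} [Group G] [Finite G] {p : ℕ} [Fact p.Prime] {S : Subgroup G}

theorem exists_max_omega (p : ℕ) (P : Type*) [Group P] [Finite P] :
    ∃ Q : Subgroup P, Cfsg.IsMinimalCentrallyLarge Q ∧
      Nat.card ↥(Cfsg.omegaOneCenter p Q) = Cfsg.maxOmegaCenterOfMinimalCL p P := by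
  obtain ⟨Q, hQ⟩ := exists_minimal (P := P)
  exact Nat.sSup_mem (s := {k : ℕ | ∃ Q : Subgroup P, Cfsg.IsMinimalCentrallyLarge Q ∧
    Nat.card ↥(Cfsg.omegaOneCenter p Q) = k}) ⟨_, Q, hQ, rfl⟩
    (((Set.finite_range fun Q : Subgroup P => Nat.card ↥(Cfsg.omegaOneCenter p Q)).subset (by
      rintro k ⟨Q, -, rfl⟩; exact ⟨Q, rfl⟩)).bddAbove)

theorem omega_le_max {p : ℕ} {P : Type*} [Group P] [Finite P] {X : Subgroup P}
    (hX : Cfsg.IsMinimalCentrallyLarge X) :
    Nat.card ↥(Cfsg.omegaOneCenter p X) ≤ Cfsg.maxOmegaCenterOfMinimalCL p P :=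
  le_csSup (((Set.finite_range fun Q : Subgroup P => Nat.card ↥(Cfsg.omegaOneCenter p Q)).subset (by
      rintro k ⟨Q, -, rfl⟩; exact ⟨Q, rfl⟩)).bddAbove) ⟨X, hX, rfl⟩

theorem map_omegaOne {p : ℕ} {P H : Type*} [Group P] [Group H] {f : P →* H} (hf : Function.Injective f)
    (X : Subgroup P) : (Cfsg.omegaOne p X).map f = Cfsg.omegaOne p (X.map f) := by
  rw [Cfsg.omegaOne, MonoidHom.map_closure, Cfsg.omegaOne]
  congr 1
  ext a
  constructor
  · rintro ⟨b, ⟨hb, hbp⟩, rfl⟩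
    exact ⟨mem_map_of_mem f hb, by rw [← map_pow, hbp, map_one]⟩
  · rintro ⟨⟨b, hb, rfl⟩, hp⟩
    exact ⟨b, ⟨hb, hf (by rw [map_pow, hp, map_one])⟩, rfl⟩

theorem center_or_frattiniJoin_normal (hE : Cfsg.IsPushingUpSituation p S) :
    (S ⊓ centralizer (S : Set G)).Normal ∨ ((Cfsg.frattiniOfMinimalCLJoin p ↥S).map S.subtype).Normal := by
  refine or_iff_not_imp_left.mpr fun hn => ?_
  obtain ⟨hVle, hVC⟩ := closure_normal hE le_rfl hn
  set V := normalClosure ((S ⊓ centralizer (S : Set G) : Subgroup G) : Set G)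
  have hVab : IsMulCommutative V := (abelian_iff V).mpr ((hVle.trans inf_le_right).trans
    (centralizer_le (SetLike.coe_subset_coe.mpr (hVle.trans inf_le_left))))
  haveI := normal_omegaOne (p := p) V
  have hΩV : Cfsg.omegaOne p V ≤ V := (closure_le V).mpr fun x hx => hx.1
  have hb := orbitBound hE (Cfsg.omegaOne p V) (hΩV.trans hVle)
    (centralizer_omega_sup_ne_top hE V hVab
      ((Cores.isPGroup_pCore p G).to_le (hVle.trans inf_le_left)) hVC)
  set T' := (Cfsg.pCore p G).subgroupOf S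
  let J := {R : Subgroup ↥S // Cfsg.IsMinimalCentrallyLarge R ∧ R ≤ T' ∧
    Nat.card ↥(Cfsg.omegaOneCenter p R) = Cfsg.maxOmegaCenterOfMinimalCL p ↥S}
  have hfr : ∀ X : Subgroup ↥S, (frattini ↥X).map X.subtype = phi p X :=
    fun X => phi_eq_frattini ((isPGroup hE).to_subgroup X)
  have key : Cfsg.frattiniOfMinimalCLJoin p ↥S = ⨆ R : J, phi p R.1 := by
    refine le_antisymm (iSup_le fun Q => ?_) (iSup_le fun R => ?_)
    · obtain ⟨Q, hQ, hmz⟩ := Q
      have hVp : ∀ x ∈ (Cfsg.omegaOne p V).subgroupOf S, x ^ p = 1 := fun x hx =>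
        Subtype.ext ((mem_omegaOne ((abelian_iff V).mp hVab)).mp hx).2
      obtain ⟨h1, h2⟩ := omega_step hb hVp hQ (fun X hX => hmz ▸ omega_le_max hX)
      obtain ⟨hR, -, -, -, -⟩ := step hb hQ
      rw [hfr]
      refine le_trans ?_ (le_iSup (fun R : J => phi p R.1)
        ⟨_, hR, sup_le inf_le_right hb.1, h1.trans hmz⟩)
      refine (phi_mono h2.ge).trans ((phi_sup_le ?_ ?_).trans (phi_mono le_sup_left))
      · intro e he
        rw [omegaOneCenter_eq hQ.1] at he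
        exact ((mem_omegaOne ((CL.le hQ.1).trans (le_centralizer_iff.mp le_rfl))).mp he).2
      · rw [h2, omegaOneCenter_eq hQ.1]
        exact (closure_le _).mpr fun x hx => hx.1
    · rw [← hfr]
      exact le_iSup (fun Q : {Q : Subgroup ↥S // Cfsg.IsMinimalCentrallyLarge Q ∧
        Nat.card ↥(Cfsg.omegaOneCenter p Q) = Cfsg.maxOmegaCenterOfMinimalCL p ↥S} =>
          (frattini ↥(Q : Subgroup ↥S)).map (Q : Subgroup ↥S).subtype) ⟨R.1, R.2.1, R.2.2.2⟩
  rw [key, Subgroup.map_iSup]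
  refine normal_of_iSup _ fun R a => ?_
  obtain ⟨R', hR', hR'T, he1, he2⟩ := exists_conj hE R.2.1 R.2.2.1 a
  have hmz : Nat.card ↥(Cfsg.omegaOneCenter p R') = Cfsg.maxOmegaCenterOfMinimalCL p ↥S := by
    rw [← R.2.2.2, omegaOneCenter_eq hR'.1, omegaOneCenter_eq R.2.1.1,
      ← card_map_of_injective (K := Cfsg.omegaOne p (centralizer (R' : Set ↥S))) (f := S.subtype)
        (subtype_injective S),
      ← card_map_of_injective (K := Cfsg.omegaOne p (centralizer (R.1 : Set ↥S))) (f := S.subtype)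
        (subtype_injective S),
      map_omegaOne (subtype_injective S), map_omegaOne (subtype_injective S), he2,
      ← map_omegaOne (MulAut.conj a).injective, card_map_of_injective (MulAut.conj a).injective]
  rw [map_phi, map_phi, ← he1, ← map_phi]
  exact le_iSup (fun R : J => (phi p R.1).map S.subtype) ⟨R', hR', hR'T, hmz⟩

theorem derived_eq (hS : IsPGroup p S) {Q R : Subgroup ↥S} (hQ : Cfsg.IsMinimalCentrallyLarge Q)
    (hR : Cfsg.IsMinimalCentrallyLarge R) : ⁅Q, Q⁆ = ⁅R, R⁆ :=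
  (S3007.result ↥S hS Q R hQ hR).2.1

theorem characteristic_derived (hS : IsPGroup p S) {Q : Subgroup ↥S}
    (hQ : Cfsg.IsMinimalCentrallyLarge Q) : (⁅Q, Q⁆).Characteristic := by
  rw [characteristic_iff_map_eq]
  intro φ
  rw [map_commutator]
  refine (derived_eq hS hQ (minimal_of_data hQ (R' := Q.map φ.toMonoidHom)
    (C' := (centralizer (Q : Set ↥S)).map φ.toMonoidHom) (card_map_of_injective φ.injective)
    (card_map_of_injective φ.injective) ?_ (Subgroup.map_mono (CL.le hQ.1))).1).symm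
  rintro _ ⟨x, hx, rfl⟩ _ ⟨y, hy, rfl⟩
  rw [← map_mul, ← map_mul, hx y hy]

theorem centerDerived_or_join_normal (hE : Cfsg.IsPushingUpSituation p S) {Q : Subgroup ↥S}
    (hQ : Cfsg.IsMinimalCentrallyLarge Q) :
    ((S ⊓ centralizer (S : Set G)) ⊓ (⁅Q, Q⁆).map S.subtype).Normal ∨
      ((Cfsg.minimalCentrallyLargeJoin ↥S).map S.subtype).Normal := by
  refine or_iff_not_imp_left.mpr fun hn => ?_
  obtain ⟨hVle, hVC⟩ := closure_normal hE inf_le_left hn
  set Z₀ := (S ⊓ centralizer (S : Set G)) ⊓ (⁅Q, Q⁆).map S.subtype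
  set V := normalClosure (Z₀ : Set G)
  have hb := orbitBound hE V hVle hVC
  set T' := (Cfsg.pCore p G).subgroupOf S
  obtain ⟨hR, -, -, -, -⟩ := step hb hQ
  set R := (Q ⊓ T') ⊔ V.subgroupOf S
  have hRT : R ≤ T' := sup_le inf_le_right hb.1
  have hD : ((⁅Q, Q⁆).map S.subtype).Normal := by
    refine ⟨fun w hw a => ?_⟩
    obtain ⟨R', hR', -, he, -⟩ := exists_conj hE hR hRT a
    have h1 : (MulAut.conj a).toMonoidHom w ∈
        ((⁅R, R⁆).map S.subtype).map (MulAut.conj a).toMonoidHom :=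
      mem_map_of_mem _ (derived_eq (isPGroup hE) hQ hR ▸ hw)
    rw [map_commutator, map_commutator, ← he, ← map_commutator] at h1
    rw [derived_eq (isPGroup hE) hQ hR']
    exact h1
  have hVD : V.subgroupOf S ≤ ⁅Q, Q⁆ := fun x hx => by
    obtain ⟨y, hy, he⟩ := (normalClosure_le_normal (N := (⁅Q, Q⁆).map S.subtype)
      (fun z hz => hz.2)) hx
    rwa [← show y = x from Subtype.ext he]
  have hall : ∀ X : Subgroup ↥S, Cfsg.IsMinimalCentrallyLarge X → X ≤ T' := by
    intro X hX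
    obtain ⟨-, -, hXeq, hVX, hcard⟩ := step hb hX
    have hVXle : V.subgroupOf S ≤ X :=
      hVD.trans ((derived_eq (isPGroup hE) hQ hX).le.trans X.commutator_le_self)
    have hVZ : V.subgroupOf S ⊓ centralizer (X : Set ↥S) = V.subgroupOf S :=
      hVX.symm.trans (inf_eq_left.mpr hVXle)
    rw [hVZ] at hcard
    have hZT := eq_of_card _ _ (inf_le_left : centralizer (X : Set ↥S) ⊓ T' ≤ _)
      (Nat.eq_of_mul_eq_mul_right Nat.card_pos hcard).le
    rw [← hXeq]
    exact sup_le inf_le_right (hZT ▸ inf_le_right)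
  rw [Cfsg.minimalCentrallyLargeJoin, sSup_eq_iSup', Subgroup.map_iSup]
  refine normal_of_iSup _ fun X a => ?_
  obtain ⟨X', hX', -, he, -⟩ := exists_conj hE X.2 (hall _ X.2) a
  rw [← he]
  exact le_iSup (fun X : {X : Subgroup ↥S | Cfsg.IsMinimalCentrallyLarge X} => X.1.map S.subtype) ⟨X', hX'⟩

end Cfsg.Agent.PushingUp
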