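import Cfsg.Agent.Lib.PushingUp.Distance

/-!
`U` normal in one group and not in the other is impossible.

* `Pair.triv_T`: if `U` is normal in `G'`, the `p'`-elements act trivially on `T' / Y'`.
* `Pair.mixed`: so `U` is normal in both or in neither.
-/

set_option autoImplicit false

open Subgroup Cfsg.Agent.CentrallyLarge
open scoped Pointwise commutatorElement

namespace Cfsg.Agent.PushingUp

open Real

variable {P : Type*} [Group P] [Finite P] {G : Type*} [Group G] [Finite G] {G' : Type*} [Group G']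
  [Finite G'] {p : ℕ} [Fact p.Prime] {τ : P →* G} {τ' : P →* G'}

/-- An element inverting `z` and `c` and its commutator with `l` centralise `z`. -/
theorem commutes_of_inverting {H : Type*} [Group H] {d l z c : H} (hz : d * z * d⁻¹ = z⁻¹)
    (hc : d * c * d⁻¹ = c⁻¹) (hlz : l * z * l⁻¹ = z * c) (hlc : l * c * l⁻¹ = c) (hzc : z * c = c * z) :
    (d * l * d⁻¹ * l⁻¹) * z * (d * l * d⁻¹ * l⁻¹)⁻¹ = z := by
  have h1 : l⁻¹ * z * l = z * c⁻¹ := by
    have h2 : l * (z * c⁻¹) * l⁻¹ = z := by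
      calc l * (z * c⁻¹) * l⁻¹ = (l * z * l⁻¹) * (l * c * l⁻¹)⁻¹ := by group
        _ = z := by rw [hlz, hlc, mul_inv_cancel_right]
    calc l⁻¹ * z * l = l⁻¹ * (l * (z * c⁻¹) * l⁻¹) * l := by rw [h2]
      _ = _ := by group
  have h3 : d⁻¹ * z * d = z⁻¹ := by
    calc d⁻¹ * z * d = d⁻¹ * (d * z * d⁻¹)⁻¹ * d := by rw [hz, inv_inv]
      _ = z⁻¹ := by group
  have h4 : d⁻¹ * c * d = c⁻¹ := by
    calc d⁻¹ * c * d = d⁻¹ * (d * c * d⁻¹)⁻¹ * d := by rw [hc, inv_inv]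
      _ = c⁻¹ := by group
  calc (d * l * d⁻¹ * l⁻¹) * z * (d * l * d⁻¹ * l⁻¹)⁻¹
      = d * (l * (d⁻¹ * (l⁻¹ * z * l) * d) * l⁻¹) * d⁻¹ := by group
    _ = d * (l * ((d⁻¹ * z * d) * (d⁻¹ * c * d)⁻¹) * l⁻¹) * d⁻¹ := by rw [h1]; group
    _ = d * ((l * z * l⁻¹)⁻¹ * (l * c * l⁻¹)) * d⁻¹ := by rw [h3, h4]; group
    _ = (d * z * d⁻¹)⁻¹ := by rw [hlz, hlc, hzc]; group
    _ = z := by rw [hz, inv_inv]

/-- An element lies in a subgroup if its `p`- and `p'`-powers do. -/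
theorem mem_of_parts {H : Type*} [Group H] [Finite H] {p : ℕ} [Fact p.Prime] (N : Subgroup H) (k : H)
    (h1 : ∀ n : ℕ, (orderOf (k ^ n)).Coprime p → k ^ n ∈ N)
    (h2 : ∀ n a : ℕ, (k ^ n) ^ p ^ a = 1 → k ^ n ∈ N) : k ∈ N := by
  obtain ⟨a, r, hr, hord⟩ :=
    Nat.exists_eq_pow_mul_and_not_dvd (orderOf_pos k).ne' p (Fact.out : p.Prime).ne_one
  have hA : k ^ p ^ a ∈ N := by
    refine h1 _ ?_
    rw [orderOf_pow' _ (pow_ne_zero _ (Fact.out : p.Prime).ne_zero), hord, Nat.gcd_mul_right_left,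
      Nat.mul_div_cancel_left _ (pow_pos (Fact.out : p.Prime).pos a)]
    exact ((Fact.out : p.Prime).coprime_iff_not_dvd.mpr hr).symm
  have hB : k ^ r ∈ N := h2 r a (by rw [← pow_mul, mul_comm, ← hord, pow_orderOf_eq_one])
  obtain ⟨u, v, huv⟩ : IsCoprime ((p : ℤ) ^ a) (r : ℤ) := by
    refine IsCoprime.pow_left ?_
    exact Nat.isCoprime_iff_coprime.mpr ((Fact.out : p.Prime).coprime_iff_not_dvd.mpr hr)
  have h3 : k = (k ^ p ^ a) ^ u * (k ^ r) ^ v := by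
    rw [← zpow_natCast, ← zpow_mul, ← zpow_natCast k r, ← zpow_mul, ← zpow_add, Nat.cast_pow,
      mul_comm _ u, mul_comm _ v, huv, zpow_one]
  rw [h3]
  exact mul_mem (zpow_mem hA u) (zpow_mem hB v)

namespace Pair

theorem map_X (h : Pair p τ τ') :
    (T p τ ⊓ T p τ').map τ =
      Cfsg.pCore p G ⊓ centralizer (((Y p τ ⊔ Y p τ').map τ : Subgroup G) : Set G) := by
  refine le_antisymm ?_ ?_
  · rintro _ ⟨x, hx, rfl⟩
    refine ⟨mem_T.mp hx.1, ?_⟩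
    rintro _ ⟨w, hw, rfl⟩
    rw [← map_mul, ← map_mul, h.centralizer_U.ge hx w hw]
  · rintro a ⟨ha, hac⟩
    obtain ⟨x, rfl⟩ := h.left.core_le ha
    refine mem_map_of_mem τ (h.centralizer_U.le fun w hw => h.left.inj ?_)
    rw [map_mul, map_mul]
    exact hac _ (mem_map_of_mem τ hw)

theorem U_comm_central (h : Pair p τ τ') (hN : ((Y p τ ⊔ Y p τ').map τ').Normal) {w t : P}
    (hw : w ∈ Y p τ ⊔ Y p τ') (ht : t ∈ T p τ') : w * t * w⁻¹ * t⁻¹ ∈ Zg τ' := by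
  have hr := h.right
  obtain ⟨g', hg'⟩ := PushingUp.exists_Gen hr.sit
  rw [← hr.center_inf_cj hg']
  refine ⟨h.U_quad' hw t, ?_⟩
  obtain ⟨w₀, hw₀, hew⟩ := hN.conj_mem _ (mem_map_of_mem τ' hw) g'⁻¹
  obtain ⟨t₀, -, het⟩ := Real.exists_conj hr.core_le g'⁻¹ ht
  refine mem_cj.mpr ⟨w₀ * t₀ * w₀⁻¹ * t₀⁻¹, h.U_quad' hw₀ t₀, ?_⟩
  simp only [map_mul, map_inv, hew, ← het]
  group

theorem triv_T (h : Pair p τ τ') (hn : ¬ ((Y p τ ⊔ Y p τ').map τ).Normal)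
    (hN : ((Y p τ ⊔ Y p τ').map τ').Normal) : Triv p τ' (T p τ') := by
  have hl := h.left
  have hr := h.right
  obtain ⟨g, hg⟩ := PushingUp.exists_Gen hl.sit
  have hW := h.moved hn hg
  obtain ⟨l, hlW, hlT⟩ := h.exists_W hW
  have htU : Triv p τ' (Y p τ ⊔ Y p τ') :=
    triv_of_elem hr hN hlT fun w hw => Side.center_le_Y (h.U_quad hw l)
  have hXn : ((T p τ' ⊓ T p τ).map τ').Normal := by
    rw [h.symm.map_X]
    haveI := hN
    haveI := Cores.pCore_normal p G'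
    rw [sup_comm (Y p τ') (Y p τ)]
    infer_instance
  have htX : Triv p τ' (T p τ' ⊓ T p τ) := by
    refine triv_of_elem hr hXn hlT fun x hx => ?_
    obtain ⟨y', hy', k, -, hk, rfl⟩ := h.moved_X hW (x := x) ⟨hx.2, hx.1⟩
    have hcl : Commute l k := hk l hlW
    rw [show l * (y' * k) * l⁻¹ * (y' * k)⁻¹ = l * y' * (k * l⁻¹) * k⁻¹ * y'⁻¹ by group, ← hcl.inv_left.eq,
      show l * y' * (l⁻¹ * k) * k⁻¹ * y'⁻¹ = l * y' * l⁻¹ * y'⁻¹ by group]
    exact Side.center_le_Y (h.right.quad hy' l)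
  intro x hx t ht
  obtain ⟨t', ht', he⟩ := Real.exists_conj hr.core_le x ht
  have hm : t⁻¹ * t' ∈ T p τ ⊓ T p τ' := by
    rw [← h.centralizer_U]
    intro d hd
    obtain ⟨y₁, hy₁, hey⟩ := htU x hx d hd
    have hy₁t : t' * y₁ = y₁ * t' := hy₁ t' ht'
    have e1 : τ' (d * t' * d⁻¹ * t'⁻¹) = τ' (d * t * d⁻¹ * t⁻¹) := by
      calc τ' (d * t' * d⁻¹ * t'⁻¹) = τ' ((d * y₁) * t' * (d * y₁)⁻¹ * t'⁻¹) := by
            congr 1
            rw [show d * y₁ * t' * (d * y₁)⁻¹ = d * (y₁ * t' * y₁⁻¹) * d⁻¹ by group, ← hy₁t,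
              mul_inv_cancel_right]
        _ = x * τ' (d * t * d⁻¹ * t⁻¹) * x⁻¹ := by
            simp only [map_mul, map_inv, ← he]
            rw [← map_mul τ' d y₁, ← hey]
            group
        _ = _ := Side.mem_cj_Zg x (h.U_comm_central hN hd ht)
    have e2 := hr.inj e1
    have e3 : t' * d⁻¹ * t'⁻¹ = t * d⁻¹ * t⁻¹ := by
      have := congrArg (fun z => d⁻¹ * z) e2
      simpa [mul_assoc] using this
    have e4 : Commute (t⁻¹ * t') d⁻¹ := by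
      show t⁻¹ * t' * d⁻¹ = d⁻¹ * (t⁻¹ * t')
      calc t⁻¹ * t' * d⁻¹ = t⁻¹ * (t' * d⁻¹ * t'⁻¹) * t' := by group
        _ = t⁻¹ * (t * d⁻¹ * t⁻¹) * t' := by rw [e3]
        _ = _ := by group
    simpa using e4.inv_right.eq.symm
  obtain ⟨y, hy, hey⟩ := htX x hx (t⁻¹ * t') ⟨hm.2, hm.1⟩
  haveI := hr.core.2.1
  let f := QuotientGroup.mk' ((Y p τ').map τ')
  obtain ⟨a, ha⟩ := (hr.isP.to_subgroup (T p τ' ⊓ T p τ)) ⟨t⁻¹ * t', hm.2, hm.1⟩
  have h1 : f (τ' (t⁻¹ * t')) = 1 := by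
    refine coprime_stab (c := f x) (x := f (τ' t)) hx
      (by rw [← map_pow, pow_orderOf_eq_one, map_one]) ?_ ?_ (a := a) ?_
    · rw [← map_inv, ← map_mul, ← map_mul, hey, map_mul τ', map_mul f, mk_eq_one hy, mul_one]
    · rw [← map_inv, ← map_mul, ← map_mul, he, ← map_mul, ← map_mul, mul_inv_cancel_left]
    · rw [← map_pow, ← map_pow, show (t⁻¹ * t') ^ p ^ a = 1 from congrArg Subtype.val ha, map_one, map_one]
  exact ⟨t⁻¹ * t', mem_of_mk_eq_one (R := Y p τ') hr.inj h1, by rw [mul_inv_cancel_left]; exact he⟩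

theorem mixed_two (h : Pair p τ τ') (hn : ¬ ((Y p τ ⊔ Y p τ').map τ).Normal)
    (hN : ((Y p τ ⊔ Y p τ').map τ').Normal) (hp : p = 2) : False := by
  obtain ⟨g, hg⟩ := PushingUp.exists_Gen h.left.sit
  have hW := h.moved hn hg
  obtain ⟨-, -, -, hWT⟩ := h.cj_U g
  obtain ⟨t, ht, htT⟩ := h.exists_right
  refine h.not_commute hn hg htT fun l hl => h.mem_centralizer_of_test hW ht hl ?_
  set w := t * l * t⁻¹ * l⁻¹ with hw
  have hl2 : l⁻¹ = l := by
    have h1 := h.W_pow hl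
    rw [hp, sq] at h1
    exact inv_eq_of_mul_eq_one_left h1
  have hwX : w ∈ T p τ ⊓ T p τ' := h.mem_X_of_comm ht (hWT hl)
  have e : l * w * l⁻¹ * w⁻¹ = (w ^ p)⁻¹ := by
    have e1 : l * w * l⁻¹ = w⁻¹ := by
      have hll : l * l = 1 := by
        nth_rw 1 [← hl2]
        exact inv_mul_cancel l
      calc l * w * l⁻¹ = l * t * l * t⁻¹ * (l * l)⁻¹ := by simp only [hw]; group
        _ = l * t * l * t⁻¹ := by rw [hll, inv_one, mul_one]
        _ = l * t * l⁻¹ * t⁻¹ := by rw [hl2]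
        _ = w⁻¹ := by simp only [hw]; group
    rw [e1, hp, sq, mul_inv_rev w w]
  rw [e]
  refine phi_inf_center_le h.right le_rfl (h.triv_T hn hN)
    ⟨(phi p (T p τ')).inv_mem (subset_closure (Or.inl ⟨w, hwX.2, rfl⟩)), ?_⟩
  rw [← e]
  obtain ⟨y', hy', k, -, hk, hwk⟩ := h.moved_X hW hwX
  rw [← hwk]
  have hcl : Commute l k := hk l hl
  rw [show l * (y' * k) * l⁻¹ * (y' * k)⁻¹ = l * y' * (k * l⁻¹) * k⁻¹ * y'⁻¹ by group, ← hcl.inv_left.eq,
    show l * y' * (l⁻¹ * k) * k⁻¹ * y'⁻¹ = l * y' * l⁻¹ * y'⁻¹ by group]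
  exact h.right.quad hy' l

theorem exists_inverting (h : Side p τ) (hp : p ≠ 2) :
    ∃ d : G, (orderOf d).Coprime p ∧
      ∀ y ∈ Y p τ, ∃ r ∈ Zg τ, d * τ y * d⁻¹ = τ (y⁻¹ * r) := by
  obtain ⟨L, hc⟩ := h.moduleLayer
  obtain ⟨g, hg⟩ := PushingUp.exists_Gen h.sit
  obtain ⟨d₀, hd₀⟩ := exists_torus h hg L hc.le h.center_not_le_Zg (m := -1) (k := -1) (by norm_num)
  obtain ⟨hA, hB⟩ := hd₀ _ _ _ L hc.le
  have hall : ∀ y ∈ Y p τ, ∃ r ∈ Zg τ, d₀ * τ y * d₀⁻¹ = τ (y⁻¹ * r) := by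
    intro y hy
    obtain ⟨a, ha, b, hb, rfl⟩ := L.cover g hg y hy
    obtain ⟨r, hr, he⟩ := hA a ha
    obtain ⟨r', hr', he'⟩ := hB b hb
    refine ⟨r * r', mul_mem hr hr', ?_⟩
    have hra : ∀ z : P, r * z = z * r := fun z => (mem_center_iff.mp (h.Zg_le_center hr) z).symm
    calc d₀ * τ (a * b) * d₀⁻¹ = (d₀ * τ a * d₀⁻¹) * (d₀ * τ b * d₀⁻¹) := by rw [map_mul]; group
      _ = τ ((a * b)⁻¹ * (r * r')) := by
        rw [he, he', ← map_mul, zpow_neg_one, zpow_neg_one]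
        congr 1
        calc a⁻¹ * r * (b⁻¹ * r') = a⁻¹ * (r * b⁻¹) * r' := by group
          _ = a⁻¹ * b⁻¹ * (r * r') := by rw [hra b⁻¹]; group
          _ = _ := by
            have hcm : a⁻¹ * b⁻¹ = b⁻¹ * a⁻¹ := (mem_center_iff.mp (inv_mem ha) b⁻¹).symm
            rw [hcm, mul_inv_rev]
  -- odd powers still invert
  have hodd : ∀ j : ℕ, ∀ y ∈ Y p τ, ∃ r ∈ Zg τ, d₀ ^ (2 * j + 1) * τ y * (d₀ ^ (2 * j + 1))⁻¹ = τ (y⁻¹ * r) := by
    intro j
    induction j with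
    | zero => simpa using hall
    | succ j ih =>
      intro y hy
      obtain ⟨r, hr, he⟩ := ih y hy
      obtain ⟨r₁, hr₁, he₁⟩ := hall _ (mul_mem (inv_mem hy) (Side.center_le_Y (h.Zg_le_center hr)))
      obtain ⟨r₂, hr₂, he₂⟩ := hall _
        (mul_mem (inv_mem (mul_mem (inv_mem hy) (Side.center_le_Y (h.Zg_le_center hr))))
          (Side.center_le_Y (h.Zg_le_center hr₁)))
      refine ⟨r * r₁⁻¹ * r₂, mul_mem (mul_mem hr (inv_mem hr₁)) hr₂, ?_⟩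
      have e : d₀ ^ (2 * (j + 1) + 1) * τ y * (d₀ ^ (2 * (j + 1) + 1))⁻¹ =
          d₀ * (d₀ * (d₀ ^ (2 * j + 1) * τ y * (d₀ ^ (2 * j + 1))⁻¹) * d₀⁻¹) * d₀⁻¹ := by
        rw [show 2 * (j + 1) + 1 = 1 + 1 + (2 * j + 1) by ring, pow_add, pow_add, pow_one]
        group
      rw [e, he, he₁, he₂]
      congr 1
      have hc1 : ∀ z : P, r₁⁻¹ * z = z * r₁⁻¹ := fun z =>
        (mem_center_iff.mp (inv_mem (h.Zg_le_center hr₁)) z).symm
      calc ((y⁻¹ * r)⁻¹ * r₁)⁻¹ * r₂ = r₁⁻¹ * (y⁻¹ * r) * r₂ := by group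
        _ = _ := by rw [hc1]; group
  obtain ⟨a, r, hr, hord⟩ := Nat.exists_eq_pow_mul_and_not_dvd (orderOf_pos d₀).ne' p (Fact.out : p.Prime).ne_one
  obtain ⟨j, hj⟩ : Odd (p ^ a) := ((Fact.out : p.Prime).odd_of_ne_two hp).pow
  refine ⟨d₀ ^ p ^ a, ?_, fun y hy => hj ▸ hodd j y hy⟩
  rw [orderOf_pow' _ (pow_ne_zero _ (Fact.out : p.Prime).ne_zero), hord, Nat.gcd_mul_right_left,
    Nat.mul_div_cancel_left _ (pow_pos (Fact.out : p.Prime).pos a)]
  exact ((Fact.out : p.Prime).coprime_iff_not_dvd.mpr hr).symm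

theorem mixed_odd (h : Pair p τ τ') (hn : ¬ ((Y p τ ⊔ Y p τ').map τ).Normal)
    (hN : ((Y p τ ⊔ Y p τ').map τ').Normal) (hp : p ≠ 2) : False := by
  have hr := h.right
  obtain ⟨g, hg⟩ := PushingUp.exists_Gen h.left.sit
  have hW := h.moved hn hg
  obtain ⟨-, -, -, hWT⟩ := h.cj_U g
  have htr := h.triv_T hn hN
  obtain ⟨d, hdo, hd⟩ := exists_inverting hr hp
  obtain ⟨t₀, ht₀, ht₀T⟩ := h.exists_right
  obtain ⟨y, hy, hdy⟩ := htr d hdo t₀ ht₀
  obtain ⟨e, he⟩ : ∃ e : ℕ, p + 1 = 2 * e := ⟨(p + 1) / 2, by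
    have := (Fact.out : p.Prime).odd_of_ne_two hp
    obtain ⟨c, hc⟩ := this
    omega⟩
  set t := t₀ * y ^ e
  have htT' : t ∈ T p τ' := mul_mem ht₀ (pow_mem (hr.centralizer_T_le hy) e)
  have htT : t ∉ T p τ := fun hm => ht₀T (by
    simpa [t] using (T p τ).mul_mem hm ((T p τ).inv_mem (pow_mem (h.nc hy) e)))
  -- the subgroup used as a modulus
  set M := phi p (T p τ') ⊔ Zg τ'
  have hMT : M ≤ T p τ' := sup_le (by
    rw [phi, closure_le]
    rintro a (⟨s, hs, rfl⟩ | ⟨s, hs, r, hr', rfl⟩)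
    · exact pow_mem hs p
    · exact mul_mem (mul_mem (mul_mem hs hr') (inv_mem hs)) (inv_mem hr'))
    (hr.Zg_le_center.trans (Side.center_le_Y.trans hr.centralizer_T_le))
  haveI hMn : (M.map τ').Normal := by
    haveI := Zg_normal τ'
    haveI : ((phi p (T p τ')).map τ').Normal := by
      refine ⟨fun a ha k => ?_⟩
      rw [map_phi, T, map_comap_eq_self hr.core_le] at ha ⊢
      have hle : phi p (Cfsg.pCore p G') ≤ (phi p (Cfsg.pCore p G')).comap (MulAut.conj k).toMonoidHom := by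
        rw [← Subgroup.map_le_iff_le_comap, map_phi]
        refine phi_mono ?_
        rintro _ ⟨b, hb, rfl⟩
        exact Real.conj_mem_core k hb
      exact hle ha
    rw [Subgroup.map_sup]
    infer_instance
  let f := QuotientGroup.mk' (M.map τ')
  have hfd : f d * f (τ' t) * (f d)⁻¹ = f (τ' t) := by
    obtain ⟨r, hrz, her⟩ := hd y hy
    have hy2 : y * (y⁻¹ * r) ^ e = y ^ e * r ^ e := by
      rw [(show Commute y⁻¹ r from mem_center_iff.mp (hr.Zg_le_center hrz) _).mul_pow, ← mul_assoc]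
      congr 1
      have h1 : y ^ (2 * e) = y := by rw [← he, pow_succ, hr.pow_eq_one hy, one_mul]
      rw [inv_pow, mul_inv_eq_iff_eq_mul, ← pow_add, ← two_mul]
      exact h1.symm
    have h1 : d * τ' t * d⁻¹ = τ' (t * r ^ e) := by
      calc d * τ' t * d⁻¹ = (d * τ' t₀ * d⁻¹) * (d * τ' y * d⁻¹) ^ e := by
            rw [conj_pow, map_mul, map_pow]; group
        _ = τ' (t₀ * (y * (y⁻¹ * r) ^ e)) := by rw [hdy, her, ← map_pow, ← map_mul, mul_assoc]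
        _ = _ := by rw [hy2, ← mul_assoc]
    rw [← map_inv, ← map_mul, ← map_mul, h1, map_mul τ', map_mul f,
      mk_eq_one (τ := τ') (R := M) (mem_sup_right (pow_mem hrz e)), mul_one]
  refine h.not_commute hn hg htT fun l hl => h.mem_centralizer_of_test hW htT' hl ?_
  set w := t * l * t⁻¹ * l⁻¹ with hw
  have hwX : w ∈ T p τ ⊓ T p τ' := h.mem_X_of_comm htT' (hWT hl)
  haveI := Zg_normal τ'
  haveI := hr.core.2.1
  let f₀ := QuotientGroup.mk' ((Zg τ').map τ')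
  let N₀ := (centralizer ((((Y p τ').map τ').map f₀ : Subgroup _) : Set (G' ⧸ (Zg τ').map τ'))).comap f₀
  haveI : (((Y p τ').map τ').map f₀).Normal :=
    Subgroup.Normal.map hr.core.2.1 f₀ (QuotientGroup.mk'_surjective _)
  haveI hN₀ : N₀.Normal := Subgroup.normal_comap f₀
  have hmem₀ : ∀ k : G', k ∈ N₀ → ∀ z ∈ Y p τ', f₀ k * f₀ (τ' z) = f₀ (τ' z) * f₀ k :=
    fun k hk z hz => (hk _ (mem_map_of_mem f₀ (mem_map_of_mem τ' hz))).symm
  have hinv₀ : ∀ z ∈ Y p τ', f₀ d * f₀ (τ' z) * (f₀ d)⁻¹ = (f₀ (τ' z))⁻¹ := by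
    intro z hz
    obtain ⟨r, hrz, he'⟩ := hd z hz
    rw [← map_inv, ← map_mul, ← map_mul, he', map_mul τ', map_mul f₀, mk_eq_one (τ := τ') (R := Zg τ') hrz,
      mul_one, map_inv, map_inv]
  -- `d l d⁻¹ l⁻¹` centralises the module
  set κ := d * τ' l * d⁻¹ * (τ' l)⁻¹ with hκ
  have hκ₀ : κ ∈ N₀ := by
    rintro _ ⟨_, ⟨z, hz, rfl⟩, rfl⟩
    set c := l * z * l⁻¹ * z⁻¹ with hc'
    have hc : c ∈ center P := hr.quad hz l
    have hlz : f₀ (τ' l) * f₀ (τ' z) * (f₀ (τ' l))⁻¹ = f₀ (τ' z) * f₀ (τ' c) := by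
      simp only [← map_inv, ← map_mul]
      congr 2
      rw [mem_center_iff.mp hc z, hc']
      group
    have hlc : f₀ (τ' l) * f₀ (τ' c) * (f₀ (τ' l))⁻¹ = f₀ (τ' c) := by
      simp only [← map_inv, ← map_mul]
      rw [mem_center_iff.mp hc l, mul_inv_cancel_right]
    have hzc : f₀ (τ' z) * f₀ (τ' c) = f₀ (τ' c) * f₀ (τ' z) := by
      simp only [← map_mul]
      rw [mem_center_iff.mp hc z]
    have h2 := commutes_of_inverting (hinv₀ z hz) (hinv₀ c (Side.center_le_Y hc)) hlz hlc hzc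
    rw [mul_inv_eq_iff_eq_mul] at h2
    simpa only [hκ, map_mul, map_inv] using h2.symm
  -- so it centralises `T' / M`
  let Nc := (centralizer ((((T p τ').map τ').map f : Subgroup _) : Set (G' ⧸ M.map τ'))).comap f
  have hκc : κ ∈ Nc := by
    refine mem_of_parts (p := p) Nc κ (fun n hn' => ?_) (fun n a hn' => ?_)
    · rintro _ ⟨_, ⟨s, hs, rfl⟩, rfl⟩
      obtain ⟨z, hz, hez⟩ := htr _ hn' s hs
      have hk0 : κ ^ n ∈ N₀ := pow_mem hκ₀ n
      have hkz : κ ^ n * τ' z * (κ ^ n)⁻¹ * (τ' z)⁻¹ ∈ (Zg τ').map τ' := by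
        refine (QuotientGroup.eq_one_iff (N := (Zg τ').map τ') _).mp ?_
        show f₀ (κ ^ n * τ' z * (κ ^ n)⁻¹ * (τ' z)⁻¹) = 1
        rw [map_mul, map_mul, map_mul, map_inv, map_inv, hmem₀ _ hk0 z hz, mul_inv_cancel_right,
          mul_inv_cancel]
      obtain ⟨r, hrz, hre⟩ := hkz
      have h3 : f (κ ^ n) * f (τ' z) * (f (κ ^ n))⁻¹ = f (τ' z) := by
        rw [← map_inv, ← map_mul, ← map_mul,
          show κ ^ n * τ' z * (κ ^ n)⁻¹ = τ' r * τ' z by rw [hre]; group, map_mul,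
          mk_eq_one (τ := τ') (R := M) (mem_sup_right hrz), one_mul]
      have h4 : f (τ' z) = 1 := by
        refine coprime_stab (c := f (κ ^ n)) (x := f (τ' s)) hn'
          (by rw [← map_pow, pow_orderOf_eq_one, map_one]) h3 ?_ (a := 1) ?_
        · rw [← map_inv, ← map_mul, ← map_mul, hez, map_mul τ', map_mul f]
        · rw [pow_one, ← map_pow, ← map_pow, hr.pow_eq_one hz, map_one, map_one]
      have h5 : f (κ ^ n) * f (τ' s) * (f (κ ^ n))⁻¹ = f (τ' s) := by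
        rw [← map_inv, ← map_mul, ← map_mul, hez, map_mul τ', map_mul f, h4, mul_one]
      exact (mul_inv_eq_iff_eq_mul.mp h5).symm
    · obtain ⟨-, ⟨Q, hQ⟩, -⟩ := id hr.sit
      have hpg : IsPGroup p ↥(zpowers (κ ^ n)) := by
        intro x
        refine ⟨a, Subtype.ext ?_⟩
        obtain ⟨i, hi⟩ := mem_zpowers_iff.mp x.2
        show (x : G') ^ p ^ a = 1
        rw [← hi, ← zpow_natCast, ← zpow_mul, mul_comm i, zpow_mul, zpow_natCast, hn', one_zpow]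
      obtain ⟨Q', hQ'⟩ := hpg.exists_le_sylow
      obtain ⟨k, hk⟩ := MulAction.exists_smul_eq G' Q Q'
      have hmem : k⁻¹ * κ ^ n * k ∈ τ'.range := by
        have h1 : κ ^ n ∈ ((k • Q : Sylow p G') : Subgroup G') := by rw [hk]; exact hQ' (mem_zpowers _)
        rw [Sylow.coe_subgroup_smul, Subgroup.mem_pointwise_smul_iff_inv_smul_mem, ← map_inv, hQ,
          MulAut.smul_def, MulAut.conj_apply, inv_inv] at h1
        exact h1
      obtain ⟨s, hs⟩ := hmem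
      have hsN : τ' s ∈ N₀ := by rw [hs]; simpa using hN₀.conj_mem _ (pow_mem hκ₀ n) k⁻¹
      have hsT : s ∈ T p τ' := by
        by_contra hsT
        obtain ⟨z, hz, hzc⟩ := h.exists_noncentral
        refine hzc (hr.mem_center_of_mod hsT hz (mem_of_mk_eq_one (R := Zg τ') hr.inj ?_))
        show f₀ (τ' (s * z * s⁻¹ * z⁻¹)) = 1
        simp only [map_mul, map_inv]
        rw [hmem₀ _ hsN z hz, mul_inv_cancel_right, mul_inv_cancel]
      have hcore : κ ^ n ∈ Cfsg.pCore p G' := by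
        have h1 := Real.conj_mem_core k (mem_T.mp hsT)
        rw [hs] at h1
        simpa [mul_assoc] using h1
      obtain ⟨t₁, ht₁⟩ := hr.core_le hcore
      rintro _ ⟨_, ⟨s₂, hs₂, rfl⟩, rfl⟩
      rw [← ht₁]
      have h6 : f (τ' ⁅s₂, t₁⁆) = 1 := mk_eq_one (τ := τ') (R := M)
        (mem_sup_left (subset_closure (Or.inr ⟨s₂, hs₂, t₁, by rw [mem_T, ht₁]; exact hcore, rfl⟩)))
      simp only [commutatorElement_def, map_mul, map_inv] at h6
      rw [mul_inv_eq_one, mul_inv_eq_iff_eq_mul] at h6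
      exact h6
  have hκT : ∀ s ∈ T p τ', Commute (f κ) (f (τ' s)) := fun s hs =>
    (hκc _ (mem_map_of_mem f (mem_map_of_mem τ' hs))).symm
  have hfl : f d * f (τ' l) * (f d)⁻¹ = f κ * f (τ' l) := by
    simp only [hκ, map_mul, map_inv]; group
  have hfw : f d * f (τ' w) * (f d)⁻¹ = f (τ' w) := by
    calc f d * f (τ' w) * (f d)⁻¹ = (f d * f (τ' t) * (f d)⁻¹) * (f d * f (τ' l) * (f d)⁻¹) *
          (f d * f (τ' t) * (f d)⁻¹)⁻¹ * (f d * f (τ' l) * (f d)⁻¹)⁻¹ := by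
          simp only [hw, map_mul, map_inv]; group
      _ = (f (τ' t) * f κ) * f (τ' l) * (f (τ' t))⁻¹ * (f (τ' l))⁻¹ * (f κ)⁻¹ := by rw [hfd, hfl]; group
      _ = f κ * f (τ' w) * (f κ)⁻¹ := by
          rw [← (hκT t htT').eq]; simp only [hw, map_mul, map_inv]; group
      _ = f (τ' w) := by rw [(hκT w hwX.2).eq, mul_inv_cancel_right]
  set z := l * w * l⁻¹ * w⁻¹ with hz'
  have hzc : z ∈ center P := by
    obtain ⟨y', hy', k, -, hk, hwk⟩ := h.moved_X hW hwX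
    rw [hz', ← hwk]
    have hcl : Commute l k := hk l hl
    rw [show l * (y' * k) * l⁻¹ * (y' * k)⁻¹ = l * y' * (k * l⁻¹) * k⁻¹ * y'⁻¹ by group, ← hcl.inv_left.eq,
      show l * y' * (l⁻¹ * k) * k⁻¹ * y'⁻¹ = l * y' * l⁻¹ * y'⁻¹ by group]
    exact hr.quad hy' l
  have hzY : z ∈ Y p τ' := Side.center_le_Y hzc
  have hfz : f d * f (τ' z) * (f d)⁻¹ = f (τ' z) := by
    calc f d * f (τ' z) * (f d)⁻¹ = (f d * f (τ' l) * (f d)⁻¹) * (f d * f (τ' w) * (f d)⁻¹) *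
          (f d * f (τ' l) * (f d)⁻¹)⁻¹ * (f d * f (τ' w) * (f d)⁻¹)⁻¹ := by
          simp only [hz', map_mul, map_inv]; group
      _ = f κ * (f (τ' l) * f (τ' w) * (f (τ' l))⁻¹) * ((f κ)⁻¹ * (f (τ' w))⁻¹) := by rw [hfw, hfl]; group
      _ = f κ * f (τ' z) * (f κ)⁻¹ := by
          rw [show (f κ)⁻¹ * (f (τ' w))⁻¹ = (f (τ' w))⁻¹ * (f κ)⁻¹ from
            ((hκT w hwX.2).inv_inv).eq]
          simp only [hz', map_mul, map_inv]; group
      _ = f (τ' z) := by rw [(hκT z (hr.centralizer_T_le hzY)).eq, mul_inv_cancel_right]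
  obtain ⟨r, hrz, her⟩ := hd z hzY
  have hz2 : z * z ∈ M := by
    refine mem_of_mk_eq_one (R := M) hr.inj ?_
    show f (τ' (z * z)) = 1
    have h1 : (f (τ' z))⁻¹ = f (τ' z) := by
      conv_rhs => rw [← hfz, ← map_inv, ← map_mul, ← map_mul, her, map_mul τ', map_mul f,
        mk_eq_one (τ := τ') (R := M) (mem_sup_right hrz), mul_one, map_inv, map_inv]
    rw [map_mul, map_mul]
    exact inv_eq_iff_mul_eq_one.mp h1
  have hz3 : z * z ∈ Zg τ' := by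
    haveI hZn : (Zg τ').Normal := ⟨fun a ha b => by
      rw [mem_center_iff.mp (hr.Zg_le_center ha) b, mul_inv_cancel_right]; exact ha⟩
    obtain ⟨a, ha, b, hb, hab⟩ := mem_sup_of_normal_right.mp hz2
    rw [← hab]
    refine mul_mem (phi_inf_center_le hr le_rfl htr ⟨ha, ?_⟩) hb
    rw [show a = z * z * b⁻¹ by rw [← hab, mul_inv_cancel_right]]
    exact (center P).mul_mem ((center P).mul_mem hzc hzc) ((center P).inv_mem (hr.Zg_le_center hb))
  have hz4 : z = (z * z) ^ e := by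
    rw [← pow_two, ← pow_mul, ← he, pow_succ, hr.zel z hzc, one_mul]
  rw [hz4]
  exact pow_mem hz3 e

/-- `U` is normal in both groups or in neither. -/
theorem mixed (h : Pair p τ τ') (hn : ¬ ((Y p τ ⊔ Y p τ').map τ).Normal) :
    ¬ ((Y p τ ⊔ Y p τ').map τ').Normal := fun hN => by
  by_cases hp : p = 2
  · exact h.mixed_two hn hN hp
  · exact h.mixed_odd hn hN hp

end Pair

end Cfsg.Agent.PushingUp
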