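import Cfsg.Agent.Lib.PushingUp.Nice

/-!
A conjugate of `U` outside `T'`.

* `moved_inf`, `moved_T`, `moved_top`, `moved_X`: the decompositions it gives.
* `fixed_coset`: if `U^g ≤ T'` and `U^{g'}` is not in `T`, then `U` is normal in `G`.
-/

set_option autoImplicit false

open Subgroup Cfsg.Agent.CentrallyLarge
open scoped Pointwise

namespace Cfsg.Agent.PushingUp

open Real

variable {P : Type*} [Group P] [Finite P] {G : Type*} [Group G] [Finite G] {G' : Type*} [Group G']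
  [Finite G'] {p : ℕ} [Fact p.Prime] {τ : P →* G} {τ' : P →* G'}

namespace Pair

theorem U_le_T (h : Pair p τ τ') : Y p τ ⊔ Y p τ' ≤ T p τ := h.U_le.trans inf_le_left

theorem cj_U (h : Pair p τ τ') (g : G) :
    Cfsg.IsCentralizerLarge (cj τ g (Y p τ ⊔ Y p τ')) ∧
      centralizer (cj τ g (Y p τ ⊔ Y p τ') : Set P) = cj τ g (T p τ ⊓ T p τ') ∧
      Y p τ ≤ cj τ g (Y p τ ⊔ Y p τ') ∧ cj τ g (Y p τ ⊔ Y p τ') ≤ T p τ := by
  have h1 := Real.large_cj (g := g) h.left.inj h.left.core_le h.left.centralizer_Y le_sup_left h.U_le_T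
    (h.left.cj_Y g) h.large_U
  rw [h.centralizer_U] at h1
  exact ⟨h1.1, h1.2, (h.left.cj_Y g).ge.trans (cj_mono le_sup_left), cj_le h.left.inj h.U_le_T g⟩

theorem normal_of_cj (h : Pair p τ τ') {g : G} (hg : Gen p τ.range g)
    (he : cj τ g (Y p τ ⊔ Y p τ') = Y p τ ⊔ Y p τ') : ((Y p τ ⊔ Y p τ').map τ).Normal := by
  obtain ⟨u, hu⟩ := h.left.exists_not_mem
  set M := (Y p τ ⊔ Y p τ').map τ
  have hS : τ.range ≤ normalizer (M : Set G) := by
    rintro _ ⟨a, rfl⟩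
    refine mem_normalizer_fintype ?_
    rintro _ ⟨w, hw, rfl⟩
    exact ⟨a * w * a⁻¹, h.U_normal.conj_mem w hw a, by rw [map_mul, map_mul, map_inv]⟩
  have hgM : g ∈ normalizer (M : Set G) := by
    refine mem_normalizer_fintype fun m hm => ?_
    have h1 : g * m * g⁻¹ ∈ M.map (MulAut.conj g).toMonoidHom := mem_map_of_mem _ hm
    rwa [← map_cj h.left.core_le h.U_le_T, he] at h1
  rw [← normalizer_eq_top_iff, eq_top_iff, ← (hg (τ u) ⟨u, rfl⟩ (fun hm => hu (mem_T.mpr hm))).1]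
  refine sup_le (zpowers_le.mpr (hS ⟨u, rfl⟩)) fun x hx => ?_
  rw [Subgroup.mem_pointwise_smul_iff_inv_smul_mem, ← map_inv] at hx
  have h2 : g * (g⁻¹ * x * g) * g⁻¹ ∈ normalizer (M : Set G) :=
    mul_mem (mul_mem hgM (hS (by simpa using hx))) (inv_mem hgM)
  simpa [mul_assoc] using h2

theorem moved_inf (h : Pair p τ τ') {g : G} (hW : ¬ cj τ g (Y p τ ⊔ Y p τ') ≤ T p τ') :
    cj τ g (Y p τ ⊔ Y p τ') ⊓ T p τ' = Y p τ := by
  obtain ⟨hWl, hCW, hYW, hWT⟩ := h.cj_U g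
  set W := cj τ g (Y p τ ⊔ Y p τ')
  have hl := h.left
  have hLT : W ⊓ T p τ' ≤ T p τ := inf_le_left.trans hWT
  have hYL : Y p τ ≤ W ⊓ T p τ' := le_inf hYW h.symm.nc
  obtain ⟨hpl, -⟩ := Real.large_cj (g := g⁻¹) hl.inj hl.core_le hl.centralizer_Y hYL hLT (hl.cj_Y g⁻¹)
    (centralizerLarge_inf hWl h.right.large_T)
  have hle : cj τ g⁻¹ (W ⊓ T p τ') ≤ Y p τ ⊔ Y p τ' :=
    (cj_mono inf_le_left).trans (cj_cj hl.inj hl.core_le h.U_le_T g).le
  rcases h.simple hpl ((hl.cj_Y g⁻¹).ge.trans (cj_mono hYL)) hle with e | e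
  · calc W ⊓ T p τ' = cj τ g (cj τ g⁻¹ (W ⊓ T p τ')) := (cj_cj' hl.inj hl.core_le hLT g).symm
      _ = _ := by rw [e, hl.cj_Y]
  · refine absurd ?_ hW
    calc W = cj τ g (cj τ g⁻¹ (W ⊓ T p τ')) := by rw [e]
      _ = W ⊓ T p τ' := cj_cj' hl.inj hl.core_le hLT g
      _ ≤ _ := inf_le_right

theorem moved_T (h : Pair p τ τ') {g : G} (hW : ¬ cj τ g (Y p τ ⊔ Y p τ') ≤ T p τ') :
    T p τ = (T p τ ⊓ T p τ') ⊔ cj τ g (Y p τ ⊔ Y p τ') := by
  obtain ⟨hWl, hCW, hYW, hWT⟩ := h.cj_U g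
  have hXl := centralizerLarge_inf h.left.large_T h.right.large_T
  set W := cj τ g (Y p τ ⊔ Y p τ')
  set U := Y p τ ⊔ Y p τ'
  have hWC : centralizer ((centralizer (W : Set P) : Subgroup P) : Set P) = W := centralizer_centralizer_eq hWl
  have hUC : U ⊓ centralizer (W : Set P) = Y p τ := by
    rcases h.simple (centralizerLarge_inf h.large_U (centralizerLarge_centralizer hWl))
      (le_inf le_sup_left (Subgroup.le_centralizer_iff.mp (hWT.trans h.left.centralizer_Y.ge))) inf_le_left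
      with e | e
    · exact e
    · refine absurd ?_ hW
      have h1 : W ≤ centralizer (U : Set P) := Subgroup.le_centralizer_iff.mp (inf_eq_left.mp e)
      exact h1.trans (h.centralizer_U.le.trans inf_le_right)
  calc T p τ = centralizer (Y p τ : Set P) := h.left.centralizer_Y.symm
    _ = centralizer ((U ⊓ centralizer (W : Set P) : Subgroup P) : Set P) := by rw [hUC]
    _ = _ := by rw [centralizer_inf_eq h.large_U (centralizerLarge_centralizer hWl), h.centralizer_U, hWC]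

theorem moved_top (h : Pair p τ τ') {g : G} (hW : ¬ cj τ g (Y p τ ⊔ Y p τ') ≤ T p τ') (s : P) :
    ∃ l ∈ cj τ g (Y p τ ⊔ Y p τ'), ∃ t ∈ T p τ', l * t = s := by
  have e : cj τ g (Y p τ ⊔ Y p τ') ⊔ T p τ' = ⊤ := top_le_iff.mp (h.T_sup.ge.trans (sup_le
    ((h.moved_T hW).le.trans (sup_le (inf_le_right.trans le_sup_right) le_sup_left)) le_sup_right))
  obtain ⟨l, hl, t, ht, he⟩ : s ∈ (cj τ g (Y p τ ⊔ Y p τ') : Set P) * (T p τ' : Set P) := by
    rw [← coe_sup_eq_mul (h.cj_U g).1 h.right.large_T, e]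
    exact mem_top s
  exact ⟨l, hl, t, ht, he⟩

/-- Every element of `X` is `y' y k` with `k` centralising the moved conjugate. -/
theorem moved_X (h : Pair p τ τ') {g : G} (hW : ¬ cj τ g (Y p τ ⊔ Y p τ') ≤ T p τ') {x : P}
    (hx : x ∈ T p τ ⊓ T p τ') :
    ∃ y' ∈ Y p τ', ∃ k ∈ T p τ ⊓ T p τ',
      k ∈ centralizer (cj τ g (Y p τ ⊔ Y p τ') : Set P) ∧ y' * k = x := by
  obtain ⟨hWl, hCW, hYW, hWT⟩ := h.cj_U g
  have hXl := centralizerLarge_inf h.left.large_T h.right.large_T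
  set W := cj τ g (Y p τ ⊔ Y p τ')
  have hXW : (T p τ ⊓ T p τ') ⊓ W = Y p τ :=
    le_antisymm ((le_inf inf_le_right (inf_le_left.trans inf_le_right)).trans (h.moved_inf hW).le)
      (le_inf (le_sup_left.trans h.U_le) hYW)
  have e : T p τ = (Y p τ ⊔ Y p τ') ⊔ centralizer (W : Set P) := by
    conv_lhs => rw [← h.left.centralizer_Y, ← hXW]
    rw [centralizer_inf_eq hXl hWl, h.centralizer_X]
  have hx1 : x ∈ (Y p τ ⊔ Y p τ') ⊔ centralizer (W : Set P) := e ▸ hx.1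
  rw [← SetLike.mem_coe, coe_sup_eq_mul h.large_U (centralizerLarge_centralizer hWl)] at hx1
  obtain ⟨w, hw, k, hk, rfl⟩ := hx1
  obtain ⟨y, hy, y', hy', rfl⟩ := h.mul_mem_U hw
  have hyW : y ∈ centralizer (W : Set P) := fun a ha => hy a (hWT ha)
  refine ⟨y', hy', y * k, ?_, mul_mem hyW hk, ?_⟩
  · have : y' * (y * k) ∈ T p τ ⊓ T p τ' := by
      rw [← mul_assoc, ← hy y' (h.U_le (mem_sup_right hy')).1] at *
      exact hx
    simpa using mul_mem (inv_mem (h.U_le (mem_sup_right hy'))) this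
  · show y' * (y * k) = y * y' * k
    rw [← mul_assoc, ← hy y' (h.U_le (mem_sup_right hy')).1]

/-- The fixed coset lemma. -/
theorem fixed_coset (h : Pair p τ τ') {g : G} (hg : Gen p τ.range g)
    (hW : cj τ g (Y p τ ⊔ Y p τ') ≤ T p τ') {g' : G'}
    (hW' : ¬ cj τ' g' (Y p τ ⊔ Y p τ') ≤ T p τ) : ((Y p τ ⊔ Y p τ').map τ).Normal := by
  obtain ⟨hWl, -, hYW, hWT⟩ := h.cj_U g
  have h' := h.symm
  rw [sup_comm (Y p τ) (Y p τ')] at hW'
  obtain ⟨l, hl, hlT⟩ := SetLike.not_le_iff_exists.mp hW'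
  haveI := h.left.core.2.1
  refine h.normal_of_cj hg (eq_of_card _ _ ?_ ?_)
  · intro x hx
    obtain ⟨u₀, hu₀, hux⟩ := mem_cj.mp hx
    let f := QuotientGroup.mk' ((Y p τ).map τ)
    have hone : ∀ c ∈ Y p τ, f (τ c) = 1 := fun c hc =>
      (QuotientGroup.eq_one_iff (N := (Y p τ).map τ) _).mpr (mem_map_of_mem τ hc)
    let N := (centralizer ({f (τ x)} : Set (G ⧸ (Y p τ).map τ))).comap f
    have hlN : τ l ∈ N := by
      show f (τ l) ∈ centralizer ({f (τ x)} : Set _)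
      obtain ⟨y, hy, k, -, hk, he⟩ := h'.moved_X hW' (x := x) ⟨hW hx, hWT hx⟩
      have hq : l * x * l⁻¹ * x⁻¹ ∈ center P := by
        rw [← he, show l * (y * k) * l⁻¹ * (y * k)⁻¹ = l * y * (k * l⁻¹) * k⁻¹ * y⁻¹ by group,
          show k * l⁻¹ = l⁻¹ * k from ((show Commute l k from hk l hl).inv_left).eq.symm,
          show l * y * (l⁻¹ * k) * k⁻¹ * y⁻¹ = l * y * l⁻¹ * y⁻¹ by group]
        exact h.left.quad hy l
      have h1 := hone _ (Side.center_le_Y hq)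
      simp only [map_mul, map_inv] at h1
      rw [mul_inv_eq_one, mul_inv_eq_iff_eq_mul] at h1
      rw [mem_centralizer_singleton_iff]
      exact h1
    have hSN : MulAut.conj g • τ.range ≤ N := by
      intro k hk
      rw [Subgroup.mem_pointwise_smul_iff_inv_smul_mem, ← map_inv] at hk
      obtain ⟨a, ha⟩ := hk
      have hk' : k = g * τ a * g⁻¹ := by
        rw [ha, MulAut.smul_def, MulAut.conj_apply]
        group
      show f k ∈ centralizer ({f (τ x)} : Set _)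
      have h1 := hone _ (Side.center_le_Y (h.U_quad hu₀ a))
      simp only [map_mul, map_inv] at h1
      rw [mul_inv_eq_one, mul_inv_eq_iff_eq_mul] at h1
      rw [mem_centralizer_singleton_iff, hk', ← hux]
      simp only [map_mul, map_inv]
      calc f g * f (τ a) * (f g)⁻¹ * (f g * f (τ u₀) * (f g)⁻¹)
          = f g * (f (τ a) * f (τ u₀)) * (f g)⁻¹ := by group
        _ = f g * (f (τ u₀) * f (τ a)) * (f g)⁻¹ := by rw [h1]
        _ = _ := by group
    have htop : g ∈ N := by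
      have h1 := sup_le (zpowers_le.mpr hlN) hSN
      rw [(hg (τ l) ⟨l, rfl⟩ (fun hm => hlT (mem_T.mpr hm))).1] at h1
      exact h1 (mem_top g)
    have h2 : f g * f (τ x) = f (τ x) * f g := mem_centralizer_singleton_iff.mp htop
    have h3 : f (τ x) = f (τ u₀) := by
      rw [← hux, map_mul, map_mul, map_inv] at h2 ⊢
      refine mul_left_cancel (a := f g) (h2.trans ?_)
      rw [inv_mul_cancel_right]
    obtain ⟨c, hc, he⟩ : (τ u₀)⁻¹ * τ x ∈ (Y p τ).map τ := QuotientGroup.eq.mp h3.symm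
    have : x = u₀ * c := h.left.inj (by rw [map_mul, he, mul_inv_cancel_left])
    exact this ▸ mul_mem hu₀ (mem_sup_left hc)
  · rw [card_cj h.left.inj h.left.core_le h.U_le_T]

end Pair

end Cfsg.Agent.PushingUp
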