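import Cfsg.Agent.Lib.PushingUp.Mixed

/-!
`U` normal in neither group.

* `Pair.moved_quad`: `[P, U^g] ≤ U`.
* `Pair.Omega_normal`: `U U^g` is normal in `G`.
* `Pair.mutual_two`: impossible for `p = 2`.
* `Pair.mutual_three`: both groups are nice for `p = 3`.
* `Pair.mutual_five`: impossible for `p ≥ 5`.
-/

set_option autoImplicit false

open Subgroup Cfsg.Agent.CentrallyLarge
open scoped Pointwise commutatorElement

namespace Cfsg.Agent.PushingUp

open Real

variable {P : Type*} [Group P] [Finite P] {G : Type*} [Group G] [Finite G] {G' : Type*} [Group G']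
  [Finite G'] {p : ℕ} [Fact p.Prime] {τ : P →* G} {τ' : P →* G'}

namespace Pair

variable {g : G} {g' : G'}

theorem split_X (h : Pair p τ τ') (hW : ¬ cj τ g (Y p τ ⊔ Y p τ') ≤ T p τ')
    (hW' : ¬ cj τ' g' (Y p τ' ⊔ Y p τ) ≤ T p τ) {x : P} (hx : x ∈ T p τ ⊓ T p τ') :
    ∃ u ∈ Y p τ ⊔ Y p τ', ∃ k ∈ T p τ ⊓ T p τ',
      k ∈ centralizer (cj τ g (Y p τ ⊔ Y p τ') : Set P) ∧
      k ∈ centralizer (cj τ' g' (Y p τ' ⊔ Y p τ) : Set P) ∧ u * k = x := by
  obtain ⟨y', hy', k₁, hk₁X, hk₁, rfl⟩ := h.moved_X hW hx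
  obtain ⟨y, hy, k, hkX, hk, rfl⟩ := h.symm.moved_X hW' (x := k₁) ⟨hk₁X.2, hk₁X.1⟩
  refine ⟨y' * y, mul_mem (mem_sup_right hy') (mem_sup_left hy), k, ⟨hkX.2, hkX.1⟩, ?_, hk, by group⟩
  have hyW : y ∈ centralizer (cj τ g (Y p τ ⊔ Y p τ') : Set P) := fun a ha => hy a ((h.cj_U g).2.2.2 ha)
  simpa using mul_mem (inv_mem hyW) hk₁

theorem mutual_comm (h : Pair p τ τ') (hW : ¬ cj τ g (Y p τ ⊔ Y p τ') ≤ T p τ')
    (hW' : ¬ cj τ' g' (Y p τ' ⊔ Y p τ) ≤ T p τ) {l l' : P}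
    (hl : l ∈ cj τ g (Y p τ ⊔ Y p τ')) (hl' : l' ∈ cj τ' g' (Y p τ' ⊔ Y p τ)) :
    l' * l * l'⁻¹ * l⁻¹ ∈ Y p τ ⊔ Y p τ' := by
  have hlT : l ∈ T p τ := (h.cj_U g).2.2.2 hl
  have hl'T : l' ∈ T p τ' := (h.symm.cj_U g').2.2.2 hl'
  obtain ⟨u, hu, k, hkX, hkW, hkW', he⟩ := h.split_X hW hW' (h.mem_X_of_comm hl'T hlT)
  rw [← he]
  refine mul_mem hu (mem_sup_left (Side.center_le_Y (mem_center_iff.mpr fun s => ?_)))
  -- `k` commutes with everything
  have hC : ∀ x ∈ T p τ ⊓ T p τ', Commute x k := by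
    intro x hx
    obtain ⟨u', hu', k', hk'X, hk'W, hk'W', rfl⟩ := h.split_X hW hW' hx
    have h1 : Commute u' k := h.centralizer_U.ge hkX u' hu'
    refine h1.mul_left ?_
    have e : k = u⁻¹ * (l' * l * l'⁻¹ * l⁻¹) := by rw [← he]; group
    have c1 : Commute k' l := (hk'W l hl).symm
    have c2 : Commute k' l' := (hk'W' l' hl').symm
    have c3 : Commute k' u := (h.centralizer_U.ge hk'X u hu).symm
    rw [e]
    exact c3.inv_right.mul_right (((c2.mul_right c1).mul_right c2.inv_right).mul_right c1.inv_right)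
  obtain ⟨a, ha, t', ht', rfl⟩ := h.moved_top hW s
  have h2 : t' ∈ (T p τ' ⊓ T p τ) ⊔ cj τ' g' (Y p τ' ⊔ Y p τ) := h.symm.moved_T hW' ▸ ht'
  have hXl := centralizerLarge_inf h.right.large_T h.left.large_T
  rw [← SetLike.mem_coe, coe_sup_eq_mul hXl (h.symm.cj_U g').1] at h2
  obtain ⟨x, hx, b, hb, rfl⟩ := h2
  have c1 : Commute a k := hkW a ha
  have c2 : Commute b k := hkW' b hb
  exact (c1.mul_left ((hC x ⟨hx.2, hx.1⟩).mul_left c2)).eq

theorem moved_quad (h : Pair p τ τ') (hn : ¬ ((Y p τ ⊔ Y p τ').map τ).Normal)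
    (hW : ¬ cj τ g (Y p τ ⊔ Y p τ') ≤ T p τ') (hW' : ¬ cj τ' g' (Y p τ' ⊔ Y p τ) ≤ T p τ) (s : P)
    {l : P} (hl : l ∈ cj τ g (Y p τ ⊔ Y p τ')) :
    s * l * s⁻¹ * l⁻¹ ∈ Y p τ ⊔ Y p τ' := by
  set U := Y p τ ⊔ Y p τ' with hU
  haveI hUn : U.Normal := h.U_normal
  let f := QuotientGroup.mk' U
  have hTW : ∀ t ∈ T p τ, Commute (f t) (f l) := by
    intro t ht
    have h1 : f (t * l * t⁻¹ * l⁻¹) = 1 := (QuotientGroup.eq_one_iff (N := U) _).mpr
      (mem_sup_left (Side.center_le_Y (h.left.Zg_le_center (h.W_quad hn hl ht))))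
    simp only [map_mul, map_inv] at h1
    rw [mul_inv_eq_one, mul_inv_eq_iff_eq_mul] at h1
    exact h1
  have hs : s ∈ T p τ ⊔ cj τ' g' (Y p τ' ⊔ Y p τ) := by
    obtain ⟨b, hb, t, ht, rfl⟩ := h.symm.moved_top hW' s
    exact mul_mem (mem_sup_right hb) (mem_sup_left ht)
  have hN : T p τ ⊔ cj τ' g' (Y p τ' ⊔ Y p τ) ≤ (centralizer ({f l} : Set (P ⧸ U))).comap f := by
    refine sup_le (fun t ht => mem_centralizer_singleton_iff.mpr (hTW t ht)) fun b hb => ?_
    have h1 : f (b * l * b⁻¹ * l⁻¹) = 1 :=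
      (QuotientGroup.eq_one_iff (N := U) _).mpr (h.mutual_comm hW hW' hl hb)
    simp only [map_mul, map_inv] at h1
    rw [mul_inv_eq_one, mul_inv_eq_iff_eq_mul] at h1
    exact mem_centralizer_singleton_iff.mpr h1
  refine (QuotientGroup.eq_one_iff (N := U) _).mp ?_
  show f (s * l * s⁻¹ * l⁻¹) = 1
  rw [map_mul, map_mul, map_mul, map_inv, map_inv, mem_centralizer_singleton_iff.mp (hN hs),
    mul_inv_cancel_right, mul_inv_cancel]

theorem Omega_normal (h : Pair p τ τ') (hn : ¬ ((Y p τ ⊔ Y p τ').map τ).Normal)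
    (hg : Gen p τ.range g) (hW' : ¬ cj τ' g' (Y p τ' ⊔ Y p τ) ≤ T p τ) :
    (((Y p τ ⊔ Y p τ') ⊔ cj τ g (Y p τ ⊔ Y p τ')).map τ).Normal := by
  have hl := h.left
  set U := Y p τ ⊔ Y p τ' with hU
  set W := cj τ g U
  set Ω := (U ⊔ W).map τ
  have hΩp : ∀ a b : P, a ∈ U ⊔ W → b ∈ U ⊔ W → a * b ∈ U ⊔ W := fun a b ha hb => mul_mem ha hb
  have hS : τ.range ≤ normalizer (Ω : Set G) := by
    rintro _ ⟨s, rfl⟩
    refine mem_normalizer_fintype ?_
    rintro _ ⟨w, hw, rfl⟩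
    have hle : U ⊔ W ≤ (U ⊔ W).comap (MulAut.conj s).toMonoidHom := by
      refine sup_le (fun u hu => mem_sup_left (h.U_normal.conj_mem u hu s)) fun l hlW => ?_
      show s * l * s⁻¹ ∈ U ⊔ W
      rw [show s * l * s⁻¹ = s * l * s⁻¹ * l⁻¹ * l by group]
      exact mul_mem (mem_sup_left (h.moved_quad hn (h.moved hn hg) hW' s hlW)) (mem_sup_right hlW)
    exact ⟨s * w * s⁻¹, hle hw, by rw [map_mul, map_mul, map_inv]⟩
  have hSg : MulAut.conj g • τ.range ≤ normalizer (Ω : Set G) := by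
    intro k hk
    rw [Subgroup.mem_pointwise_smul_iff_inv_smul_mem, ← map_inv] at hk
    obtain ⟨s, hs⟩ := hk
    have hk' : k = g * τ s * g⁻¹ := by
      rw [hs, MulAut.smul_def, MulAut.conj_apply]
      group
    have hconjW : ∀ l ∈ W, g * τ s * g⁻¹ * τ l * (g * τ s * g⁻¹)⁻¹ ∈ Ω := by
      intro l hlW
      obtain ⟨u, hu, hul⟩ := mem_cj.mp hlW
      obtain ⟨v, hv, hve⟩ := Real.exists_conj hl.core_le g (h.U_le_T (h.U_normal.conj_mem u hu s))
      refine ⟨v, mem_sup_right (mem_cj.mpr ⟨_, h.U_normal.conj_mem u hu s, hve⟩), ?_⟩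
      rw [← hve, ← hul, map_mul, map_mul, map_inv]
      group
    have hconjU : ∀ u ∈ U, g * τ s * g⁻¹ * τ u * (g * τ s * g⁻¹)⁻¹ ∈ Ω := by
      intro u hu
      obtain ⟨l, hlT, hle⟩ := Real.exists_conj hl.core_le g⁻¹ (h.U_le_T hu)
      rw [inv_inv] at hle
      have hlW : l ∈ cj τ g⁻¹ U := mem_cj.mpr ⟨u, hu, by rw [inv_inv]; exact hle⟩
      have hc := h.moved_quad hn (h.moved hn hg.inv) hW' s hlW
      obtain ⟨v, hv, hve⟩ := Real.exists_conj hl.core_le g (h.U_le_T hc)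
      refine ⟨v * u, mul_mem (mem_sup_right (mem_cj.mpr ⟨_, hc, hve⟩)) (mem_sup_left hu), ?_⟩
      rw [map_mul, ← hve]
      simp only [map_mul, map_inv, ← hle]
      group
    rw [hk']
    refine mem_normalizer_fintype fun a ha => ?_
    have hle : Ω ≤ Ω.comap (MulAut.conj (g * τ s * g⁻¹)).toMonoidHom := by
      show (U ⊔ W).map τ ≤ _
      rw [Subgroup.map_sup]
      refine sup_le ?_ ?_
      · rintro _ ⟨u, hu, rfl⟩; exact hconjU u hu
      · rintro _ ⟨l, hlW, rfl⟩; exact hconjW l hlW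
    exact hle ha
  obtain ⟨v, hv⟩ := hl.exists_not_mem
  rw [← normalizer_eq_top_iff, eq_top_iff, ← (hg (τ v) ⟨v, rfl⟩ (fun hm => hv (mem_T.mpr hm))).1]
  exact sup_le (zpowers_le.mpr (hS ⟨v, rfl⟩)) hSg

theorem mutual_two (h : Pair p τ τ') (hn : ¬ ((Y p τ ⊔ Y p τ').map τ).Normal)
    (hn' : ¬ ((Y p τ' ⊔ Y p τ).map τ').Normal) (hp : p = 2) : False := by
  obtain ⟨g, hg⟩ := PushingUp.exists_Gen h.left.sit
  obtain ⟨g', hg'⟩ := PushingUp.exists_Gen h.right.sit
  have hW := h.moved hn hg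
  have hW' := h.symm.moved hn' hg'
  obtain ⟨t, htW, htT⟩ := h.symm.exists_W hW'
  have ht : t ∈ T p τ' := (h.symm.cj_U g').2.2.2 htW
  refine h.not_commute hn hg htT fun l hl => h.mem_centralizer_of_test hW ht hl ?_
  have hlT : l ∈ T p τ := (h.cj_U g).2.2.2 hl
  set w := t * l * t⁻¹ * l⁻¹ with hw
  have hinv : ∀ {a : P}, a ^ p = 1 → a⁻¹ = a := fun {a} ha => by
    rw [hp, sq] at ha
    exact inv_eq_of_mul_eq_one_left ha
  have hl2 := hinv (h.W_pow hl)
  have ht2 := hinv (h.symm.W_pow htW)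
  have hwX : w ∈ T p τ ⊓ T p τ' := h.mem_X_of_comm ht hlT
  have e1 : l * w * l⁻¹ = w⁻¹ := by
    have hll : l * l = 1 := by nth_rw 1 [← hl2]; exact inv_mul_cancel l
    calc l * w * l⁻¹ = l * t * l * t⁻¹ * (l * l)⁻¹ := by simp only [hw]; group
      _ = l * t * l * t⁻¹ := by rw [hll, inv_one, mul_one]
      _ = l * t * l⁻¹ * t⁻¹ := by rw [hl2]
      _ = w⁻¹ := by simp only [hw]; group
  have e2 : t * w * t⁻¹ = w⁻¹ := by
    have htt : t * t = 1 := by nth_rw 1 [← ht2]; exact inv_mul_cancel t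
    calc t * w * t⁻¹ = (t * t) * l * t⁻¹ * l⁻¹ * t⁻¹ := by simp only [hw]; group
      _ = l * t⁻¹ * l⁻¹ * t⁻¹ := by rw [htt, one_mul]
      _ = l * t * l⁻¹ * t⁻¹ := by nth_rw 1 [ht2]
      _ = w⁻¹ := by simp only [hw]; group
  have e : l * w * l⁻¹ * w⁻¹ = t * w * t⁻¹ * w⁻¹ := by rw [e1, e2]
  rw [e]
  obtain ⟨y, hy, k, -, hk, hyk⟩ := h.symm.moved_X hW' (x := w) ⟨hwX.2, hwX.1⟩
  rw [← hyk]
  have htk : Commute t k := hk t htW
  have h3 := inv_mem (h.symm.value hn' (mem_sup_right hy) ht)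
  rw [show t * (y * k) * t⁻¹ * (y * k)⁻¹ = t * y * (k * t⁻¹) * k⁻¹ * y⁻¹ by group, ← htk.inv_left.eq,
    show t * y * (t⁻¹ * k) * k⁻¹ * y⁻¹ = (y * t * y⁻¹ * t⁻¹)⁻¹ by group]
  exact h3

theorem mutual_three (h : Pair p τ τ') (hn : ¬ ((Y p τ ⊔ Y p τ').map τ).Normal)
    (hn' : ¬ ((Y p τ' ⊔ Y p τ).map τ').Normal) (hp : p = 3) : Nice p τ := by
  have hl := h.left
  obtain ⟨g, hg⟩ := PushingUp.exists_Gen hl.sit
  obtain ⟨g', hg'⟩ := PushingUp.exists_Gen h.right.sit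
  have hW := h.moved hn hg
  have hW' := h.symm.moved hn' hg'
  set U := Y p τ ⊔ Y p τ' with hU
  set W := cj τ g U
  set W' := cj τ' g' (Y p τ' ⊔ Y p τ)
  set X₃ := (T p τ ⊓ T p τ') ⊓ centralizer (W : Set P) ⊓ centralizer (W' : Set P)
  set X₂ := T p τ ⊓ centralizer ((U ⊔ W : Subgroup P) : Set P)
  have hX₃₂ : X₃ ≤ X₂ := fun x hx => ⟨hx.1.1.1, by
    rw [centralizer_sup]
    exact ⟨h.centralizer_U.ge hx.1.1, hx.1.2⟩⟩
  -- the `p'`-elements fix `Φ(X₂)`
  have hX₂n : (X₂.map τ).Normal := by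
    haveI := h.Omega_normal hn hg hW'
    haveI := Cores.pCore_normal p G
    have : X₂.map τ = Cfsg.pCore p G ⊓ centralizer (((U ⊔ W).map τ : Subgroup G) : Set G) := by
      refine le_antisymm ?_ ?_
      · rintro _ ⟨x, hx, rfl⟩
        refine ⟨mem_T.mp hx.1, ?_⟩
        rintro _ ⟨w, hw, rfl⟩
        rw [← map_mul, ← map_mul, hx.2 w hw]
      · rintro a ⟨ha, hac⟩
        obtain ⟨x, rfl⟩ := hl.core_le ha
        refine mem_map_of_mem τ ⟨mem_T.mpr ha, fun w hw => hl.inj ?_⟩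
        rw [map_mul, map_mul]
        exact hac _ (mem_map_of_mem τ hw)
    rw [this]
    infer_instance
  obtain ⟨t, htW, htT⟩ := h.symm.exists_W hW'
  have htr : Triv p τ X₂ := by
    refine triv_of_elem hl hX₂n htT fun x hx => ?_
    have hxX : x ∈ T p τ ⊓ T p τ' := h.centralizer_U.le (by
      have := hx.2
      rw [centralizer_sup] at this
      exact this.1)
    obtain ⟨y, hy, k, -, hk, rfl⟩ := h.symm.moved_X hW' (x := x) ⟨hxX.2, hxX.1⟩
    have htk : Commute t k := hk t htW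
    rw [show t * (y * k) * t⁻¹ * (y * k)⁻¹ = t * y * (k * t⁻¹) * k⁻¹ * y⁻¹ by group, ← htk.inv_left.eq,
      show t * y * (t⁻¹ * k) * k⁻¹ * y⁻¹ = t * y * t⁻¹ * y⁻¹ by group]
    exact Side.center_le_Y (hl.quad hy t)
  -- generators of `P`
  have htop : U ⊔ W ⊔ W' ⊔ X₃ = ⊤ := by
    refine top_le_iff.mp fun s _ => ?_
    obtain ⟨a, ha, t', ht', rfl⟩ := h.moved_top hW s
    have h2 : t' ∈ (T p τ' ⊓ T p τ) ⊔ W' := h.symm.moved_T hW' ▸ ht'
    refine mul_mem (mem_sup_left (mem_sup_left (mem_sup_right ha))) ((sup_le ?_ ?_ : (T p τ' ⊓ T p τ) ⊔ W' ≤ _) h2)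
    · intro x hx
      obtain ⟨u, hu, k, hkX, hkW, hkW', rfl⟩ := h.split_X hW hW' (x := x) ⟨hx.2, hx.1⟩
      exact mul_mem (mem_sup_left (mem_sup_left (mem_sup_left hu))) (mem_sup_right ⟨⟨hkX, hkW⟩, hkW'⟩)
    · exact le_sup_right.trans le_sup_left
  have hWT : W ≤ T p τ := (h.cj_U g).2.2.2
  have hW'T : W' ≤ T p τ' := (h.symm.cj_U g').2.2.2
  have hpX : phi p X₃ ≤ X₃ := by
    rw [phi, closure_le]
    rintro a (⟨s, hs, rfl⟩ | ⟨s, hs, r, hr, rfl⟩)
    · exact pow_mem hs p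
    · exact mul_mem (mul_mem (mul_mem hs hr) (inv_mem hs)) (inv_mem hr)
  have hX₃c : ∀ a ∈ U ⊔ W ⊔ W', ∀ x ∈ X₃, Commute a x := by
    intro a ha x hx
    have hle : U ⊔ W ⊔ W' ≤ centralizer ({x} : Set P) := by
      refine sup_le (sup_le ?_ ?_) ?_
      · intro u hu; exact mem_centralizer_singleton_iff.mpr (h.centralizer_U.ge hx.1.1 u hu)
      · intro u hu; exact mem_centralizer_singleton_iff.mpr (hx.1.2 u hu)
      · intro u hu; exact mem_centralizer_singleton_iff.mpr (hx.2 u hu)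
    exact mem_centralizer_singleton_iff.mp (hle ha)
  haveI hphin : (phi p X₃).Normal := by
    refine ⟨fun a ha s => ?_⟩
    have hs : s ∈ U ⊔ W ⊔ W' ⊔ X₃ := htop.ge (mem_top s)
    have hle : U ⊔ W ⊔ W' ⊔ X₃ ≤ normalizer (phi p X₃ : Set P) := by
      refine sup_le (fun b hb => ?_) fun b hb => ?_
      · refine mem_normalizer_fintype fun c hc => ?_
        rw [(hX₃c b hb c (hpX hc)).eq, mul_inv_cancel_right]
        exact hc
      · refine mem_normalizer_fintype fun c hc => ?_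
        have hm : (phi p X₃).map (MulAut.conj b).toMonoidHom ≤ phi p X₃ := by
          rw [map_phi]
          refine phi_mono ?_
          rintro _ ⟨d, hd, rfl⟩
          exact mul_mem (mul_mem hb hd) (inv_mem hb)
        exact hm (mem_map_of_mem _ hc)
    exact ((mem_normalizer_iff).mp (hle hs) a).mp ha
  haveI hUn : U.Normal := h.U_normal
  haveI hcn : (center P ⊔ phi p X₃).Normal := inferInstance
  set N := U ⊔ phi p X₃
  haveI hNn : N.Normal := inferInstance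
  let f := QuotientGroup.mk' N
  have hf1 : ∀ a ∈ N, f a = 1 := fun a ha => (QuotientGroup.eq_one_iff (N := N) _).mpr ha
  have hcomm : ∀ a b, ⁅a, b⁆ ∈ N → Commute (f a) (f b) := fun a b hab => by
    have := hf1 _ hab
    rw [map_commutatorElement] at this
    exact commutatorElement_eq_one_iff_mul_comm.mp this
  have hgen : ∀ a b : P, (a ∈ U ∨ a ∈ W ∨ a ∈ W' ∨ a ∈ X₃) → (b ∈ U ∨ b ∈ W ∨ b ∈ W' ∨ b ∈ X₃) →
      Commute (f a) (f b) := by
    intro a b ha hb
    have hone : ∀ c : P, Commute (1 : P ⧸ N) (f c) := fun c => Commute.one_left _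
    rcases ha with ha | ha | ha | ha
    · rw [hf1 a (mem_sup_left ha)]; exact hone b
    all_goals rcases hb with hb | hb | hb | hb
    · rw [hf1 b (mem_sup_left hb)]; exact Commute.one_right _
    · exact (show Commute a b from h.W_comm ha hb).map f
    · refine (hcomm b a ?_).symm
      exact mem_sup_left (h.mutual_comm hW hW' ha hb)
    · exact (hX₃c a (mem_sup_left (mem_sup_right ha)) b hb).map f
    · rw [hf1 b (mem_sup_left hb)]; exact Commute.one_right _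
    · exact hcomm a b (mem_sup_left (h.mutual_comm hW hW' hb ha))
    · exact (show Commute a b from h.symm.W_comm ha hb).map f
    · exact (hX₃c a (mem_sup_right ha) b hb).map f
    · rw [hf1 b (mem_sup_left hb)]; exact Commute.one_right _
    · exact (hX₃c b (mem_sup_left (mem_sup_right hb)) a ha).symm.map f
    · exact (hX₃c b (mem_sup_right hb) a ha).symm.map f
    · exact hcomm a b (mem_sup_right (subset_closure (Or.inr ⟨a, ha, b, hb, rfl⟩)))
  have hab : ∀ a b : P, Commute (f a) (f b) := by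
    have h1 : ∀ b : P, (b ∈ U ∨ b ∈ W ∨ b ∈ W' ∨ b ∈ X₃) → ∀ a : P, Commute (f a) (f b) := by
      intro b hb a
      have hle : U ⊔ W ⊔ W' ⊔ X₃ ≤ (centralizer ({f b} : Set (P ⧸ N))).comap f :=
        sup_le (sup_le (sup_le
          (fun c hc => mem_centralizer_singleton_iff.mpr (hgen c b (Or.inl hc) hb))
          (fun c hc => mem_centralizer_singleton_iff.mpr (hgen c b (Or.inr (Or.inl hc)) hb)))
          (fun c hc => mem_centralizer_singleton_iff.mpr (hgen c b (Or.inr (Or.inr (Or.inl hc))) hb)))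
          (fun c hc => mem_centralizer_singleton_iff.mpr (hgen c b (Or.inr (Or.inr (Or.inr hc))) hb))
      exact mem_centralizer_singleton_iff.mp (hle (htop.ge (mem_top a)))
    intro a b
    have hle : U ⊔ W ⊔ W' ⊔ X₃ ≤ (centralizer ({f a} : Set (P ⧸ N))).comap f :=
      sup_le (sup_le (sup_le
        (fun c hc => mem_centralizer_singleton_iff.mpr (h1 c (Or.inl hc) a).symm.eq)
        (fun c hc => mem_centralizer_singleton_iff.mpr (h1 c (Or.inr (Or.inl hc)) a).symm.eq))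
        (fun c hc => mem_centralizer_singleton_iff.mpr (h1 c (Or.inr (Or.inr (Or.inl hc))) a).symm.eq))
        (fun c hc => mem_centralizer_singleton_iff.mpr (h1 c (Or.inr (Or.inr (Or.inr hc))) a).symm.eq)
    exact (mem_centralizer_singleton_iff.mp (hle (htop.ge (mem_top b)))).symm
  have hpow : ∀ a : P, a ^ p ∈ N := by
    let E : Subgroup P :=
      { carrier := {a | f a ^ p = 1}
        one_mem' := by show f 1 ^ p = 1; rw [map_one, one_pow]
        mul_mem' := fun {a b} ha hb => by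
          show f (a * b) ^ p = 1
          rw [map_mul, (hab a b).mul_pow, show f a ^ p = 1 from ha, show f b ^ p = 1 from hb, one_mul]
        inv_mem' := fun {a} ha => by
          show f a⁻¹ ^ p = 1
          rw [map_inv, inv_pow, show f a ^ p = 1 from ha, inv_one] }
    have hle : U ⊔ W ⊔ W' ⊔ X₃ ≤ E := by
      refine sup_le (sup_le (sup_le ?_ ?_) ?_) ?_
      · intro a ha; show f a ^ p = 1; rw [← map_pow, h.U_pow ha, map_one]
      · intro a ha; show f a ^ p = 1; rw [← map_pow, h.W_pow ha, map_one]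
      · intro a ha; show f a ^ p = 1; rw [← map_pow, h.symm.W_pow ha, map_one]
      · intro a ha
        show f a ^ p = 1
        rw [← map_pow]
        exact hf1 _ (mem_sup_right (subset_closure (Or.inl ⟨a, ha, rfl⟩)))
    intro a
    refine (QuotientGroup.eq_one_iff (N := N) _).mp ?_
    show f (a ^ p) = 1
    rw [map_pow]
    exact hle (htop.ge (mem_top a))
  have hphi : phi p (⊤ : Subgroup P) ≤ N := by
    rw [phi, closure_le]
    rintro a (⟨s, -, rfl⟩ | ⟨s, -, r, -, rfl⟩)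
    · exact hpow s
    · refine (QuotientGroup.eq_one_iff (N := N) _).mp ?_
      show f ⁅s, r⁆ = 1
      rw [map_commutatorElement]
      exact commutatorElement_eq_one_iff_mul_comm.mpr (hab s r)
  have hN : ∀ a ∈ N, ∃ u ∈ U, ∃ b ∈ phi p X₃, u * b = a := fun a ha => mem_sup_of_normal_left.mp ha
  have hc1 : ⁅phi p (⊤ : Subgroup P), (⊤ : Subgroup P)⁆ ≤ center P ⊔ phi p X₃ := by
    refine (commutator_mono hphi le_rfl).trans (commutator_le.mpr fun a ha s _ => ?_)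
    obtain ⟨u, hu, b, hb, rfl⟩ := hN a ha
    rw [commutatorElement_mul_left_eq_conj_mul]
    refine mul_mem (hcn.conj_mem _ (mem_sup_right ?_) u) (mem_sup_left ?_)
    · rw [commutatorElement_def, show b * s * b⁻¹ * s⁻¹ = b * (s * b⁻¹ * s⁻¹) by group]
      exact mul_mem hb (hphin.conj_mem _ (inv_mem hb) s)
    · rw [commutatorElement_def]
      exact h.U_quad' hu s
  have hs0 : s0 p P ≤ phi p X₃ := by
    refine s0_le (fun h3 => absurd hp h3) (fun _ => ?_) (fun _ => ?_) (fun _ h3 => absurd hp h3)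
    · refine (commutator_mono hc1 le_rfl).trans (commutator_le.mpr fun a ha s _ => ?_)
      obtain ⟨c, hc, b, hb, rfl⟩ := mem_sup_of_normal_left.mp ha
      rw [commutatorElement_mul_left_eq_conj_mul,
        commutatorElement_eq_one_iff_mul_comm.mpr (mem_center_iff.mp hc s).symm, mul_one]
      refine hphin.conj_mem _ ?_ c
      rw [commutatorElement_def, show b * s * b⁻¹ * s⁻¹ = b * (s * b⁻¹ * s⁻¹) by group]
      exact mul_mem hb (hphin.conj_mem _ (inv_mem hb) s)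
    · refine le_trans (phi_mono hphi) ?_
      rw [show N = phi p X₃ ⊔ U from sup_comm _ _]
      refine (phi_sup_le (fun e he => h.U_pow he) ?_).trans (phi_mono hpX)
      intro u hu
      rw [centralizer_sup]
      refine ⟨fun b hb => ?_, fun b hb => ?_⟩
      · exact ((hX₃c u (mem_sup_left (mem_sup_left hu)) b (hpX hb)).symm).eq
      · exact h.centralizer_U.ge (h.U_le hu) b hb
  rintro z ⟨hz, hzc⟩
  exact phi_inf_center_le hl inf_le_left htr ⟨phi_mono hX₃₂ (hs0 hz), hzc⟩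

end Pair

end Cfsg.Agent.PushingUp
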