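import Cfsg.Agent.Lib.PushingUp.Value
import Cfsg.Agent.Lib.PGroup.Power

/-!
The subgroup `S₀` and the criterion for `S₀ ∩ Z(P) ≤ Z_G`.

* `s0`, `s0_le`; `frattini_eq_phi`.
* `Nice τ`: `S₀ ∩ Z(P)` is central in `G`.
* `Triv τ Q`: the `p'`-elements act trivially on `Q / Y`; `triv_of_elem`, `phi_inf_center_le`.
* `nice_of_crossing`.
-/

set_option autoImplicit false

open Subgroup Cfsg.Agent.CentrallyLarge
open scoped Pointwise commutatorElement

namespace Cfsg.Agent.PushingUp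

open Real

/-- The subgroup `S₀`. -/
def s0 (p : ℕ) (P : Type*) [Group P] : Subgroup P :=
  if p = 2 then ⁅phi p (⊤ : Subgroup P), (⊤ : Subgroup P)⁆ ⊔ phi p (phi p (⊤ : Subgroup P))
  else if p = 3 then ⁅⁅phi p (⊤ : Subgroup P), (⊤ : Subgroup P)⁆, (⊤ : Subgroup P)⁆ ⊔ phi p (phi p (⊤ : Subgroup P))
  else ⁅phi p (⊤ : Subgroup P), (⊤ : Subgroup P)⁆ ⊔ Cfsg.powerClosure p 1 (⊤ : Subgroup P)

variable {P : Type*} [Group P] [Finite P] {G : Type*} [Group G] [Finite G] {G' : Type*} [Group G']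
  [Finite G'] {p : ℕ} [Fact p.Prime] {τ : P →* G} {τ' : P →* G'}

theorem frattini_eq_phi (hP : IsPGroup p P) : frattini P = phi p (⊤ : Subgroup P) := by
  have h := phi_eq_frattini (X := (⊤ : Subgroup P)) (hP.to_subgroup ⊤)
  rw [← h]
  exact (PGroup.frattini_map (hP.to_subgroup ⊤) (f := (⊤ : Subgroup P).subtype)
    fun x => ⟨⟨x, mem_top x⟩, rfl⟩).symm

omit [Finite P] [Fact p.Prime] in
theorem s0_le {K : Subgroup P}
    (h1 : p ≠ 3 → ⁅phi p (⊤ : Subgroup P), (⊤ : Subgroup P)⁆ ≤ K)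
    (h2 : p = 3 → ⁅⁅phi p (⊤ : Subgroup P), (⊤ : Subgroup P)⁆, (⊤ : Subgroup P)⁆ ≤ K)
    (h3 : p = 2 ∨ p = 3 → phi p (phi p (⊤ : Subgroup P)) ≤ K)
    (h4 : p ≠ 2 → p ≠ 3 → Cfsg.powerClosure p 1 (⊤ : Subgroup P) ≤ K) : s0 p P ≤ K := by
  unfold s0
  split_ifs with e2 e3
  · exact sup_le (h1 (by omega)) (h3 (Or.inl e2))
  · exact sup_le (h2 e3) (h3 (Or.inr e3))
  · exact sup_le (h1 e3) (h4 e2 e3)

/-- `S₀ ∩ Z(P)` is central in `G`. -/
def Nice (p : ℕ) (τ : P →* G) : Prop := s0 p P ⊓ center P ≤ Zg τ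

/-- The `p'`-elements act trivially on `Q / Y`. -/
def Triv (p : ℕ) (τ : P →* G) (Q : Subgroup P) : Prop :=
  ∀ x : G, (orderOf x).Coprime p → ∀ t ∈ Q, ∃ y ∈ Y p τ, x * τ t * x⁻¹ = τ (t * y)

theorem triv_of_elem (h : Side p τ) {Q : Subgroup P} (hQn : (Q.map τ).Normal)
    {u : P} (hu : u ∉ T p τ) (hact : ∀ t ∈ Q, u * t * u⁻¹ * t⁻¹ ∈ Y p τ) : Triv p τ Q := by
  haveI := h.core.2.1
  haveI := hQn
  let f := QuotientGroup.mk' ((Y p τ).map τ)
  haveI : ((Q.map τ).map f).Normal := Subgroup.Normal.map hQn f (QuotientGroup.mk'_surjective _)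
  let N := (centralizer (((Q.map τ).map f : Subgroup _) : Set (G ⧸ (Y p τ).map τ))).comap f
  have huN : τ u ∈ N := by
    rintro _ ⟨_, ⟨t, ht, rfl⟩, rfl⟩
    have h1 : f (τ (u * t * u⁻¹ * t⁻¹)) = 1 :=
      (QuotientGroup.eq_one_iff (N := (Y p τ).map τ) _).mpr (mem_map_of_mem τ (hact t ht))
    simp only [map_mul, map_inv] at h1
    rw [mul_inv_eq_one, mul_inv_eq_iff_eq_mul] at h1
    exact h1.symm
  have htop : N ⊔ τ.range = ⊤ := by
    by_contra hne
    exact hu (mem_T.mpr (PushingUp.inf_le_pCore h.sit N hne ⟨huN, u, rfl⟩))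
  intro x hx t ht
  have hxN : x ∈ N := PushingUp.mem_of_sup_eq_top h.sit N htop hx
  have h1 : f (τ t) * f x = f x * f (τ t) := hxN (f (τ t)) (mem_map_of_mem f (mem_map_of_mem τ ht))
  have h2 : f (τ t) = f (x * τ t * x⁻¹) := by
    rw [map_mul, map_mul, map_inv, ← h1, mul_inv_cancel_right]
  obtain ⟨y, hy, he⟩ : (τ t)⁻¹ * (x * τ t * x⁻¹) ∈ (Y p τ).map τ := QuotientGroup.eq.mp h2
  refine ⟨y, hy, ?_⟩
  rw [map_mul, he]
  group

theorem phi_inf_center_le (h : Side p τ) {Q : Subgroup P} (hQ : Q ≤ T p τ) (htr : Triv p τ Q) :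
    phi p Q ⊓ center P ≤ Zg τ := by
  have hfix : ∀ x : G, (orderOf x).Coprime p → (phi p Q).map τ ≤ centralizer ({x} : Set G) := by
    intro x hx
    rw [phi, MonoidHom.map_closure, closure_le]
    rintro _ ⟨a, ha, rfl⟩
    show τ a ∈ centralizer ({x} : Set G)
    rw [mem_centralizer_singleton_iff]
    refine (mul_inv_eq_iff_eq_mul.mp ?_).symm
    rcases ha with ⟨t, ht, rfl⟩ | ⟨t, ht, s, hs, rfl⟩
    · obtain ⟨y, hy, he⟩ := htr x hx t ht
      rw [map_pow, ← conj_pow, he, ← map_pow, ← map_pow,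
        (show Commute t y from hy t (hQ ht)).mul_pow, h.pow_eq_one hy, mul_one]
    · obtain ⟨y, hy, he⟩ := htr x hx t ht
      obtain ⟨z, hz, he'⟩ := htr x hx s hs
      have h1 : Commute t z := hz t (hQ ht)
      have h2 : Commute s y := hy s (hQ hs)
      have h3 : Commute y z := h.Y_comm hy hz
      have e : ⁅t * y, s * z⁆ = ⁅t, s⁆ := by
        rw [commutatorElement_def, commutatorElement_def]
        calc t * y * (s * z) * (t * y)⁻¹ * (s * z)⁻¹
            = t * (y * s) * z * y⁻¹ * t⁻¹ * z⁻¹ * s⁻¹ := by group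
          _ = t * s * (y * z) * y⁻¹ * t⁻¹ * z⁻¹ * s⁻¹ := by rw [← h2.eq]; group
          _ = t * s * (z * t⁻¹) * z⁻¹ * s⁻¹ := by rw [h3.eq]; group
          _ = t * s * t⁻¹ * s⁻¹ := by rw [← h1.inv_left.eq]; group
      calc x * τ ⁅t, s⁆ * x⁻¹ = ⁅x * τ t * x⁻¹, x * τ s * x⁻¹⁆ := by
            simp only [commutatorElement_def, map_mul, map_inv]; group
        _ = τ ⁅t, s⁆ := by rw [he, he', ← map_commutatorElement, e]
  rintro z ⟨hz, hzc⟩
  refine mem_Zg.mpr fun k => ?_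
  have htop : centralizer ({τ z} : Set G) = ⊤ := by
    refine PushingUp.eq_top_of_coprime_mem h.sit ?_ fun x hx => ?_
    · rintro _ ⟨a, rfl⟩
      rw [mem_centralizer_singleton_iff, ← map_mul, ← map_mul, mem_center_iff.mp hzc a]
    · rw [mem_centralizer_singleton_iff]
      exact (mem_centralizer_singleton_iff.mp (hfix x hx (mem_map_of_mem τ hz))).symm
  exact mem_centralizer_singleton_iff.mp (htop ▸ mem_top k)

/-- If `Y'` is not in `T`, both realisations are nice. -/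
theorem nice_of_crossing (h : Side p τ) (h' : Side p τ') (hcr : ¬ Y p τ' ≤ T p τ) : Nice p τ := by
  obtain ⟨v, hvY, hvT⟩ := SetLike.not_le_iff_exists.mp hcr
  have hcr' : ¬ Y p τ ≤ T p τ' := by
    rw [← h'.centralizer_Y, Subgroup.le_centralizer_iff, h.centralizer_Y]
    exact hcr
  obtain ⟨v', hv'Y, hv'T⟩ := SetLike.not_le_iff_exists.mp hcr'
  have hYT' : Y p τ ⊓ T p τ' = center P := by
    refine le_antisymm ?_ (le_inf Side.center_le_Y (Side.center_le_Y.trans h'.centralizer_T_le))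
    rintro y ⟨hy, hy'⟩
    exact h.mem_center_of_commute hvT hy (hvY y hy').symm
  have hY'T : Y p τ' ⊓ T p τ = center P := by
    refine le_antisymm ?_ (le_inf Side.center_le_Y (Side.center_le_Y.trans h.centralizer_T_le))
    rintro y ⟨hy, hy'⟩
    exact h'.mem_center_of_commute hv'T hy (hv'Y y hy').symm
  have hXl := centralizerLarge_inf h.large_T h'.large_T
  set X := T p τ ⊓ T p τ'
  have hCX : centralizer (X : Set P) = Y p τ ⊔ Y p τ' := centralizer_inf_eq h.large_T h'.large_T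
  have hT : T p τ = X ⊔ Y p τ := by
    rw [← centralizer_centralizer_eq (centralizerLarge_sup hXl h.large_Y), centralizer_sup, hCX,
      h.centralizer_Y]
    have e : (Y p τ ⊔ Y p τ') ⊓ T p τ = Y p τ := by
      refine le_antisymm ?_ (le_inf le_sup_left h.centralizer_T_le)
      rintro x ⟨hx, hxT⟩
      replace hx : x ∈ Y p τ ⊔ Y p τ' := hx
      rw [← SetLike.mem_coe, coe_sup_eq_mul h.large_Y h'.large_Y] at hx
      obtain ⟨y, hy, y', hy', rfl⟩ := hx
      have hy'T : y' ∈ T p τ := by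
        simpa using (T p τ).mul_mem ((T p τ).inv_mem (h.centralizer_T_le hy)) hxT
      exact mul_mem hy (Side.center_le_Y (hY'T.le ⟨hy', hy'T⟩))
    rw [e, h.centralizer_Y]
  have hS : ∀ s : P, ∃ x ∈ X, ∃ y ∈ Y p τ, ∃ y' ∈ Y p τ', x * y * y' = s := by
    intro s
    have e : T p τ ⊔ Y p τ' = ⊤ := by
      rw [← centralizer_centralizer_eq (centralizerLarge_sup h.large_T h'.large_Y), centralizer_sup,
        h'.centralizer_Y]
      show centralizer ((Y p τ ⊓ T p τ' : Subgroup P) : Set P) = ⊤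
      rw [hYT']
      exact top_le_iff.mp fun a _ z hz => (mem_center_iff.mp hz a).symm
    obtain ⟨t, ht, y', hy', rfl⟩ : s ∈ (T p τ : Set P) * (Y p τ' : Set P) := by
      rw [← coe_sup_eq_mul h.large_T h'.large_Y, e]; exact mem_top s
    rw [hT, coe_sup_eq_mul hXl h.large_Y] at ht
    obtain ⟨x, hx, y, hy, rfl⟩ := ht
    exact ⟨x, hx, y, hy, y', hy', rfl⟩
  have hxy : ∀ x ∈ X, ∀ y ∈ Y p τ, ∀ y' ∈ Y p τ', Commute x (y * y') := fun x hx y hy y' hy' =>
    Commute.mul_right (hy x hx.1) (hy' x hx.2)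
  have hcen : ∀ y ∈ Y p τ, ∀ y' ∈ Y p τ', ⁅y, y'⁆ ∈ center P := fun y hy y' _ => by
    have h1 := inv_mem (h.quad hy y')
    rw [← commutatorElement_def, commutatorElement_inv] at h1
    exact h1
  set W := phi p X ⊔ center P
  have hphi : phi p (⊤ : Subgroup P) ≤ W := by
    rw [phi, closure_le]
    rintro a (⟨s, -, rfl⟩ | ⟨s, -, r, -, rfl⟩)
    · obtain ⟨x, hx, y, hy, y', hy', rfl⟩ := hS s
      show (x * y * y') ^ p ∈ W
      rw [mul_assoc x y y', (hxy x hx y hy y' hy').mul_pow]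
      refine mul_mem (mem_sup_left (subset_closure (Or.inl ⟨x, hx, rfl⟩))) (mem_sup_right ?_)
      have hc := hcen y hy y' hy'
      have hc' : ⁅y', y⁆ ∈ center P := by rw [← commutatorElement_inv]; exact inv_mem hc
      rw [PGroup.mul_pow_eq (show Commute y ⁅y', y⁆ from (mem_center_iff.mp hc' y))
        (show Commute y' ⁅y', y⁆ from (mem_center_iff.mp hc' y')), h.pow_eq_one hy, h'.pow_eq_one hy',
        mul_one, mul_one]
      exact pow_mem hc' _
    · obtain ⟨x, hx, y, hy, y', hy', rfl⟩ := hS s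
      obtain ⟨x₁, hx₁, y₁, hy₁, y₁', hy₁', rfl⟩ := hS r
      show ⁅x * y * y', x₁ * y₁ * y₁'⁆ ∈ W
      have e : ⁅x * y * y', x₁ * y₁ * y₁'⁆ = ⁅x, x₁⁆ * ⁅y * y', y₁ * y₁'⁆ := by
        have c1 := hxy x₁ hx₁ y hy y' hy'
        have c2 := hxy x hx y₁ hy₁ y₁' hy₁'
        have c3 := hxy x hx y hy y' hy'
        have c4 := hxy x₁ hx₁ y₁ hy₁ y₁' hy₁'
        rw [mul_assoc x y y', mul_assoc x₁ y₁ y₁', commutatorElement_def, commutatorElement_def,
          commutatorElement_def]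
        generalize y * y' = a at c1 c3 ⊢
        generalize y₁ * y₁' = b at c2 c4 ⊢
        calc x * a * (x₁ * b) * (x * a)⁻¹ * (x₁ * b)⁻¹
            = x * (a * x₁) * b * a⁻¹ * x⁻¹ * b⁻¹ * x₁⁻¹ := by group
          _ = x * x₁ * (a * b * a⁻¹ * x⁻¹) * b⁻¹ * x₁⁻¹ := by rw [← c1.eq]; group
          _ = x * x₁ * (x⁻¹ * (a * b * a⁻¹)) * b⁻¹ * x₁⁻¹ := by
              rw [show a * b * a⁻¹ * x⁻¹ = x⁻¹ * (a * b * a⁻¹) from
                (((c3.mul_right c2).mul_right c3.inv_right).inv_left).eq.symm]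
          _ = x * x₁ * x⁻¹ * (a * b * a⁻¹ * b⁻¹ * x₁⁻¹) := by group
          _ = x * x₁ * x⁻¹ * (x₁⁻¹ * (a * b * a⁻¹ * b⁻¹)) := by
              rw [show a * b * a⁻¹ * b⁻¹ * x₁⁻¹ = x₁⁻¹ * (a * b * a⁻¹ * b⁻¹) from
                ((((c1.mul_right c4).mul_right c1.inv_right).mul_right c4.inv_right).inv_left).eq.symm]
          _ = _ := by group
      rw [e]
      refine mul_mem (mem_sup_left (subset_closure (Or.inr ⟨x, hx, x₁, hx₁, rfl⟩))) (mem_sup_right ?_)
      rw [PGroup.commutator_mul_left, PGroup.commutator_mul_right, PGroup.commutator_mul_right]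
      · have h1 : ⁅y', y₁⁆ ∈ center P := by rw [← commutatorElement_inv]; exact inv_mem (hcen _ hy₁ _ hy')
        have h2 : ⁅y, y₁⁆ = 1 := commutatorElement_eq_one_iff_mul_comm.mpr (h.Y_comm hy hy₁)
        have h3 : ⁅y', y₁'⁆ = 1 := commutatorElement_eq_one_iff_mul_comm.mpr (h'.Y_comm hy' hy₁')
        rw [h2, h3, one_mul, mul_one]
        exact mul_mem h1 (hcen y hy y₁' hy₁')
      · exact mem_center_iff.mp (hcen y hy y₁' hy₁') y₁
      · rw [commutatorElement_eq_one_iff_mul_comm.mpr (h'.Y_comm hy' hy₁')]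
        exact Commute.one_right _
      · rw [PGroup.commutator_mul_right (by
          rw [commutatorElement_eq_one_iff_mul_comm.mpr (h'.Y_comm hy' hy₁')]
          exact Commute.one_right _), commutatorElement_eq_one_iff_mul_comm.mpr (h'.Y_comm hy' hy₁'),
          mul_one]
        have h1 : ⁅y', y₁⁆ ∈ center P := by rw [← commutatorElement_inv]; exact inv_mem (hcen _ hy₁ _ hy')
        exact mem_center_iff.mp h1 y
  have hphiX : phi p X ≤ X := by
    rw [phi, closure_le]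
    rintro a (⟨s, hs, rfl⟩ | ⟨s, hs, r, hr, rfl⟩)
    · exact pow_mem hs p
    · exact mul_mem (mul_mem (mul_mem hs hr) (inv_mem hs)) (inv_mem hr)
  have hW : ∀ b ∈ W, ∃ a ∈ phi p X, ∃ c ∈ center P, a * c = b := fun b hb => mem_sup_of_normal_right.mp hb
  have hPW : s0 p P ≤ phi p X := by
    have hcomm : ⁅phi p (⊤ : Subgroup P), (⊤ : Subgroup P)⁆ ≤ phi p X := by
      refine (commutator_mono hphi le_rfl).trans (commutator_le.mpr fun b hb s _ => ?_)
      obtain ⟨a, ha, c, hc, rfl⟩ := hW b hb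
      obtain ⟨x, hx, y, hy, y', hy', rfl⟩ := hS s
      have c1 : Commute a (y * y') := hxy a (hphiX ha) y hy y' hy'
      have e : ⁅a * c, x * y * y'⁆ = ⁅a, x⁆ := by
        have e1 : ⁅c, x * y * y'⁆ = 1 :=
          commutatorElement_eq_one_iff_mul_comm.mpr (mem_center_iff.mp hc (x * y * y')).symm
        rw [PGroup.commutator_mul_left (by rw [e1]; exact Commute.one_right _), e1, one_mul, mul_assoc,
          PGroup.commutator_mul_right (by
            rw [commutatorElement_eq_one_iff_mul_comm.mpr c1.eq]; exact Commute.one_right _),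
          commutatorElement_eq_one_iff_mul_comm.mpr c1.eq, mul_one]
      rw [e]
      exact subset_closure (Or.inr ⟨a, hphiX ha, x, hx, rfl⟩)
    refine s0_le (fun _ => hcomm) (fun _ => (commutator_mono hcomm le_rfl).trans ?_) (fun _ => ?_) ?_
    · refine commutator_le.mpr fun a ha s _ => hcomm (commutator_mem_commutator ?_ (mem_top s))
      exact phi_mono le_top ha
    · conv_lhs => rw [phi]
      rw [closure_le]
      rintro b (⟨r, hr, rfl⟩ | ⟨r, hr, s, hs, rfl⟩)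
      · obtain ⟨a, ha, c, hc, rfl⟩ := hW r (hphi hr)
        show (a * c) ^ p ∈ phi p X
        rw [(show Commute a c from mem_center_iff.mp hc a).mul_pow, h.zel c hc, mul_one]
        exact pow_mem ha p
      · exact hcomm (commutator_mem_commutator hr (mem_top s))
    · intro hp2 _
      rw [Cfsg.powerClosure, closure_le]
      rintro b ⟨s, -, rfl⟩
      obtain ⟨x, hx, y, hy, y', hy', rfl⟩ := hS s
      show (x * y * y') ^ p ^ 1 ∈ phi p X
      rw [pow_one, mul_assoc x y y', (hxy x hx y hy y' hy').mul_pow]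
      have hc : ⁅y', y⁆ ∈ center P := by rw [← commutatorElement_inv]; exact inv_mem (hcen y hy y' hy')
      rw [PGroup.mul_pow_prime_eq (Fact.out) hp2 (mem_center_iff.mp hc y) (mem_center_iff.mp hc y')
        (h.zel _ hc), h.pow_eq_one hy, h'.pow_eq_one hy', mul_one, mul_one]
      exact subset_closure (Or.inl ⟨x, hx, rfl⟩)
  have htr : Triv p τ (T p τ) := by
    refine triv_of_elem h ?_ hvT fun t ht => ?_
    · rw [T, map_comap_eq_self h.core_le]; exact Cores.pCore_normal p G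
    · rw [hT, ← SetLike.mem_coe, coe_sup_eq_mul hXl h.large_Y] at ht
      obtain ⟨x, hx, y, hy, rfl⟩ := ht
      have e : v * (x * y) * v⁻¹ * (x * y)⁻¹ = x * (v * y * v⁻¹ * y⁻¹) * x⁻¹ := by
        have : v * x = x * v := (hvY x hx.2).symm
        calc v * (x * y) * v⁻¹ * (x * y)⁻¹ = (v * x) * y * v⁻¹ * y⁻¹ * x⁻¹ := by group
          _ = _ := by rw [this]; group
      rw [e, mem_center_iff.mp (h.quad hy v) x, mul_inv_cancel_right]
      exact Side.center_le_Y (h.quad hy v)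
  rintro z ⟨hz, hzc⟩
  exact phi_inf_center_le h le_rfl htr ⟨phi_mono inf_le_left (hPW hz), hzc⟩

end Cfsg.Agent.PushingUp
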