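import Cfsg.Agent.Lib.PushingUp.Five

/-!
Two realisations in which `S₀ ∩ Z(P)` is not central.

* `two_groups`: `Y' ≤ T`, and `Y Y'` is normal in both groups.
-/

set_option autoImplicit false

open Subgroup Cfsg.Agent.CentrallyLarge
open scoped Pointwise

namespace Cfsg.Agent.PushingUp

open Real

variable {P : Type*} [Group P] [Finite P] {G : Type*} [Group G] [Finite G] {G' : Type*} [Group G']
  [Finite G'] {p : ℕ} [Fact p.Prime] {τ : P →* G} {τ' : P →* G'}

theorem Pair.both_normal (h : Pair p τ τ') (hn : ¬ Nice p τ) :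
    ((Y p τ ⊔ Y p τ').map τ).Normal ∧ ((Y p τ ⊔ Y p τ').map τ').Normal := by
  by_cases h1 : ((Y p τ ⊔ Y p τ').map τ).Normal
  · refine ⟨h1, not_not.mp fun h2 => ?_⟩
    rw [sup_comm] at h2 h1
    exact h.symm.mixed h2 h1
  · exfalso
    have h2 := h.mixed h1
    rw [sup_comm] at h2
    rcases eq_or_ne p 2 with hp | hp
    · exact h.mutual_two h1 h2 hp
    rcases eq_or_ne p 3 with hp3 | hp3
    · exact hn (h.mutual_three h1 h2 hp3)
    refine h.mutual_five h1 h2 ?_
    have := (Fact.out : p.Prime).two_le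
    have hp4 : p ≠ 4 := by
      rintro rfl
      exact absurd (Fact.out : (4 : ℕ).Prime) (by norm_num)
    omega

theorem two_groups (h : Side p τ) (h' : Side p τ')
    (ha : ∀ A ∈ Cfsg.maxAbelianSubgroups P, Cfsg.IsCentralizerLarge A) (hn : ¬ Nice p τ) :
    Y p τ' ≤ T p τ ∧ ((Y p τ ⊔ Y p τ').map τ).Normal ∧ ((Y p τ ⊔ Y p τ').map τ').Normal := by
  have hnc : Y p τ' ≤ T p τ := not_not.mp fun hc => hn (nice_of_crossing h h' hc)
  refine ⟨hnc, ?_⟩
  rcases eq_or_ne (T p τ) (T p τ') with he | he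
  · have hY : Y p τ' = Y p τ := by unfold Y; rw [he]
    rw [hY, sup_idem]
    exact ⟨h.core.2.1, hY ▸ h'.core.2.1⟩
  · exact Pair.both_normal ⟨h, h', ha, hnc, he⟩ hn

end Cfsg.Agent.PushingUp
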