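import Cfsg.Agent.Lib.PushingUp.Apply
import Cfsg.Agent.Lib.PushUp.Baumann

/-!
Facts from the `PSL₂(p^n)` quotient.

* `Gen`, `gen_of_not_mem`: the generating elements are those outside the maximal subgroup over `S`.
* `gen_conj`: `g⁻¹ t g` is generating for `t ∈ S \ O_p(G)`.
* `commutator_mem`, `pow_mem_pCore`: `S / O_p(G)` is elementary abelian.
* `index_centralizer_ge`, `sq_or`: the bounds on a module.
-/

set_option autoImplicit false

open Subgroup MulAction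
open scoped Pointwise

namespace Cfsg.Agent.PushingUp

variable {G : Type*} [Group G] [Finite G] {p : ℕ} [Fact p.Prime] {S : Subgroup G}

theorem sylow_image_abelian {F : Type*} [Field F] [Finite F] [CharP F p] {P : PSL2.Pt F}
    {x y : PSL2.PSL2 F} (hx : x • P = P) (hy : y • P = P) (hxp : x ^ p = 1) (hyp : y ^ p = 1) :
    x * y = y * x := by
  obtain ⟨k, hk⟩ := PSL2.exists_map_pinf P
  have hk' : k⁻¹ • (PSL2.pinf : PSL2.Pt F) = P := by rw [← hk, inv_smul_smul]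
  have key : ∀ z : PSL2.PSL2 F, z • P = P → z ^ p = 1 →
      ∃ b, k * Matrix.ProjectiveSpecialLinearGroup.toPGL z * k⁻¹ = PSL2.aff 1 b := by
    intro z hz hzp
    obtain ⟨a, b, hab⟩ := PSL2.exists_aff_of_fix (g := k * Matrix.ProjectiveSpecialLinearGroup.toPGL z * k⁻¹)
      (by rw [mul_smul, mul_smul, hk', PSL2.toPGL_smul, hz, hk])
    refine ⟨b, ?_⟩
    have h1 : (PSL2.aff a b) ^ p = 1 := by
      rw [← hab, conj_pow, ← map_pow, hzp, map_one, mul_one, mul_inv_cancel]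
    rw [PSL2.aff_pow_char_iff p] at h1
    rw [hab, h1]
  obtain ⟨b, hb⟩ := key x hx hxp
  obtain ⟨c, hc⟩ := key y hy hyp
  apply Matrix.ProjectiveSpecialLinearGroup.toPGL_injective
  have h2 : k * Matrix.ProjectiveSpecialLinearGroup.toPGL (x * y) * k⁻¹ =
      k * Matrix.ProjectiveSpecialLinearGroup.toPGL (y * x) * k⁻¹ := by
    calc k * Matrix.ProjectiveSpecialLinearGroup.toPGL (x * y) * k⁻¹
        = (k * Matrix.ProjectiveSpecialLinearGroup.toPGL x * k⁻¹) *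
            (k * Matrix.ProjectiveSpecialLinearGroup.toPGL y * k⁻¹) := by rw [map_mul]; group
      _ = PSL2.aff 1 b * PSL2.aff 1 c := by rw [hb, hc]
      _ = PSL2.aff 1 c * PSL2.aff 1 b := by
          rw [PSL2.aff_mul_aff, PSL2.aff_mul_aff, Units.val_one, one_mul, one_mul, one_mul, add_comm]
      _ = (k * Matrix.ProjectiveSpecialLinearGroup.toPGL y * k⁻¹) *
            (k * Matrix.ProjectiveSpecialLinearGroup.toPGL x * k⁻¹) := by rw [hb, hc]
      _ = k * Matrix.ProjectiveSpecialLinearGroup.toPGL (y * x) * k⁻¹ := by rw [map_mul]; group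
  exact mul_left_cancel (mul_right_cancel h2)

/-- The data of the quotient. -/
theorem exists_quot (hE : Cfsg.IsPushingUpSituation p S) :
    ∃ (F : Type) (_ : Field F) (_ : Fintype F) (n : ℕ) (π : G →* PSL2.PSL2 F) (pt : PSL2.Pt F),
      Fintype.card F = p ^ n ∧ Function.Surjective π ∧ π.ker ⊔ S ≠ ⊤ ∧ π.ker ⊓ S ≤ Cfsg.pCore p G ∧
      (∀ g : G, π g • pt ≠ pt → ∀ u ∈ S, u ∉ Cfsg.pCore p G → zpowers u ⊔ MulAut.conj g • S = ⊤) ∧
      S ≤ (stabilizer (PSL2.PSL2 F) pt).comap π ∧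
      IsCoatom ((stabilizer (PSL2.PSL2 F) pt).comap π) ∧
      (∀ u ∈ S, π u ^ p = 1) ∧ (∀ u ∈ S, ∀ v ∈ S, π u * π v = π v * π u) := by
  obtain ⟨hne, ⟨P, hP⟩, hcore, huniq, K, hKn, F, _, _, n, hF, ⟨e⟩⟩ := id hE
  subst hP
  haveI : CharP F p := charP_of_card_eq_prime_pow hF
  haveI : Finite F := Finite.of_fintype F
  let φ : G →* PSL2.PSL2 F := e.toMonoidHom.comp (QuotientGroup.mk' K)
  have hφ : Function.Surjective φ := e.surjective.comp (QuotientGroup.mk'_surjective K)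
  obtain ⟨Q, hQ⟩ := (P.2.map φ).exists_le_sylow
  obtain ⟨pt₀, hpt⟩ := PSL2.normalizer_sylow_le p Q
  have hSφ : (P : Subgroup G).map φ ≤ stabilizer (PSL2.PSL2 F) pt₀ :=
    hQ.trans (le_normalizer.trans hpt)
  set M := (stabilizer (PSL2.PSL2 F) pt₀).comap φ with hMdef
  have hM : IsCoatom M := Subgroup.isCoatom_comap_of_surjective hφ (PSL2.isCoatom_stabilizer_psl pt₀)
  have hSM : (P : Subgroup G) ≤ M := map_le_iff_le_comap.mp hSφ
  have hkerM : φ.ker ≤ M := fun x hx => by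
    rw [hMdef, mem_comap, show φ x = 1 from hx]; exact one_mem _
  have hker : φ.ker ⊔ (P : Subgroup G) ≠ ⊤ := fun h => hM.1 (top_le_iff.1 (h ▸ sup_le hkerM hSM))
  have hkerT : φ.ker ⊓ (P : Subgroup G) ≤ Cfsg.pCore p G := inf_le_pCore hE _ hker
  have hpow : ∀ u ∈ (P : Subgroup G), φ u ^ p = 1 := by
    intro u hu
    obtain ⟨ψ, hψ⟩ := PSL2.exists_borel_hom (F := F) p pt₀
    refine (hψ ⟨φ u, hSφ (mem_map_of_mem φ hu)⟩).1 ?_
    obtain ⟨k, hk⟩ := P.2 ⟨u, hu⟩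
    have hk' : u ^ p ^ k = 1 := congrArg Subtype.val hk
    have h1 : (ψ ⟨φ u, hSφ (mem_map_of_mem φ hu)⟩) ^ p ^ k = 1 := by
      rw [← map_pow]
      convert map_one ψ
      exact Subtype.ext (by simp [← map_pow, hk'])
    have hc := PSL2.coprime_of_units (K := F) p
      (isOfFinOrder_of_finite (ψ ⟨φ u, hSφ (mem_map_of_mem φ hu)⟩))
    exact orderOf_eq_one_iff.mp (Nat.eq_one_of_dvd_coprimes (hc.pow_right k) dvd_rfl
      (orderOf_dvd_of_pow_eq_one h1))
  have hfix : ∀ g : G, φ g • pt₀ ≠ pt₀ → ∀ u ∈ (P : Subgroup G), u ∉ Cfsg.pCore p G →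
      zpowers u ⊔ MulAut.conj g • (P : Subgroup G) = ⊤ := by
    intro g hg u hu huT
    by_contra hne'
    have hu1 : φ u ≠ 1 := fun h => huT (hkerT ⟨h, hu⟩)
    have h1 : (P : Subgroup G) ≤ MulAut.conj g⁻¹ • (zpowers u ⊔ MulAut.conj g • (P : Subgroup G)) := by
      rw [Subgroup.smul_sup, smul_smul, ← map_mul, inv_mul_cancel, map_one, one_smul]
      exact le_sup_right
    have h2 : MulAut.conj g⁻¹ • (zpowers u ⊔ MulAut.conj g • (P : Subgroup G)) ≠ ⊤ := by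
      intro h
      apply hne'
      refine top_le_iff.mp fun x _ => ?_
      have hx : g⁻¹ * x * g ∈ (⊤ : Subgroup G) := mem_top _
      rw [← h, Subgroup.mem_pointwise_smul_iff_inv_smul_mem, ← map_inv, inv_inv] at hx
      have hx' : g * (g⁻¹ * x * g) * g⁻¹ ∈ zpowers u ⊔ MulAut.conj g • (P : Subgroup G) := hx
      simpa [mul_assoc] using hx'
    have h3 := PIrred.le_of_ne_top huniq ⟨hM, hSM⟩ h1 h2
    have h4 : g⁻¹ * u * g ∈ M := by
      refine h3 ?_
      rw [Subgroup.mem_pointwise_smul_iff_inv_smul_mem, ← map_inv, inv_inv]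
      show g * (g⁻¹ * u * g) * g⁻¹ ∈ _
      rw [show g * (g⁻¹ * u * g) * g⁻¹ = u by group]
      exact mem_sup_left (mem_zpowers u)
    have hfix1 : φ u • pt₀ = pt₀ := hSM hu
    have hfix2 : φ u • (φ g • pt₀) = φ g • pt₀ := by
      have h5 : φ (g⁻¹ * u * g) • pt₀ = pt₀ := h4
      rw [map_mul, map_mul, map_inv, mul_smul, mul_smul, inv_smul_eq_iff] at h5
      exact h5
    refine hg (PSL2.eq_of_fix_pow_char p
      (fun h => hu1 (Matrix.ProjectiveSpecialLinearGroup.toPGL_injective (h.trans (map_one _).symm)))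
      (by rw [← map_pow, hpow u hu, map_one]) ?_ ?_).symm
    · rw [PSL2.toPGL_smul]; exact hfix1
    · rw [PSL2.toPGL_smul]; exact hfix2
  exact ⟨F, inferInstance, inferInstance, n, φ, pt₀, hF, hφ, hker, hkerT, hfix, hSM, hM, hpow,
    fun u hu v hv => sylow_image_abelian (hSM hu) (hSM hv) (hpow u hu) (hpow v hv)⟩

/-- `g` and `g⁻¹` generate with each element of `S \ O_p(G)`. -/
def Gen (p : ℕ) (S : Subgroup G) (g : G) : Prop :=
  ∀ u ∈ S, u ∉ Cfsg.pCore p G →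
    zpowers u ⊔ MulAut.conj g • S = ⊤ ∧ zpowers u ⊔ MulAut.conj g⁻¹ • S = ⊤

theorem gen_of_not_mem (hE : Cfsg.IsPushingUpSituation p S) {M : Subgroup G} (hM : IsCoatom M)
    (hSM : S ≤ M) {g : G} (hg : g ∉ M) : Gen p S g := by
  obtain ⟨F, _, _, n, π, pt, -, -, -, -, hfix, hSS, hMM, -, -⟩ := exists_quot hE
  obtain ⟨-, -, -, ⟨M₀, -, huniq⟩, -⟩ := id hE
  have hMe : M = (stabilizer (PSL2.PSL2 F) pt).comap π :=
    (huniq M ⟨hM, hSM⟩).trans (huniq _ ⟨hMM, hSS⟩).symm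
  have h1 : π g • pt ≠ pt := fun h => hg (hMe ▸ h)
  have h2 : π g⁻¹ • pt ≠ pt := fun h => hg (by
    rw [← inv_inv g]
    exact inv_mem (hMe ▸ h))
  exact fun u hu huT => ⟨hfix g h1 u hu huT, hfix g⁻¹ h2 u hu huT⟩

theorem exists_coatom (hE : Cfsg.IsPushingUpSituation p S) : ∃ M : Subgroup G, IsCoatom M ∧ S ≤ M := by
  obtain ⟨-, -, -, ⟨M, hM, -⟩, -⟩ := id hE
  exact ⟨M, hM⟩

theorem exists_Gen (hE : Cfsg.IsPushingUpSituation p S) : ∃ g, Gen p S g := by
  obtain ⟨M, hM, hSM⟩ := exists_coatom hE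
  obtain ⟨g, -, hg⟩ := SetLike.exists_of_lt hM.1.lt_top
  exact ⟨g, gen_of_not_mem hE hM hSM hg⟩

omit [Finite G] [Fact p.Prime] in
theorem Gen.inv {g : G} (h : Gen p S g) : Gen p S g⁻¹ := fun u hu huT =>
  ⟨(h u hu huT).2, by rw [inv_inv]; exact (h u hu huT).1⟩

theorem gen_conj (hE : Cfsg.IsPushingUpSituation p S) {g t : G} (hg : Gen p S g) (ht : t ∈ S)
    (htT : t ∉ Cfsg.pCore p G) : Gen p S (g⁻¹ * t * g) := by
  obtain ⟨M, hM, hSM⟩ := exists_coatom hE
  refine gen_of_not_mem hE hM hSM fun hmem => hM.1 (top_le_iff.1 fun x _ => ?_)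
  have hle : zpowers t ⊔ MulAut.conj g • S ≤ MulAut.conj g • M := by
    refine sup_le (zpowers_le.mpr ?_) fun y hy => ?_
    · rw [Subgroup.mem_pointwise_smul_iff_inv_smul_mem, ← map_inv]
      show g⁻¹ * t * (g⁻¹)⁻¹ ∈ M
      rwa [inv_inv]
    · rw [Subgroup.mem_pointwise_smul_iff_inv_smul_mem] at hy ⊢
      exact hSM hy
  rw [(hg t ht htT).1] at hle
  exact (Subgroup.smul_mem_pointwise_smul_iff (a := MulAut.conj g)).mp (hle (mem_top _))

theorem commutator_mem (hE : Cfsg.IsPushingUpSituation p S) {a b : G} (ha : a ∈ S) (hb : b ∈ S) :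
    a * b * a⁻¹ * b⁻¹ ∈ Cfsg.pCore p G := by
  obtain ⟨F, _, _, n, π, pt, -, -, -, hker, -, -, -, -, hab⟩ := exists_quot hE
  refine hker ⟨?_, S.mul_mem (S.mul_mem (S.mul_mem ha hb) (S.inv_mem ha)) (S.inv_mem hb)⟩
  show π (a * b * a⁻¹ * b⁻¹) = 1
  rw [map_mul, map_mul, map_mul, map_inv, map_inv, hab a ha b hb, mul_inv_cancel_right, mul_inv_cancel]

theorem pow_mem_pCore (hE : Cfsg.IsPushingUpSituation p S) {a : G} (ha : a ∈ S) :
    a ^ p ∈ Cfsg.pCore p G := by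
  obtain ⟨F, _, _, n, π, pt, -, -, -, hker, -, -, -, hpow, -⟩ := exists_quot hE
  refine hker ⟨?_, pow_mem ha p⟩
  show π (a ^ p) = 1
  rw [map_pow, hpow a ha]

theorem not_pResidual_le (hE : Cfsg.IsPushingUpSituation p S) {N : Subgroup G} (hN : N ⊔ S ≠ ⊤) :
    ¬ Cfsg.pResidual p G ≤ N := by
  intro h
  obtain ⟨-, ⟨P, rfl⟩, -⟩ := id hE
  exact hN (top_le_iff.1 ((PReduced.pResidual_sup_sylow P).ge.trans (sup_le (h.trans le_sup_left) le_sup_right)))

theorem isPGroup_zpowers (hE : Cfsg.IsPushingUpSituation p S) {u : G} (hu : u ∈ S) :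
    IsPGroup p ↥(zpowers u) := (isPGroup hE).to_le (zpowers_le.mpr hu)

/-- An element of `S \ O_p(G)` moves a module at least `|S : O_p(G)|` fold. -/
theorem index_centralizer_ge (hE : Cfsg.IsPushingUpSituation p S) (V : Subgroup G) [V.Normal]
    (hVp : IsPGroup p V) (hC : centralizer (V : Set G) ⊔ S ≠ ⊤) {u : G} (hu : u ∈ S)
    (huT : u ∉ Cfsg.pCore p G) :
    (Cfsg.pCore p G).relIndex S ≤ (V ⊓ centralizer ({u} : Set G)).relIndex V := by
  obtain ⟨F, _, _, n, π, pt, hF, hπ, hker, hkerT, -, -, -, -, -⟩ := exists_quot hE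
  haveI : CharP F p := charP_of_card_eq_prime_pow hF
  have hle : (Cfsg.pCore p G).relIndex S ≤ p ^ n := by
    refine le_trans ?_ ((PushUp.card_le_of_psl hF ((isPGroup hE).map π)).1)
    have h1 : π.ker.relIndex S = Nat.card ↥(S.map π) := by rw [Subgroup.relIndex_ker]
    rw [← h1, ← Subgroup.inf_relIndex_right π.ker S]
    exact Subgroup.relIndex_le_of_le_left hkerT Subgroup.index_ne_zero_of_finite
  refine hle.trans ?_
  by_cases hn : 2 ≤ n
  · obtain ⟨-, ⟨P, rfl⟩, -, hu', -⟩ := id hE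
    refine PushUp.index_ge_of_psl hF hn hVp π hπ
      (PushUp.le_ker hu' hF hn π hπ (not_pResidual_le hE hC)) (isPGroup_zpowers hE hu) ?_
    exact fun h => huT (hkerT ⟨h, hu⟩)
  have hne : (V ⊓ centralizer ({u} : Set G)).relIndex V ≠ 1 := by
    intro h
    refine huT (inf_le_pCore hE _ hC ⟨?_, hu⟩)
    intro v hv
    exact (mem_centralizer_singleton_iff.mp ((relIndex_eq_one.mp h) hv).2).symm ▸ rfl
  obtain ⟨k, hk⟩ := (hVp).index ((V ⊓ centralizer ({u} : Set G)).subgroupOf V)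
  change (V ⊓ centralizer ({u} : Set G)).relIndex V = _ at hk
  rw [hk] at hne ⊢
  exact Nat.pow_le_pow_right (Fact.out : p.Prime).pos (by
    rcases Nat.eq_zero_or_pos k with rfl | h
    · exact absurd (pow_zero p) hne
    · omega)

/-- The module bound. -/
theorem sq_or (hE : Cfsg.IsPushingUpSituation p S) (V : Subgroup G) [V.Normal]
    (hVp : IsPGroup p V) (hC : centralizer (V : Set G) ⊔ S ≠ ⊤) {Z₀ : Subgroup G} (hZV : Z₀ ≤ V)
    (hZc : ∀ z ∈ Z₀, ∀ g : G, g * z = z * g) {u : G} (hu : u ∈ S) (huT : u ∉ Cfsg.pCore p G) :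
    (Cfsg.pCore p G).relIndex S ≤ p ∨ (Cfsg.pCore p G).relIndex S ^ 2 ≤ Z₀.relIndex V := by
  obtain ⟨F, _, _, n, π, pt, hF, hπ, hker, hkerT, -, -, -, -, -⟩ := exists_quot hE
  haveI : CharP F p := charP_of_card_eq_prime_pow hF
  have hle : (Cfsg.pCore p G).relIndex S ≤ p ^ n := by
    refine le_trans ?_ ((PushUp.card_le_of_psl hF ((isPGroup hE).map π)).1)
    rw [← Subgroup.relIndex_ker, ← Subgroup.inf_relIndex_right π.ker S]
    exact Subgroup.relIndex_le_of_le_left hkerT Subgroup.index_ne_zero_of_finite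
  by_cases hn : 2 ≤ n
  · refine Or.inr ((Nat.pow_le_pow_left hle 2).trans ?_)
    rw [← pow_mul, mul_comm]
    obtain ⟨-, ⟨P, rfl⟩, -, hu', -⟩ := id hE
    exact PushUp.relIndex_ge_sq hu' hF hn π hπ hVp hZV hZc (not_pResidual_le hE hC)
      (isPGroup_zpowers hE hu) (fun h => huT (hkerT ⟨h, hu⟩))
  · exact Or.inl (hle.trans (Nat.pow_le_pow_right (Fact.out : p.Prime).pos (by omega) |>.trans
      (pow_one p).le))

end Cfsg.Agent.PushingUp
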