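import Cfsg.Agent.Lib.PushingUp.Psl
import Cfsg.Agent.Lib.CentrallyLarge.Basic

/-!
A realisation `τ : P →* G` of a `p`-group `P` as a Sylow subgroup.

* `T p τ`: the pullback of `O_p(G)`; `Y p τ = C_P(T)`; `Zg τ`: the pullback of `Z(G)`.
* `cj τ g X`: the pullback of the conjugate of `X` by `g`, meant for `X ≤ T`.
* `cj_centralizer`, `large_cj`: conjugation respects centralisers and large subgroups over `Y`.
-/

set_option autoImplicit false

open Subgroup Cfsg.Agent.CentrallyLarge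
open scoped Pointwise

namespace Cfsg.Agent.PushingUp.Real

variable {P : Type*} [Group P] {G : Type*} [Group G]

/-- The pullback of `O_p(G)`. -/
def T (p : ℕ) (τ : P →* G) : Subgroup P := (Cfsg.pCore p G).comap τ

/-- `C_P(T)`. -/
def Y (p : ℕ) (τ : P →* G) : Subgroup P := centralizer (T p τ : Set P)

/-- The pullback of `Z(G)`. -/
def Zg (τ : P →* G) : Subgroup P := (center G).comap τ

/-- The pullback of the conjugate by `g`. -/
def cj (τ : P →* G) (g : G) (X : Subgroup P) : Subgroup P :=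
  ((X.map τ).map (MulAut.conj g).toMonoidHom).comap τ

theorem mem_T {p : ℕ} {τ : P →* G} {x : P} : x ∈ T p τ ↔ τ x ∈ Cfsg.pCore p G := Iff.rfl

instance normal_T (p : ℕ) (τ : P →* G) : (T p τ).Normal := by
  haveI := Cores.pCore_normal p G
  exact Subgroup.normal_comap τ

theorem mem_Zg {τ : P →* G} {x : P} : x ∈ Zg τ ↔ ∀ h : G, h * τ x = τ x * h := by
  show τ x ∈ center G ↔ _
  exact mem_center_iff

theorem mem_cj {τ : P →* G} {g : G} {X : Subgroup P} {y : P} :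
    y ∈ cj τ g X ↔ ∃ x ∈ X, g * τ x * g⁻¹ = τ y := by
  constructor
  · rintro ⟨_, ⟨x, hx, rfl⟩, h⟩
    exact ⟨x, hx, h⟩
  · rintro ⟨x, hx, h⟩
    exact ⟨τ x, mem_map_of_mem τ hx, h⟩

theorem mem_cj_iff {τ : P →* G} (hτ : Function.Injective τ) {g : G} {X : Subgroup P} {x y : P}
    (h : g * τ x * g⁻¹ = τ y) : y ∈ cj τ g X ↔ x ∈ X := by
  refine ⟨fun hy => ?_, fun hx => mem_cj.mpr ⟨x, hx, h⟩⟩
  obtain ⟨x', hx', h'⟩ := mem_cj.mp hy
  have : x' = x := hτ (by simpa using h'.trans h.symm)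
  exact this ▸ hx'

theorem cj_mono {τ : P →* G} {g : G} {X X' : Subgroup P} (h : X ≤ X') : cj τ g X ≤ cj τ g X' :=
  comap_mono (Subgroup.map_mono (Subgroup.map_mono h))

section Finite

variable [Finite G] {p : ℕ} {τ : P →* G} {g : G}

theorem conj_mem_core (g : G) {a : G} (ha : a ∈ Cfsg.pCore p G) : g * a * g⁻¹ ∈ Cfsg.pCore p G :=
  (Cores.pCore_normal p G).conj_mem a ha g

theorem exists_conj (hS : Cfsg.pCore p G ≤ τ.range) (g : G) {x : P} (hx : x ∈ T p τ) :
    ∃ y ∈ T p τ, g * τ x * g⁻¹ = τ y := by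
  obtain ⟨y, hy⟩ := hS (conj_mem_core g hx)
  exact ⟨y, by rw [mem_T, hy]; exact conj_mem_core g hx, hy.symm⟩

theorem cj_le (hτ : Function.Injective τ) {X : Subgroup P} (hX : X ≤ T p τ) (g : G) :
    cj τ g X ≤ T p τ := by
  intro y hy
  obtain ⟨x, hx, h⟩ := mem_cj.mp hy
  rw [mem_T, ← h]
  exact conj_mem_core g (hX hx)

theorem cj_cj (hτ : Function.Injective τ) (hS : Cfsg.pCore p G ≤ τ.range) {X : Subgroup P}
    (hX : X ≤ T p τ) (g : G) : cj τ g⁻¹ (cj τ g X) = X := by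
  ext x
  constructor
  · intro hx
    obtain ⟨y, hy, h⟩ := mem_cj.mp hx
    obtain ⟨x', hx', h'⟩ := mem_cj.mp hy
    rw [← h', inv_inv] at h
    have : x' = x := hτ (by rw [← h]; group)
    exact this ▸ hx'
  · intro hx
    obtain ⟨y, -, h⟩ := exists_conj hS g (hX hx)
    exact mem_cj.mpr ⟨y, mem_cj.mpr ⟨x, hx, h⟩, by rw [← h]; group⟩

theorem cj_cj' (hτ : Function.Injective τ) (hS : Cfsg.pCore p G ≤ τ.range) {X : Subgroup P}
    (hX : X ≤ T p τ) (g : G) : cj τ g (cj τ g⁻¹ X) = X := by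
  simpa using cj_cj hτ hS hX g⁻¹

theorem map_cj (hS : Cfsg.pCore p G ≤ τ.range) {X : Subgroup P} (hX : X ≤ T p τ) (g : G) :
    (cj τ g X).map τ = (X.map τ).map (MulAut.conj g).toMonoidHom := by
  rw [cj, map_comap_eq_self]
  rintro _ ⟨_, ⟨x, hx, rfl⟩, rfl⟩
  exact hS (conj_mem_core g (hX hx))

theorem card_cj (hτ : Function.Injective τ) (hS : Cfsg.pCore p G ≤ τ.range) {X : Subgroup P}
    (hX : X ≤ T p τ) (g : G) : Nat.card ↥(cj τ g X) = Nat.card X := by
  rw [← card_map_of_injective (K := cj τ g X) hτ, map_cj hS hX,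
    card_map_of_injective (MulAut.conj g).injective, card_map_of_injective hτ]

theorem cj_T (hτ : Function.Injective τ) (hS : Cfsg.pCore p G ≤ τ.range) (g : G) :
    cj τ g (T p τ) = T p τ :=
  le_antisymm (cj_le hτ le_rfl g) (by
    conv_lhs => rw [← cj_cj' hτ hS (le_refl (T p τ)) g]
    exact cj_mono (cj_le hτ le_rfl _))

theorem cj_sup (hτ : Function.Injective τ) (hS : Cfsg.pCore p G ≤ τ.range) {X X' : Subgroup P}
    (hX : X ≤ T p τ) (hX' : X' ≤ T p τ) (g : G) :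
    cj τ g (X ⊔ X') = cj τ g X ⊔ cj τ g X' := by
  apply Subgroup.map_injective hτ
  rw [map_cj hS (sup_le hX hX'), Subgroup.map_sup, Subgroup.map_sup, Subgroup.map_sup, map_cj hS hX,
    map_cj hS hX']

theorem cj_inf (hτ : Function.Injective τ) (X X' : Subgroup P) (g : G) :
    cj τ g (X ⊓ X') = cj τ g X ⊓ cj τ g X' := by
  rw [cj, cj, cj, Subgroup.map_inf _ _ _ hτ,
    Subgroup.map_inf _ _ _ (MulAut.conj g).injective, Subgroup.comap_inf]

theorem cj_centralizer (hτ : Function.Injective τ) (hS : Cfsg.pCore p G ≤ τ.range) {X : Subgroup P}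
    (hX : X ≤ T p τ) (g : G) :
    cj τ g (centralizer (X : Set P) ⊓ T p τ) = centralizer (cj τ g X : Set P) ⊓ T p τ := by
  ext y
  constructor
  · intro hy
    obtain ⟨x, hx, h⟩ := mem_cj.mp hy
    refine ⟨fun z hz => ?_, cj_le hτ inf_le_right g hy⟩
    obtain ⟨w, hw, h'⟩ := mem_cj.mp hz
    apply hτ
    rw [map_mul, map_mul, ← h, ← h', show g * τ w * g⁻¹ * (g * τ x * g⁻¹) = g * (τ w * τ x) * g⁻¹ by group,
      show g * τ x * g⁻¹ * (g * τ w * g⁻¹) = g * (τ x * τ w) * g⁻¹ by group, ← map_mul, ← map_mul,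
      hx.1 w hw]
  · rintro ⟨hy, hyT⟩
    obtain ⟨x, hxT, h⟩ := exists_conj hS g⁻¹ hyT
    rw [inv_inv] at h
    have h' : g * τ x * g⁻¹ = τ y := by rw [← h]; group
    refine mem_cj.mpr ⟨x, ⟨fun w hw => ?_, hxT⟩, h'⟩
    obtain ⟨z, -, hz⟩ := exists_conj hS g (hX hw)
    have hc := hy z (mem_cj.mpr ⟨w, hw, hz⟩)
    apply hτ
    have h2 : g * τ (w * x) * g⁻¹ = g * τ (x * w) * g⁻¹ := by
      calc g * τ (w * x) * g⁻¹ = (g * τ w * g⁻¹) * (g * τ x * g⁻¹) := by rw [map_mul]; group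
        _ = τ (z * y) := by rw [hz, h', map_mul]
        _ = τ (y * z) := by rw [hc]
        _ = (g * τ x * g⁻¹) * (g * τ w * g⁻¹) := by rw [hz, h', map_mul]
        _ = g * τ (x * w) * g⁻¹ := by rw [map_mul]; group
    simpa using h2

/-- Conjugation of a large subgroup between `Y` and `T` is large. -/
theorem large_cj [Finite P] (hτ : Function.Injective τ) (hS : Cfsg.pCore p G ≤ τ.range)
    (hT : centralizer (Y p τ : Set P) = T p τ) {X : Subgroup P}
    (hYX : Y p τ ≤ X) (hX : X ≤ T p τ) (hYg : cj τ g (Y p τ) = Y p τ)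
    (hL : Cfsg.IsCentralizerLarge X) :
    Cfsg.IsCentralizerLarge (cj τ g X) ∧ centralizer (cj τ g X : Set P) = cj τ g (centralizer (X : Set P)) := by
  have h1 : centralizer (X : Set P) ≤ T p τ :=
    hT ▸ centralizer_le (SetLike.coe_subset_coe.mpr hYX)
  have h2 : centralizer (cj τ g X : Set P) ≤ T p τ :=
    hT ▸ centralizer_le (SetLike.coe_subset_coe.mpr (hYg.ge.trans (cj_mono hYX)))
  have h3 := cj_centralizer hτ hS hX g
  rw [inf_eq_left.mpr h1, inf_eq_left.mpr h2] at h3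
  refine ⟨?_, h3.symm⟩
  unfold Cfsg.IsCentralizerLarge
  rw [← h3, card_cj hτ hS hX, card_cj hτ hS h1]
  exact hL

end Finite

end Cfsg.Agent.PushingUp.Real
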