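import Cfsg.Agent.EqLemmas
import Cfsg.Agent.Lib.PSL2.PGLMaximal
import Cfsg.Agent.Lib.PSL2.Existence
import Cfsg.Agent.Lib.PMinimal.Basic
import Cfsg.Agent.Lib.PReduced.Tools
import Cfsg.Agent.Lib.Cores.Basic
import Cfsg.Prelude.Def_BaumannBlocks

/-!
The basic pushing-up situation.

* `exists_gen`: some conjugate `S'` of `S` generates `G` with every element of `S \ O_p(G)`.
* `inf_le_pCore`: a normal subgroup `N` with `N ⊔ S ≠ ⊤` meets `S` inside `O_p(G)`.
* `closure_normal`: the normal closure `V` of a non-normal subgroup of `Z(S)` is abelian, inside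
  `Z(O_p(G))`, and `C_G(V) ⊔ S ≠ ⊤`.
-/

set_option autoImplicit false

open Subgroup MulAction
open scoped Pointwise

namespace Cfsg.Agent.PushingUp

variable {G : Type*} [Group G] [Finite G] {p : ℕ} [Fact p.Prime] {S : Subgroup G}

theorem pCore_le (hE : Cfsg.IsPushingUpSituation p S) : Cfsg.pCore p G ≤ S := by
  obtain ⟨P, rfl⟩ := hE.2.1
  exact Cores.pCore_le_sylow P

theorem isPGroup (hE : Cfsg.IsPushingUpSituation p S) : IsPGroup p S := by
  obtain ⟨P, rfl⟩ := hE.2.1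
  exact P.2

theorem centralizer_pCore_le (hE : Cfsg.IsPushingUpSituation p S) :
    centralizer (Cfsg.pCore p G : Set G) ≤ Cfsg.pCore p G := hE.2.2.1

theorem exists_gen (hE : Cfsg.IsPushingUpSituation p S) :
    ∃ g : G, ∀ u ∈ S, u ∉ Cfsg.pCore p G → zpowers u ⊔ MulAut.conj g • S = ⊤ := by
  obtain ⟨-, ⟨P, hP⟩, -, huniq, K, hKn, F, _, _, n, hF, ⟨e⟩⟩ := hE
  subst hP
  haveI : CharP F p := charP_of_card_eq_prime_pow hF
  haveI : Finite F := Finite.of_fintype F
  let φ : G →* PSL2.PSL2 F := e.toMonoidHom.comp (QuotientGroup.mk' K)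
  have hφ : Function.Surjective φ := e.surjective.comp (QuotientGroup.mk'_surjective K)
  have hφK : φ.ker ≤ K := fun x hx => by
    have h1 : e (QuotientGroup.mk' K x) = e 1 := (show φ x = 1 from hx).trans (map_one e).symm
    exact (QuotientGroup.eq_one_iff x).mp (e.injective h1)
  obtain ⟨Q, hQ⟩ := (P.2.map φ).exists_le_sylow
  obtain ⟨pt₀, hpt⟩ := PSL2.normalizer_sylow_le p Q
  have hSφ : (P : Subgroup G).map φ ≤ stabilizer (PSL2.PSL2 F) pt₀ := hQ.trans (le_normalizer.trans hpt)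
  set M := (stabilizer (PSL2.PSL2 F) pt₀).comap φ with hMdef
  have hM : IsCoatom M := Subgroup.isCoatom_comap_of_surjective hφ (PSL2.isCoatom_stabilizer_psl pt₀)
  have hSM : (P : Subgroup G) ≤ M := map_le_iff_le_comap.mp hSφ
  have hle : ∀ X : Subgroup G, (P : Subgroup G) ≤ X → X ≠ ⊤ → X ≤ M :=
    fun X h1 h2 => PIrred.le_of_ne_top huniq ⟨hM, hSM⟩ h1 h2
  have hkerM : φ.ker ≤ M := fun x hx => by
    rw [hMdef, mem_comap, show φ x = 1 from hx]; exact one_mem _
  have hker : φ.ker ⊓ (P : Subgroup G) ≤ Cfsg.pCore p G := by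
    have hn : (P : Subgroup G) ≤ normalizer ((φ.ker ⊓ (P : Subgroup G) : Subgroup G) : Set G) :=
      (le_inf (by rw [normalizer_eq_top]; exact le_top) le_normalizer).trans inf_normalizer_le_normalizer_inf
    have hF' := PReduced.frattini_sylow_inf P φ.ker
    have htop : normalizer ((φ.ker ⊓ (P : Subgroup G) : Subgroup G) : Set G) = ⊤ := by
      by_contra h
      refine hM.1 (top_le_iff.1 ?_)
      rw [← hF', inf_comm]
      exact sup_le (hle _ hn h) hkerM
    exact Cores.le_pCore (normalizer_eq_top_iff.1 htop) (P.2.to_le inf_le_right)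
  obtain ⟨h₀, hh₀⟩ : ∃ h : PSL2.PSL2 F, h • pt₀ ≠ pt₀ := by
    by_contra h
    simp only [not_exists, ne_eq, not_not] at h
    exact PSL2.stabilizer_ne_top pt₀ (eq_top_iff.mpr fun x _ => h x)
  obtain ⟨g, rfl⟩ := hφ h₀
  refine ⟨g, fun u hu huT => ?_⟩
  have hu1 : φ u ≠ 1 := fun h => huT (hker ⟨h, hu⟩)
  by_contra hne
  have h1 : (P : Subgroup G) ≤ MulAut.conj g⁻¹ • (zpowers u ⊔ MulAut.conj g • (P : Subgroup G)) := by
    rw [Subgroup.smul_sup, smul_smul, ← map_mul, inv_mul_cancel, map_one, one_smul]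
    exact le_sup_right
  have h2 : MulAut.conj g⁻¹ • (zpowers u ⊔ MulAut.conj g • (P : Subgroup G)) ≠ ⊤ := by
    intro h
    apply hne
    refine top_le_iff.mp fun x _ => ?_
    have hx : g⁻¹ * x * g ∈ (⊤ : Subgroup G) := mem_top _
    rw [← h, Subgroup.mem_pointwise_smul_iff_inv_smul_mem, ← map_inv, inv_inv] at hx
    have hx' : g * (g⁻¹ * x * g) * g⁻¹ ∈ zpowers u ⊔ MulAut.conj g • (P : Subgroup G) := hx
    simpa [mul_assoc] using hx'
  have h3 := hle _ h1 h2
  have h4 : g⁻¹ * u * g ∈ M := by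
    refine h3 ?_
    rw [Subgroup.mem_pointwise_smul_iff_inv_smul_mem, ← map_inv, inv_inv]
    show g * (g⁻¹ * u * g) * g⁻¹ ∈ _
    rw [show g * (g⁻¹ * u * g) * g⁻¹ = u by group]
    exact mem_sup_left (mem_zpowers u)
  have hfix1 : φ u • pt₀ = pt₀ := hSM hu
  have hfix2 : φ u • (φ g • pt₀) = φ g • pt₀ := by
    have h5 : φ (g⁻¹ * u * g) • pt₀ = pt₀ := h4
    rw [map_mul, map_mul, map_inv, mul_smul, mul_smul, inv_smul_eq_iff] at h5
    exact h5
  obtain ⟨k, hk⟩ := IsPGroup.iff_orderOf.mp (P.2.map φ) ⟨φ u, mem_map_of_mem φ hu⟩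
  rw [← Subgroup.orderOf_coe] at hk
  obtain _ | k := k
  · exact hu1 (orderOf_eq_one_iff.mp (by simpa using hk))
  · set y := φ u ^ p ^ k with hy
    have hy1 : y ≠ 1 := fun h => by
      have := Nat.le_of_dvd (pow_pos (Fact.out : p.Prime).pos k) (orderOf_dvd_of_pow_eq_one h)
      rw [show orderOf (φ u) = p ^ (k + 1) from hk] at this
      exact absurd this (not_le.mpr (Nat.pow_lt_pow_right (Fact.out : p.Prime).one_lt k.lt_succ_self))
    have hyp : y ^ p = 1 := by
      rw [hy, ← pow_mul, ← pow_succ, ← show orderOf (φ u) = p ^ (k + 1) from hk, pow_orderOf_eq_one]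
    have hymem : ∀ q : PSL2.Pt F, φ u • q = q → y • q = q := fun q hq =>
      mem_stabilizer_iff.mp (pow_mem (mem_stabilizer_iff.mpr hq) _)
    refine hh₀ (PSL2.eq_of_fix_pow_char p
      (fun h => hy1 (Matrix.ProjectiveSpecialLinearGroup.toPGL_injective (h.trans (map_one _).symm)))
      (by rw [← map_pow, hyp, map_one]) ?_ ?_).symm
    · rw [PSL2.toPGL_smul]; exact hymem _ hfix1
    · rw [PSL2.toPGL_smul]; exact hymem _ hfix2

/-- A normal subgroup not supplementing `S` meets it inside `O_p(G)`. -/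
theorem inf_le_pCore (hE : Cfsg.IsPushingUpSituation p S) (N : Subgroup G) [hN : N.Normal]
    (h : N ⊔ S ≠ ⊤) : N ⊓ S ≤ Cfsg.pCore p G := by
  obtain ⟨g, hg⟩ := exists_gen hE
  rintro u ⟨huN, huS⟩
  by_contra huT
  refine h (top_le_iff.mp fun x _ => ?_)
  have hle : zpowers u ⊔ MulAut.conj g • S ≤ MulAut.conj g • (N ⊔ S) := by
    rw [Subgroup.smul_sup]
    refine sup_le ((zpowers_le.mpr ?_).trans le_sup_left) le_sup_right
    rw [Subgroup.mem_pointwise_smul_iff_inv_smul_mem, ← map_inv]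
    exact hN.conj_mem u huN g⁻¹
  rw [hg u huS huT] at hle
  exact (Subgroup.smul_mem_pointwise_smul_iff (a := MulAut.conj g)).mp (hle (mem_top _))

/-- A subgroup of `Z(S)` that is not normal gives an abelian normal subgroup in `Z(O_p(G))`. -/
theorem closure_normal (hE : Cfsg.IsPushingUpSituation p S) {Z₀ : Subgroup G}
    (hZ : Z₀ ≤ S ⊓ centralizer (S : Set G)) (hn : ¬ Z₀.Normal) :
    normalClosure (Z₀ : Set G) ≤ Cfsg.pCore p G ⊓ centralizer (Cfsg.pCore p G : Set G) ∧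
      centralizer (normalClosure (Z₀ : Set G) : Set G) ⊔ S ≠ ⊤ := by
  have h1 : Z₀ ≤ centralizer (Cfsg.pCore p G : Set G) :=
    (hZ.trans inf_le_right).trans (centralizer_le (SetLike.coe_subset_coe.mpr (pCore_le hE)))
  refine ⟨normalClosure_le_normal fun x hx => ⟨centralizer_pCore_le hE (h1 hx), h1 hx⟩, fun h => hn ?_⟩
  have h2 : ⊤ ≤ centralizer (Z₀ : Set G) := by
    rw [← h]
    exact sup_le (centralizer_le (subset_normalClosure))
      (le_centralizer_iff.mp (hZ.trans inf_le_right))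
  refine ⟨fun z hz g => ?_⟩
  rw [← h2 (mem_top g) z hz, mul_inv_cancel_right]
  exact hz

end Cfsg.Agent.PushingUp
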