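import Cfsg.Agent.Lib.PushingUp.Side

/-!
Two realisations with `Y' ≤ T` and `T ≠ T'`; `U = Y Y'`.

* `Pair.centralizer_U`, `Pair.simple`: `C_P(U) = T ∩ T'`; no large subgroup lies strictly between `Y` and `U`.
* `Pair.value`: if `U` is not normal in `G`, then `[U, T] ≤ Z_G`.
-/

set_option autoImplicit false

open Subgroup Cfsg.Agent.CentrallyLarge
open scoped Pointwise

namespace Cfsg.Agent.PushingUp

open Real

variable {P : Type*} [Group P] [Finite P] {G : Type*} [Group G] [Finite G] {G' : Type*} [Group G']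
  [Finite G'] {p : ℕ} [Fact p.Prime] {τ : P →* G} {τ' : P →* G'}

/-- Two realisations in which neither module leaves the other core. -/
structure Pair (p : ℕ) (τ : P →* G) (τ' : P →* G') : Prop where
  left : Side p τ
  right : Side p τ'
  alarge : ∀ A ∈ Cfsg.maxAbelianSubgroups P, Cfsg.IsCentralizerLarge A
  nc : Y p τ' ≤ T p τ
  ne : T p τ ≠ T p τ'

namespace Pair

theorem symm (h : Pair p τ τ') : Pair p τ' τ where
  left := h.right
  right := h.left
  alarge := h.alarge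
  nc := by
    rw [← h.right.centralizer_Y, Subgroup.le_centralizer_iff, h.left.centralizer_Y]
    exact h.nc
  ne := h.ne.symm

theorem not_T_le (h : Pair p τ τ') : ¬ T p τ ≤ T p τ' := by
  intro hle
  obtain ⟨v, hv, hvT⟩ := SetLike.exists_of_lt (lt_of_le_of_ne hle h.ne)
  refine h.right.T_ne_top ?_
  rw [← h.right.centralizer_Y]
  refine top_le_iff.mp fun x _ y hy => ?_
  have hyY : y ∈ Y p τ := fun t ht => hy t (hle ht)
  exact (mem_center_iff.mp (h.left.mem_center_of_commute hvT hyY (hy v hv)) x).symm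

theorem exists_left (h : Pair p τ τ') : ∃ v ∈ T p τ, v ∉ T p τ' := SetLike.not_le_iff_exists.mp h.not_T_le

theorem exists_right (h : Pair p τ τ') : ∃ v ∈ T p τ', v ∉ T p τ := h.symm.exists_left

theorem Y_inf (h : Pair p τ τ') : Y p τ ⊓ Y p τ' = center P := by
  refine le_antisymm ?_ (le_inf Side.center_le_Y Side.center_le_Y)
  rintro y ⟨hy, hy'⟩
  obtain ⟨v, hv, hvT⟩ := h.exists_right
  exact h.left.mem_center_of_commute hvT hy (hy' v hv)

theorem T_sup (h : Pair p τ τ') : T p τ ⊔ T p τ' = ⊤ := by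
  rw [← centralizer_centralizer_eq (centralizerLarge_sup h.left.large_T h.right.large_T), centralizer_sup]
  show centralizer ((Y p τ ⊓ Y p τ' : Subgroup P) : Set P) = ⊤
  rw [h.Y_inf]
  exact top_le_iff.mp fun x _ z hz => (mem_center_iff.mp hz x).symm

theorem large_U (h : Pair p τ τ') : Cfsg.IsCentralizerLarge (Y p τ ⊔ Y p τ') :=
  centralizerLarge_sup h.left.large_Y h.right.large_Y

theorem centralizer_U (h : Pair p τ τ') :
    centralizer ((Y p τ ⊔ Y p τ' : Subgroup P) : Set P) = T p τ ⊓ T p τ' := by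
  rw [centralizer_sup, h.left.centralizer_Y, h.right.centralizer_Y]

theorem U_le (h : Pair p τ τ') : Y p τ ⊔ Y p τ' ≤ T p τ ⊓ T p τ' :=
  sup_le (le_inf h.left.centralizer_T_le h.symm.nc) (le_inf h.nc h.right.centralizer_T_le)

theorem centralizer_X (h : Pair p τ τ') :
    centralizer ((T p τ ⊓ T p τ' : Subgroup P) : Set P) = Y p τ ⊔ Y p τ' := by
  rw [← h.centralizer_U, centralizer_centralizer_eq h.large_U]

theorem mul_mem_U (h : Pair p τ τ') {w : P} (hw : w ∈ Y p τ ⊔ Y p τ') :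
    ∃ y ∈ Y p τ, ∃ y' ∈ Y p τ', y * y' = w := by
  rw [← SetLike.mem_coe, coe_sup_eq_mul h.left.large_Y h.right.large_Y] at hw
  obtain ⟨y, hy, y', hy', he⟩ := hw
  exact ⟨y, hy, y', hy', he⟩

/-- No large subgroup strictly between `Y` and `U`. -/
theorem simple (h : Pair p τ τ') {L : Subgroup P} (hL : Cfsg.IsCentralizerLarge L) (hYL : Y p τ ≤ L)
    (hLU : L ≤ Y p τ ⊔ Y p τ') : L = Y p τ ∨ L = Y p τ ⊔ Y p τ' := by
  refine or_iff_not_imp_left.mpr fun hne => le_antisymm hLU ?_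
  obtain ⟨w, hwL, hwY⟩ := SetLike.exists_of_lt (lt_of_le_of_ne hYL (Ne.symm hne))
  obtain ⟨y, hy, y', hy', rfl⟩ := h.mul_mem_U (hLU hwL)
  have hy'L : y' ∈ L := by simpa using mul_mem (inv_mem (hYL hy)) hwL
  have hy'Z : y' ∉ center P := fun hz => hwY (mul_mem hy (Side.center_le_Y hz))
  rw [← centralizer_centralizer_eq hL, ← h.centralizer_X]
  refine centralizer_le (SetLike.coe_subset_coe.mpr fun c hc => ⟨?_, ?_⟩)
  · rw [← h.left.centralizer_Y]
    exact centralizer_le (SetLike.coe_subset_coe.mpr hYL) hc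
  · by_contra hcT
    exact hy'Z (h.right.mem_center_of_commute hcT hy' (hc y' hy'L).symm)

theorem U_quad (h : Pair p τ τ') {w : P} (hw : w ∈ Y p τ ⊔ Y p τ') (b : P) :
    b * w * b⁻¹ * w⁻¹ ∈ center P := by
  obtain ⟨y, hy, y', hy', rfl⟩ := h.mul_mem_U hw
  have h2 := h.right.quad hy' b
  have h1 := h.left.quad hy b
  rw [show b * (y * y') * b⁻¹ * (y * y')⁻¹ =
    b * y * b⁻¹ * (b * y' * b⁻¹ * y'⁻¹) * y⁻¹ by group, mem_center_iff.mp h2 (b * y * b⁻¹), mul_assoc]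
  exact mul_mem h2 h1

theorem U_quad' (h : Pair p τ τ') {w : P} (hw : w ∈ Y p τ ⊔ Y p τ') (b : P) :
    w * b * w⁻¹ * b⁻¹ ∈ center P := by
  have h1 := inv_mem (h.U_quad hw b)
  rwa [mul_inv_rev, mul_inv_rev, mul_inv_rev, inv_inv, inv_inv, ← mul_assoc, ← mul_assoc] at h1

theorem U_normal (h : Pair p τ τ') : (Y p τ ⊔ Y p τ').Normal :=
  ⟨fun w hw b => by
    simpa using mul_mem (show b * w * b⁻¹ * w⁻¹ ∈ Y p τ ⊔ Y p τ' from
      mem_sup_left (Side.center_le_Y (h.U_quad hw b))) hw⟩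

theorem exists_offender (h : Pair p τ τ') :
    ∃ A ∈ Cfsg.maxAbelianSubgroups P, ¬ A ≤ T p τ := by
  by_contra hA
  simp only [not_exists, not_and, not_not] at hA
  exact h.left.T_ne_top (top_le_iff.mp (h.left.jtop ▸ sSup_le hA))

/-- The value lemma. -/
theorem value (h : Pair p τ τ') (hn : ¬ ((Y p τ ⊔ Y p τ').map τ).Normal) {w t : P}
    (hw : w ∈ Y p τ ⊔ Y p τ') (ht : t ∈ T p τ) : w * t * w⁻¹ * t⁻¹ ∈ Zg τ := by
  have hl := h.left
  set U := Y p τ ⊔ Y p τ'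
  obtain ⟨A, hA, hAT⟩ := h.exists_offender
  obtain ⟨v, hvA, hvT⟩ := SetLike.not_le_iff_exists.mp hAT
  obtain ⟨g, hg⟩ := PushingUp.exists_Gen hl.sit
  have hAab : A ≤ centralizer (A : Set P) := maxAbelian_le_centralizer hA
  have hCA : centralizer (A : Set P) = A := maxAbelian_centralizer hA
  have hAl := h.alarge A hA
  set A₁ := (A ⊓ T p τ) ⊔ Y p τ with hA₁
  have hA₁l : Cfsg.IsCentralizerLarge A₁ :=
    centralizerLarge_sup (centralizerLarge_inf hAl hl.large_T) hl.large_Y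
  have hA₁T : A₁ ≤ T p τ := sup_le inf_le_right hl.centralizer_T_le
  have hCA₁ : centralizer (A₁ : Set P) = A₁ := by
    rw [hA₁, centralizer_sup, centralizer_inf_eq hAl hl.large_T, hCA, hl.centralizer_Y]
    refine le_antisymm ?_ (sup_le (inf_le_inf_right _ le_sup_left) (le_inf le_sup_right hl.centralizer_T_le))
    rintro x ⟨hx, hxT⟩
    replace hx : x ∈ A ⊔ Y p τ := hx
    rw [← SetLike.mem_coe, coe_sup_eq_mul hAl hl.large_Y] at hx
    obtain ⟨a, ha, y, hy, rfl⟩ := hx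
    refine mul_mem (mem_sup_left ⟨ha, ?_⟩) (mem_sup_right hy)
    simpa using (T p τ).mul_mem hxT ((T p τ).inv_mem (hl.centralizer_T_le hy))
  obtain ⟨hBl, hCB⟩ := Real.large_cj (g := g) hl.inj hl.core_le hl.centralizer_Y le_sup_right hA₁T
    (hl.cj_Y g) hA₁l
  rw [hCA₁] at hCB
  set B := cj τ g A₁
  have hBT : B ≤ T p τ := cj_le hl.inj hA₁T g
  have hYB : Y p τ ≤ B := (hl.cj_Y g).ge.trans (cj_mono le_sup_right)
  -- the element moving `B` modulo `Z^g`
  set v' := g * τ v * g⁻¹ with hv'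
  have hact : ∀ n ∈ B, ∃ c ∈ cj τ g (center P), v' * τ n * v'⁻¹ = τ (c * n) := by
    intro n hn
    obtain ⟨m, hm, hmn⟩ := mem_cj.mp hn
    rw [hA₁, ← SetLike.mem_coe, coe_sup_eq_mul (centralizerLarge_inf hAl hl.large_T) hl.large_Y] at hm
    obtain ⟨a, ha, y, hy, rfl⟩ := hm
    set z := v * y * v⁻¹ * y⁻¹
    have hz : z ∈ center P := hl.quad hy v
    have hvm : v * (a * y) * v⁻¹ = z * (a * y) := by
      have h1 : v * a = a * v := (hAab hvA a ha.1).symm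
      calc v * (a * y) * v⁻¹ = v * a * y * v⁻¹ := by group
        _ = a * (z * y) := by rw [h1]; simp only [z]; group
        _ = z * (a * y) := by rw [← mul_assoc, mem_center_iff.mp hz a, mul_assoc]
    obtain ⟨c, -, hc⟩ := Real.exists_conj hl.core_le g (Side.center_le_Y.trans hl.centralizer_T_le hz)
    refine ⟨c, mem_cj.mpr ⟨z, hz, hc⟩, ?_⟩
    rw [map_mul, ← hc, ← hmn]
    calc v' * (g * τ (a * y) * g⁻¹) * v'⁻¹ = g * (τ v * τ (a * y) * (τ v)⁻¹) * g⁻¹ := by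
          rw [hv']; group
      _ = g * τ (v * (a * y) * v⁻¹) * g⁻¹ := by simp [map_mul, mul_assoc]
      _ = _ := by rw [hvm, map_mul]; group
  have hcY : cj τ g (center P) ≤ Y p τ := (cj_mono Side.center_le_Y).trans (hl.cj_Y g).le
  -- `v'` normalises the centraliser of `X ∩ B`
  have hXl : Cfsg.IsCentralizerLarge (T p τ ⊓ T p τ') := centralizerLarge_inf hl.large_T h.right.large_T
  have hCR : centralizer ((T p τ ⊓ T p τ' ⊓ B : Subgroup P) : Set P) = U ⊔ B := by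
    rw [centralizer_inf_eq hXl hBl, h.centralizer_X, hCB]
  have hinv : ∀ r ∈ U ⊔ B, ∃ r' ∈ U ⊔ B, v' * τ r * v'⁻¹ = τ r' := by
    intro r hr
    have hrT : r ∈ T p τ := (sup_le (h.U_le.trans inf_le_left) hBT) hr
    obtain ⟨r', -, hr'⟩ := Real.exists_conj hl.core_le v' hrT
    refine ⟨r', ?_, hr'⟩
    rw [← hCR]
    rintro x ⟨hxX, hxB⟩
    obtain ⟨c, hc, hcx⟩ := hact x hxB
    have hcU : c ∈ U := mem_sup_left (hcY hc)
    have hmem : c⁻¹ * x ∈ T p τ ⊓ T p τ' ⊓ B :=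
      ⟨(T p τ ⊓ T p τ').mul_mem ((T p τ ⊓ T p τ').inv_mem (h.U_le hcU)) hxX,
        B.mul_mem (B.inv_mem (hYB (hcY hc))) hxB⟩
    obtain ⟨c', hc', hcx'⟩ := hact _ hmem.2
    have hcom : r * (c⁻¹ * x) = c⁻¹ * x * r := by
      rw [← hCR] at hr
      exact (hr _ hmem).symm
    have hv'c : v' * τ c * v'⁻¹ = τ c := by
      obtain ⟨z, hz, hzc⟩ := mem_cj.mp hc
      rw [← hzc, hv']
      have := mem_center_iff.mp hz v
      calc g * τ v * g⁻¹ * (g * τ z * g⁻¹) * (g * τ v * g⁻¹)⁻¹ = g * (τ v * τ z * (τ v)⁻¹) * g⁻¹ := by group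
        _ = _ := by rw [← map_mul, this, map_mul]; group
    have hx' : v' * τ (c⁻¹ * x) * v'⁻¹ = τ x := by
      calc v' * τ (c⁻¹ * x) * v'⁻¹ = (v' * τ c * v'⁻¹)⁻¹ * (v' * τ x * v'⁻¹) := by rw [map_mul, map_inv]; group
        _ = _ := by rw [hv'c, hcx, map_mul]; group
    apply hl.inj
    rw [map_mul, map_mul, ← hr', ← hx']
    calc v' * τ (c⁻¹ * x) * v'⁻¹ * (v' * τ r * v'⁻¹) = v' * (τ (c⁻¹ * x) * τ r) * v'⁻¹ := by group
      _ = v' * (τ r * τ (c⁻¹ * x)) * v'⁻¹ := by rw [← map_mul, ← map_mul, hcom]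
      _ = _ := by group
  -- the values on `B`
  have hB : ∀ w ∈ U, ∀ n ∈ B, w * n * w⁻¹ * n⁻¹ ∈ Zg τ := by
    intro w hw n hn
    obtain ⟨c, hc, hcn⟩ := hact n hn
    obtain ⟨r', hr', hwr⟩ := hinv w (mem_sup_left hw)
    rw [← SetLike.mem_coe, coe_sup_eq_mul h.large_U hBl] at hr'
    obtain ⟨u₁, hu₁, b, hb, rfl⟩ := hr'
    set z := w * n * w⁻¹ * n⁻¹
    set n' := c * n
    set z' := u₁ * n' * u₁⁻¹ * n'⁻¹
    have hz : z ∈ center P := h.U_quad' hw n
    have hz' : z' ∈ center P := h.U_quad' hu₁ n'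
    have hn'B : n' ∈ B := mul_mem (hYB (hcY hc)) hn
    have hbn : b * n' = n' * b := (hCB.ge hb n' hn'B).symm
    have hzz : v' * τ z * v'⁻¹ = τ z' := by
      calc v' * τ z * v'⁻¹ = (v' * τ w * v'⁻¹) * (v' * τ n * v'⁻¹) * (v' * τ w * v'⁻¹)⁻¹ *
            (v' * τ n * v'⁻¹)⁻¹ := by simp only [z, map_mul, map_inv]; group
        _ = τ (u₁ * b * n' * (u₁ * b)⁻¹ * n'⁻¹) := by rw [hwr, hcn]; simp only [n', map_mul, map_inv]
        _ = τ z' := by
          rw [mul_assoc u₁ b n', hbn]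
          congr 1
          simp only [z']
          group
    obtain ⟨y₁, hy₁T, hy₁⟩ := Real.exists_conj hl.core_le g⁻¹ (Side.center_le_Y.trans hl.centralizer_T_le hz)
    obtain ⟨y₂, hy₂T, hy₂⟩ := Real.exists_conj hl.core_le g⁻¹ (Side.center_le_Y.trans hl.centralizer_T_le hz')
    rw [inv_inv] at hy₁ hy₂
    have hy₁Z : y₁ ∈ cj τ g⁻¹ (center P) := mem_cj.mpr ⟨z, hz, by rw [inv_inv]; exact hy₁⟩
    have hy₂Z : y₂ ∈ cj τ g⁻¹ (center P) := mem_cj.mpr ⟨z', hz', by rw [inv_inv]; exact hy₂⟩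
    have hy₁Y : y₁ ∈ Y p τ := (hl.cj_Y g⁻¹).le (cj_mono Side.center_le_Y hy₁Z)
    have hv : v * y₁ * v⁻¹ = y₂ := by
      apply hl.inj
      rw [map_mul, map_mul, map_inv, ← hy₁, ← hy₂, ← hzz, hv']
      group
    have h1 : v * y₁ * v⁻¹ * y₁⁻¹ ∈ Zg τ := by
      rw [← hl.center_inf_cj hg.inv]
      exact ⟨hl.quad hy₁Y v, hv.symm ▸ (cj τ g⁻¹ (center P)).mul_mem hy₂Z ((cj τ g⁻¹ (center P)).inv_mem hy₁Z)⟩
    have h2 := hl.mem_Zg_of_mod hg.inv hvT hy₁Z h1
    have h3 : τ z = τ y₁ := by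
      calc τ z = g * (g⁻¹ * τ z * g) * g⁻¹ := by group
        _ = g * τ y₁ * g⁻¹ := by rw [hy₁]
        _ = τ y₁ := Side.mem_cj_Zg g h2
    exact hl.inj h3 ▸ h2
  -- `T = X B`
  have hUB : U ⊓ B = Y p τ := by
    rcases h.simple (centralizerLarge_inf h.large_U hBl) (le_inf le_sup_left hYB) inf_le_left with e | e
    · exact e
    exfalso
    refine hn ?_
    rw [← normalizer_eq_top_iff, eq_top_iff, ← hl.gen_top hg hvT]
    have hUn := h.U_normal
    refine sup_le (zpowers_le.mpr (mem_normalizer_fintype ?_)) ?_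
    · rintro _ ⟨w, hw, rfl⟩
      obtain ⟨c, hc, hcw⟩ := hact w (inf_eq_left.mp e hw)
      exact ⟨c * w, mul_mem (mem_sup_left (hcY hc)) hw, hcw.symm⟩
    · rintro _ ⟨a, rfl⟩
      refine mem_normalizer_fintype ?_
      rintro _ ⟨w, hw, rfl⟩
      exact ⟨a * w * a⁻¹, hUn.conj_mem w hw a, by rw [map_mul, map_mul, map_inv]⟩
  have hTeq : T p τ = (T p τ ⊓ T p τ') ⊔ B := by
    calc T p τ = centralizer (Y p τ : Set P) := hl.centralizer_Y.symm
      _ = centralizer ((U ⊓ B : Subgroup P) : Set P) := by rw [hUB]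
      _ = _ := by rw [centralizer_inf_eq h.large_U hBl, h.centralizer_U, hCB]
  rw [hTeq, ← SetLike.mem_coe, coe_sup_eq_mul hXl hBl] at ht
  obtain ⟨x, hx, n, hn', rfl⟩ := ht
  have hxw : w * x = x * w := by
    rw [← h.centralizer_U] at hx
    exact hx w hw
  have h1 := hB w hw n hn'
  rw [show w * (x * n) * w⁻¹ * (x * n)⁻¹ = w * x * (n * w⁻¹ * n⁻¹) * x⁻¹ by group, hxw,
    show x * w * (n * w⁻¹ * n⁻¹) * x⁻¹ = x * (w * n * w⁻¹ * n⁻¹) * x⁻¹ by group,
    mem_center_iff.mp (hl.Zg_le_center h1) x, mul_inv_cancel_right]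
  exact h1

end Pair

end Cfsg.Agent.PushingUp
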